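import Cfsg.Agent.OddHalf.D8.Sheet

/-!
# ODD half, D8: the fact sheet of `K = HS` (helper702, helper473)

All facts are about the abstract group `K`. `z` is of class 2A, `P = C_K(u) = R.A5` (`u² = z`), `C_K(z) = R.S5`,
`R = 4 ∘ 2^{1+4}`. `k ∈ K` with `k⁻¹ z k`, `k z k⁻¹ ∈ C_K(z) - P`.
-/

set_option autoImplicit false

namespace Cfsg.Agent.OddHalf.D8.HS.SheetHS

open Subgroup

/-- the fact sheet of `HS` -/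
structure SheetHS {K : Type*} [Group K] (z u k : K) (P R : Subgroup K) : Prop where
  zz : z * z = 1
  z1 : z ≠ 1
  uu : u * u = z
  uR : u ∈ R
  RP : R ≤ P
  /-- `P = C_K(u)` -/
  memP : ∀ x, x ∈ P ↔ x * u = u * x
  /-- `R` is normal in `P` -/
  Rn : ∀ x ∈ P, ∀ r ∈ R, x * r * x⁻¹ ∈ R
  /-- `C_K(z)` normalises `⟨u⟩` -/
  inv : ∀ x, x * z = z * x → x * u * x⁻¹ = u ∨ x * u * x⁻¹ = u⁻¹
  /-- `z` is 2-central and `Z(S) = ⟨z⟩` -/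
  syl : ∃ S : Sylow 2 K, z ∈ S ∧ (∀ x ∈ S, x * z = z * x) ∧
    ∀ y ∈ S, (∀ x ∈ S, x * y = y * x) → y = 1 ∨ y = z
  perf : ⁅P, P⁆ = P
  /-- `P` is the last term of the derived series of `C_K(z)` -/
  der : ∃ m, TR.dser m (centralizer ({z} : Set K)) ≤ P
  /-- `|Out(K)|₂ ≤ 2` -/
  out : ¬ 4 ∣ (MulAut.conj : K →* MulAut K).range.index
  schreier : ∃ n, TR.dser n (⊤ : Subgroup (MulAut K)) ≤ (MulAut.conj : K →* MulAut K).range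
  /-- a 2-element of `Aut(K)` centralising a Sylow 2-subgroup whose centre contains `z` is inner -/
  sylAut : ∀ S : Sylow 2 K, (∀ x ∈ S, x * z = z * x) → ∀ α : MulAut K, IsPGroup 2 (zpowers α) →
    (∀ x ∈ S, α x = x) → ∃ k : K, α = MulAut.conj k
  cardR : Nat.card R = 64
  /-- 2-subgroups of `C_K(z)` normalised by `P` -/
  core : ∀ B : Subgroup K, B ≤ centralizer ({z} : Set K) → IsPGroup 2 B →
    (∀ x ∈ P, ∀ b ∈ B, x * b * x⁻¹ ∈ B) → B ≤ R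
  /-- `P`-invariant subgroups of `R` -/
  subs : ∀ B : Subgroup K, B ≤ R → (∀ x ∈ P, ∀ b ∈ B, x * b * x⁻¹ ∈ B) →
    (∀ b ∈ B, b = 1 ∨ b = z ∨ b = u ∨ b = u⁻¹) ∨ B = R
  /-- `C_P(R) = ⟨u⟩` -/
  cR : ∀ x ∈ P, (∀ r ∈ R, x * r = r * x) → x = 1 ∨ x = z ∨ x = u ∨ x = u⁻¹
  /-- 2-elements of `Aut(K)` fixing `z` and trivial on `P/R` -/
  aut : ∀ α : MulAut K, IsPGroup 2 (zpowers α) → α z = z → (∀ x ∈ P, x⁻¹ * α x ∈ R) →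
    (∃ r ∈ R, α = MulAut.conj r) ∨ α u = u⁻¹
  /-- `w = k⁻¹ z k` -/
  kz : k⁻¹ * z * k * z = z * (k⁻¹ * z * k)
  kP : k⁻¹ * z * k ∉ P
  /-- `z₁ = k z k⁻¹` -/
  kz' : k * z * k⁻¹ * z = z * (k * z * k⁻¹)
  kP' : k * z * k⁻¹ ∉ P
  /-- involutions of `C_K(z) - P` are of class 2A and conjugate to `w`, or of class 2B -/
  y1 : ∀ s : K, s * z = z * s → s ∉ P → s * s = 1 →
    (∃ c : K, c * z = z * c ∧ s = c * (k⁻¹ * z * k) * c⁻¹) ∨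
    ∃ L : Subgroup K, (∀ l ∈ L, l * s = s * l) ∧ ⁅L, L⁆ = L ∧ L ≠ ⊥ ∧
      (∃ m, TR.dser m (centralizer ({s} : Set K)) ≤ L) ∧
      ∀ B : Subgroup K, B ≤ L → IsPGroup 2 B → (∀ l ∈ L, ∀ b ∈ B, l * b * l⁻¹ ∈ B) → B = ⊥
  /-- outer automorphisms fixing `z` and inverting `u` act on `P/R` as elements of `P` -/
  y3 : ∀ α : MulAut K, (∀ g : K, α ≠ MulAut.conj g) → α z = z → α u = u⁻¹ →
    ∃ p ∈ P, ∀ x ∈ P, (p * x * p⁻¹)⁻¹ * α x ∈ R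
  /-- elements of `C_K(z)` trivial on `P/R` -/
  y4 : ∀ x : K, x * z = z * x → (∀ y ∈ P, y⁻¹ * (x * y * x⁻¹) ∈ R) → x ∈ R
  /-- `[R, z₁]` contains three singular vectors -/
  y5 : ∃ r₁ ∈ R, ∃ r₂ ∈ R, ∃ s₁ s₂ : K, (k * z * k⁻¹) * r₁ * (k * z * k⁻¹)⁻¹ * r₁⁻¹ = s₁ ∧
    (k * z * k⁻¹) * r₂ * (k * z * k⁻¹)⁻¹ * r₂⁻¹ = s₂ ∧ s₁ * s₁ = 1 ∧ s₂ * s₂ = 1 ∧
    s₁ * s₂ * (s₁ * s₂) = 1 ∧ (s₁ ≠ 1 ∧ s₁ ≠ z) ∧ (s₂ ≠ 1 ∧ s₂ ≠ z) ∧ (s₁ * s₂ ≠ 1 ∧ s₁ * s₂ ≠ z)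

variable {K : Type*} [Group K] {z u k : K} {P R : Subgroup K}

theorem SheetHS.basic (h : SheetHS z u k P R) : Sheet.Basic z P where
  zz := h.zz
  z1 := h.z1
  syl := h.syl
  zP := by
    rw [← h.uu]
    exact P.mul_mem (h.RP h.uR) (h.RP h.uR)
  cen := by
    intro x hx
    have h1 : Commute x u := (h.memP x).1 hx
    rw [← h.uu]
    exact (h1.mul_right h1).eq
  perf := h.perf
  der := h.der
  out := h.out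
  schreier := h.schreier
  sylAut := h.sylAut

end Cfsg.Agent.OddHalf.D8.HS.SheetHS
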