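import Cfsg.Agent.OddHalf.CaseM.RankOne

/-!
# Components with a very small centralizer of an involution, K = HS

Additions to `CaseM/RankOne` for `C_M(t) ≤ ⟨t, x₀⟩`, `x₀` of order 4 with `x₀² = z`:

* `false_of_center`: `x₀ ∈ Z(M)` is impossible;
* `unique_of_four`: `C_M(x₀) = ⟨x₀⟩` implies that `z` is the only involution of `M`.
-/

set_option autoImplicit false

namespace Cfsg.Agent.OddHalf.D8.HS.RankOne

open Subgroup Cfsg
open Cfsg.Agent.OddHalf.CaseM (exists_conj_of_perfect)

/-- in a perfect group, central elements of a Sylow subgroup lie in its commutator subgroup -/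
theorem mem_commutator_of_center {M : Type*} [Group M] [Finite M] (hM : Group.IsPerfect M) (Q : Sylow 2 M)
    {x : M} (hx : ∀ y, y * x = x * y) (hxQ : x ∈ (Q : Subgroup M)) :
    (⟨x, hxQ⟩ : Q) ∈ commutator (Q : Subgroup M) := by
  classical
  have : Fact (Nat.Prime 2) := ⟨Nat.prime_two⟩
  set φ : (Q : Subgroup M) →* Abelianization (Q : Subgroup M) := Abelianization.of with hφ
  have key : ∀ (k : ℕ) (g₀ : M), g₀⁻¹ * x ^ k * g₀ ∈ (Q : Subgroup M) → g₀⁻¹ * x ^ k * g₀ = x ^ k := by
    intro k g₀ _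
    have h1 : Commute g₀ (x ^ k) := (show Commute g₀ x from hx g₀).pow_right k
    rw [mul_assoc, ← h1.eq, inv_mul_cancel_left]
  have h1 := MonoidHom.transfer_eq_pow φ x key
  have h2 : MonoidHom.transfer φ x = 1 := by
    have h3 : x ∈ (MonoidHom.transfer φ).ker := by
      have h4 : commutator M ≤ (MonoidHom.transfer φ).ker :=
        Abelianization.commutator_subset_ker (MonoidHom.transfer φ)
      rw [hM.commutator_eq_top] at h4
      exact h4 trivial
    exact h3
  rw [h2] at h1
  -- `φ x` has odd order and 2-power order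
  have h3 : φ ⟨x, hxQ⟩ ^ (Q : Subgroup M).index = 1 := by
    rw [← map_pow, h1]
    rfl
  obtain ⟨n, hn⟩ := Q.isPGroup' ⟨x, hxQ⟩
  have h4 : φ ⟨x, hxQ⟩ ^ (2 ^ n) = 1 := by rw [← map_pow, hn, map_one]
  have h5 : Nat.Coprime (Q : Subgroup M).index (2 ^ n) := by
    apply Nat.Coprime.pow_right
    exact (Nat.coprime_comm.1 ((Nat.Prime.coprime_iff_not_dvd Nat.prime_two).2 Q.not_dvd_index))
  have h6 : φ ⟨x, hxQ⟩ = 1 := by
    have h7 := orderOf_dvd_of_pow_eq_one h3
    have h8 := orderOf_dvd_of_pow_eq_one h4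
    have h9 := Nat.dvd_gcd h7 h8
    rw [h5] at h9
    exact orderOf_eq_one_iff.1 (Nat.dvd_one.1 h9)
  rw [hφ] at h6
  have h7 : (⟨x, hxQ⟩ : Q) ∈ (Abelianization.of : (Q : Subgroup M) →* _).ker := h6
  rwa [Abelianization.ker_of] at h7

/-- elements of `[Q, Q]` are inverted by the elements outside of an abelian subgroup of index two -/
theorem commutator_inverted {Q : Type*} [Group Q] {A : Subgroup Q} (hA : ∀ a ∈ A, ∀ b ∈ A, a * b = b * a)
    (hAi : A.index = 2) {b : Q} (hb : b ∉ A) {x : Q} (hx : x ∈ commutator Q) : b * x * b⁻¹ = x⁻¹ := by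
  have hAn : A.Normal := normal_of_index_eq_two hAi
  have hmem : ∀ y, y ∉ A → y * b⁻¹ ∈ A := by
    intro y hy
    have hb' : b⁻¹ ∉ A := fun h => hb (by simpa using A.inv_mem h)
    exact (mul_mem_iff_of_index_two hAi).2 ⟨fun h => absurd h hy, fun h => absurd h hb'⟩
  -- the subgroup of inverted elements
  let E : Subgroup Q :=
    { carrier := {x | x ∈ A ∧ b * x * b⁻¹ = x⁻¹}
      one_mem' := ⟨A.one_mem, by simp⟩
      mul_mem' := by
        rintro x y ⟨hx, hx'⟩ ⟨hy, hy'⟩
        refine ⟨A.mul_mem hx hy, ?_⟩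
        calc b * (x * y) * b⁻¹ = (b * x * b⁻¹) * (b * y * b⁻¹) := by group
          _ = x⁻¹ * y⁻¹ := by rw [hx', hy']
          _ = (x * y)⁻¹ := by
            rw [mul_inv_rev]
            exact hA _ (A.inv_mem hx) _ (A.inv_mem hy)
      inv_mem' := by
        rintro x ⟨hx, hx'⟩
        refine ⟨A.inv_mem hx, ?_⟩
        calc b * x⁻¹ * b⁻¹ = (b * x * b⁻¹)⁻¹ := by group
          _ = x⁻¹⁻¹ := by rw [hx'] }
  have hE : commutator Q ≤ E := by
    rw [_root_.commutator_def, commutator_le]
    -- `σ` = conjugation by `b` on `A`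
    have hbb : ∀ a ∈ A, b * (b * a * b⁻¹) * b⁻¹ = a := by
      intro a ha
      have h1 : b * b ∈ A := by
        apply (mul_mem_iff_of_index_two hAi).2
        exact ⟨fun h => absurd h hb, fun h => absurd h hb⟩
      calc b * (b * a * b⁻¹) * b⁻¹ = (b * b) * a * (b * b)⁻¹ := by group
        _ = a * (b * b) * (b * b)⁻¹ := by rw [hA _ h1 a ha]
        _ = a := by group
    have hσ : ∀ a ∈ A, b * a * b⁻¹ ∈ A := fun a ha => hAn.conj_mem a ha b
    -- the elements `a σ(a)⁻¹`
    have hEa : ∀ a ∈ A, a * (b * a * b⁻¹)⁻¹ ∈ E := by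
      intro a ha
      refine ⟨A.mul_mem ha (A.inv_mem (hσ a ha)), ?_⟩
      calc b * (a * (b * a * b⁻¹)⁻¹) * b⁻¹ = (b * a * b⁻¹) * (b * (b * a * b⁻¹) * b⁻¹)⁻¹ := by group
        _ = (b * a * b⁻¹) * a⁻¹ := by rw [hbb a ha]
        _ = (a * (b * a * b⁻¹)⁻¹)⁻¹ := by group
    intro x _ y _
    rw [commutatorElement_def]
    by_cases hx : x ∈ A
    · by_cases hy : y ∈ A
      · rw [hA x hx y hy]
        have : y * x * x⁻¹ * y⁻¹ = 1 := by group
        rw [this]; exact E.one_mem
      · -- `y = c b`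
        obtain ⟨c, hc, rfl⟩ : ∃ c ∈ A, y = c * b := ⟨y * b⁻¹, hmem y hy, by group⟩
        have h1 : x * (c * b) * x⁻¹ * (c * b)⁻¹ = x * (b * x * b⁻¹)⁻¹ := by
          calc x * (c * b) * x⁻¹ * (c * b)⁻¹ = (x * c) * (b * x * b⁻¹)⁻¹ * c⁻¹ := by group
            _ = (x * c) * (c⁻¹ * (b * x * b⁻¹)⁻¹) := by
                rw [mul_assoc, hA _ (A.inv_mem (hσ x hx)) _ (A.inv_mem hc)]
            _ = x * (b * x * b⁻¹)⁻¹ := by group
        rw [h1]; exact hEa x hx
    · obtain ⟨c, hc, rfl⟩ : ∃ c ∈ A, x = c * b := ⟨x * b⁻¹, hmem x hx, by group⟩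
      by_cases hy : y ∈ A
      · have h1 : c * b * y * (c * b)⁻¹ * y⁻¹ = (y * (b * y * b⁻¹)⁻¹)⁻¹ := by
          calc c * b * y * (c * b)⁻¹ * y⁻¹ = c * (b * y * b⁻¹) * c⁻¹ * y⁻¹ := by group
            _ = (b * y * b⁻¹) * c * c⁻¹ * y⁻¹ := by rw [hA _ hc _ (hσ y hy)]
            _ = (y * (b * y * b⁻¹)⁻¹)⁻¹ := by group
        rw [h1]; exact E.inv_mem (hEa y hy)
      · obtain ⟨d, hd, rfl⟩ : ∃ d ∈ A, y = d * b := ⟨y * b⁻¹, hmem y hy, by group⟩
        have hcd : c * d⁻¹ ∈ A := A.mul_mem hc (A.inv_mem hd)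
        have h1 : c * b * (d * b) * (c * b)⁻¹ * (d * b)⁻¹ = (c * d⁻¹) * (b * (c * d⁻¹) * b⁻¹)⁻¹ := by
          calc c * b * (d * b) * (c * b)⁻¹ * (d * b)⁻¹ = c * (b * (d * c⁻¹) * b⁻¹) * d⁻¹ := by group
            _ = c * (b * (c * d⁻¹)⁻¹ * b⁻¹) * d⁻¹ := by rw [mul_inv_rev, inv_inv]
            _ = c * (b * (c * d⁻¹) * b⁻¹)⁻¹ * d⁻¹ := by group
            _ = c * ((b * (c * d⁻¹) * b⁻¹)⁻¹ * d⁻¹) := by group
            _ = c * (d⁻¹ * (b * (c * d⁻¹) * b⁻¹)⁻¹) := by
                rw [hA _ (A.inv_mem (hσ _ hcd)) _ (A.inv_mem hd)]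
            _ = (c * d⁻¹) * (b * (c * d⁻¹) * b⁻¹)⁻¹ := by group
        rw [h1]; exact hEa _ hcd
  exact (hE hx).2

/-- **Lemma T** -/
theorem false_of_abelian {M : Type*} [Group M] [Finite M] (hM : Group.IsPerfect M) (Q : Sylow 2 M)
    {x : M} (hx : ∀ y, y * x = x * y) (hxQ : x ∈ (Q : Subgroup M)) (hxx : x * x ≠ 1)
    {A : Subgroup (Q : Subgroup M)} (hA : ∀ a ∈ A, ∀ b ∈ A, a * b = b * a)
    (hAi : A.index = 1 ∨ A.index = 2) : False := by
  have h1 := mem_commutator_of_center hM Q hx hxQ
  rcases hAi with hAi | hAi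
  · rw [index_eq_one] at hAi
    have h2 : commutator (Q : Subgroup M) = ⊥ := by
      rw [_root_.commutator_def, commutator_eq_bot_iff_le_centralizer]
      intro a _
      rw [mem_centralizer_iff]
      intro b _
      exact hA b (by rw [hAi]; trivial) a (by rw [hAi]; trivial)
    rw [h2, mem_bot] at h1
    apply hxx
    have h3 : x = 1 := congrArg Subtype.val h1
    rw [h3, one_mul]
  · obtain ⟨b, hb⟩ : ∃ b, b ∉ A := by
      by_contra hcon
      push Not at hcon
      have : A = ⊤ := eq_top_iff.2 fun y _ => hcon y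
      rw [this, index_top] at hAi
      omega
    have h2 := commutator_inverted hA hAi hb h1
    have h3 : b * ⟨x, hxQ⟩ * b⁻¹ = ⟨x, hxQ⟩ := by
      have h4 : b * ⟨x, hxQ⟩ = ⟨x, hxQ⟩ * b := Subtype.ext (hx b)
      rw [h4, mul_inv_cancel_right]
    rw [h3] at h2
    apply hxx
    have h4 : x = x⁻¹ := congrArg Subtype.val h2
    calc x * x = x * x⁻¹ := by rw [← h4]
      _ = 1 := mul_inv_cancel x

/-- a self-centralising subgroup of order 4 of a 2-group of order at least 4 gives a cyclic subgroup of index two -/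
theorem exists_cyclic_of_card_four {W : Type*} [Group W] [Finite W] (hW : IsPGroup 2 W) (C : Subgroup W)
    (hC4 : Nat.card C = 4) (hC : centralizer (C : Set W) = C) (hne : ∃ x ∈ C, Nat.card (zpowers x) * 2 = 4) :
    ∃ A : Subgroup W, IsCyclic A ∧ A.index = 2 := by
  have : Fact (Nat.Prime 2) := ⟨Nat.prime_two⟩
  obtain ⟨n, hn⟩ := IsPGroup.iff_card.1 hW
  have hAle : Nat.card C ∣ Nat.card W := card_subgroup_dvd_card C
  rw [hC4, hn] at hAle
  have hn2 : 2 ≤ n := by
    have : (2 : ℕ) ^ 2 ∣ 2 ^ n := hAle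
    exact (Nat.pow_dvd_pow_iff_le_right (by norm_num)).1 this
  by_cases hn3 : n = 2
  · obtain ⟨x, -, hx⟩ := hne
    refine ⟨zpowers x, inferInstance, ?_⟩
    have h2 := (zpowers x).card_mul_index
    rw [hn, hn3] at h2
    have h3 : Nat.card (zpowers x) = 2 := by omega
    rw [h3] at h2
    omega
  · have hcls := Cfsg.Agent.S0112.result (p := 2) n hn C (by rw [hC4]; norm_num) hC
    exact Cfsg.Agent.S0113.result n (by omega) hn hcls

/-- the 2-group lemma -/
theorem exists_abelian {W : Type*} [Group W] [Finite W] (hW : IsPGroup 2 W) {z x t : W} (hx : x * x = z)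
    (hz : z * z = 1) (hz1 : z ≠ 1) (ht : t * t = 1) (hxc : ∀ w, w * x = x * w) (htx : t ∉ zpowers x)
    (hC : ∀ w, w * t = t * w → w ∈ zpowers x ∨ t * w ∈ zpowers x) :
    ∃ A : Subgroup W, A.index = 2 ∧ ∀ a ∈ A, ∀ b ∈ A, a * b = b * a := by
  classical
  have : Fact (Nat.Prime 2) := ⟨Nat.prime_two⟩
  have hti : t⁻¹ = t := inv_eq_of_mul_eq_one_right ht
  have hcN : ∀ w, ∀ y ∈ zpowers x, w * y = y * w := by
    intro w y hy
    obtain ⟨k, rfl⟩ := mem_zpowers_iff.1 hy
    exact (show Commute w x from hxc w).zpow_right k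
  have hNn : (zpowers x).Normal := by
    refine ⟨fun y hy g => ?_⟩
    rw [hcN g y hy, mul_inv_cancel_right]
    exact hy
  -- involutions of `zpowers x`
  have hx4 : x ^ 4 = 1 := by
    calc x ^ 4 = (x * x) * (x * x) := by rw [show (4 : ℕ) = 2 + 2 by norm_num, pow_add, pow_two]
      _ = 1 := by rw [hx, hz]
  have hinv : ∀ y ∈ zpowers x, y * y = 1 → y = 1 ∨ y = z := by
    intro y hy hyy
    obtain ⟨k, rfl⟩ := mem_zpowers_iff.1 hy
    rcases Int.even_or_odd k with ⟨m, rfl⟩ | ⟨m, rfl⟩
    · rcases Int.even_or_odd m with ⟨l, rfl⟩ | ⟨l, rfl⟩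
      · left
        calc x ^ (l + l + (l + l)) = (x ^ 4) ^ l := by group
          _ = 1 := by rw [hx4, one_zpow]
      · right
        calc x ^ (2 * l + 1 + (2 * l + 1)) = (x ^ 4) ^ l * (x * x) := by group
          _ = z := by rw [hx4, one_zpow, one_mul, hx]
    · exfalso
      apply hz1
      rw [← hyy, ← hx]
      calc x * x = x ^ (2 : ℤ) := by rw [zpow_ofNat, pow_two]
        _ = (x ^ 4) ^ (-m) * (x ^ (2 * m + 1) * x ^ (2 * m + 1)) := by group
        _ = x ^ (2 * m + 1) * x ^ (2 * m + 1) := by rw [hx4, one_zpow, one_mul]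
  set π : W →* W ⧸ zpowers x := QuotientGroup.mk' (zpowers x) with hπ
  have hπs : Function.Surjective π := QuotientGroup.mk'_surjective _
  have hπ1 : ∀ w, π w = 1 ↔ w ∈ zpowers x := fun w => QuotientGroup.eq_one_iff w
  have hW' : IsPGroup 2 (W ⧸ zpowers x) := hW.to_quotient _
  have hπt1 : π t ≠ 1 := fun h => htx ((hπ1 t).1 h)
  have hπtt : π t * π t = 1 := by rw [← map_mul, ht, map_one]
  have hker : ∀ A : Subgroup (W ⧸ zpowers x), IsCyclic A → ∀ a ∈ A.comap π, ∀ b ∈ A.comap π, a * b = b * a := by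
    intro A hA a ha b hb
    let f : A.comap π →* A := (π.comp (A.comap π).subtype).codRestrict A (fun y => y.2)
    have hf : f.ker ≤ center (A.comap π) := by
      intro y hy
      have h1 : π y = 1 := congrArg Subtype.val (show f y = 1 from hy)
      rw [mem_center_iff]
      intro w
      exact Subtype.ext (hcN w y ((hπ1 _).1 h1))
    exact congrArg Subtype.val (f.isMulCommutative_of_isCyclic_of_ker_le_center hf |>.is_comm.comm
      (⟨a, ha⟩ : A.comap π) ⟨b, hb⟩)
  -- the centralizer of the image of `t`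
  set C : Subgroup (W ⧸ zpowers x) := centralizer ({π t} : Set (W ⧸ zpowers x)) with hCdef
  have htC : π t ∈ C := mem_centralizer_singleton_iff.2 rfl
  have hbound : ∃ w₁ : W, ∀ c ∈ C, c = 1 ∨ c = π t ∨ c = π w₁ ∨ c = π w₁ * π t := by
    -- commutators
    have hcom : ∀ w, π w ∈ C → w * t = t * w ∨ w * t = z * (t * w) := by
      intro w hw
      rw [hCdef, mem_centralizer_singleton_iff, ← map_mul, ← map_mul] at hw
      have h1 : w * t * (t * w)⁻¹ ∈ zpowers x := by
        rw [← hπ1, map_mul, map_inv, hw, mul_inv_cancel]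
      set n := w * t * (t * w)⁻¹ with hn
      have h2 : w * t = n * (t * w) := by rw [hn]; group
      have h3 : n * n = 1 := by
        -- `w = w t t = n (t w) t = n t (w t) = n t n t w = n n w`
        have h4 : w = n * n * w := by
          calc w = w * t * t := by rw [mul_assoc, ht, mul_one]
            _ = n * (t * w) * t := by rw [h2]
            _ = n * t * (w * t) := by group
            _ = n * t * (n * (t * w)) := by rw [h2]
            _ = n * (t * n) * t * w := by group
            _ = n * (n * t) * t * w := by rw [hcN t n h1]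
            _ = n * n * (t * t) * w := by group
            _ = n * n * w := by rw [ht, mul_one]
        exact (mul_eq_right.1 h4.symm)
      rcases hinv n h1 h3 with h4 | h4
      · left; rw [h2, h4, one_mul]
      · right; rw [h2, h4]
    have hfix : ∀ w, w * t = t * w → π w = 1 ∨ π w = π t := by
      intro w hw
      rcases hC w hw with h | h
      · exact Or.inl ((hπ1 w).2 h)
      · right
        have h1 : π (t * w) = 1 := (hπ1 _).2 h
        rw [map_mul] at h1
        calc π w = (π t * π t) * π w := by rw [hπtt, one_mul]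
          _ = π t * (π t * π w) := by rw [mul_assoc]
          _ = π t := by rw [h1, mul_one]
    by_cases hex : ∃ w₁, w₁ * t = z * (t * w₁)
    · obtain ⟨w₁, hw₁⟩ := hex
      refine ⟨w₁, fun c hc => ?_⟩
      obtain ⟨w, rfl⟩ := hπs c
      rcases hcom w hc with h | h
      · rcases hfix w h with h1 | h1
        · exact Or.inl h1
        · exact Or.inr (Or.inl h1)
      · -- `w₁⁻¹ w` commutes with `t`
        have hzN : z ∈ zpowers x := by
          rw [← hx]; exact mul_mem (mem_zpowers x) (mem_zpowers x)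
        have h1 : w₁⁻¹ * w * t = t * (w₁⁻¹ * w) := by
          have e1 : w * t * w⁻¹ = w₁ * t * w₁⁻¹ := by
            rw [h, hw₁]
            have c1 : z * (t * w) * w⁻¹ = z * t := by group
            have c2 : z * (t * w₁) * w₁⁻¹ = z * t := by group
            rw [c1, c2]
          calc w₁⁻¹ * w * t = w₁⁻¹ * (w * t * w⁻¹) * w := by group
            _ = w₁⁻¹ * (w₁ * t * w₁⁻¹) * w := by rw [e1]
            _ = t * (w₁⁻¹ * w) := by group
        rcases hfix _ h1 with h2 | h2
        · right; right; left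
          rw [map_mul, map_inv, inv_mul_eq_one] at h2
          exact h2.symm
        · right; right; right
          rw [map_mul, map_inv, inv_mul_eq_iff_eq_mul] at h2
          exact h2
    · push Not at hex
      refine ⟨1, fun c hc => ?_⟩
      obtain ⟨w, rfl⟩ := hπs c
      rcases hcom w hc with h | h
      · rcases hfix w h with h1 | h1
        · exact Or.inl h1
        · exact Or.inr (Or.inl h1)
      · exact absurd h (hex w)
  have hC4 : Nat.card C ≤ 4 := by
    obtain ⟨w₁, hw₁⟩ := hbound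
    have h1 : (C : Set (W ⧸ zpowers x)) ⊆ ↑({1, π t, π w₁, π w₁ * π t} : Finset (W ⧸ zpowers x)) := by
      intro c hc
      simp only [Finset.coe_insert, Finset.coe_singleton, Set.mem_insert_iff, Set.mem_singleton_iff]
      exact hw₁ c hc
    have h2 : Nat.card C ≤ ({1, π t, π w₁, π w₁ * π t} : Finset (W ⧸ zpowers x)).card := by
      rw [show Nat.card C = (C : Set (W ⧸ zpowers x)).ncard from (Nat.card_coe_set_eq _)]
      rw [← Set.ncard_coe_finset]
      exact Set.ncard_le_ncard h1 (Finset.finite_toSet _)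
    exact h2.trans Finset.card_le_four
  obtain ⟨n, hn⟩ := IsPGroup.iff_card.1 hW'
  have hcardt : Nat.card (zpowers (π t)) = 2 := by
    rw [Nat.card_zpowers]
    exact orderOf_eq_prime (by rw [pow_two]; exact hπtt) hπt1
  obtain ⟨m, hm⟩ := IsPGroup.iff_card.1 (hW'.to_subgroup C)
  have hfin : ∀ A : Subgroup (W ⧸ zpowers x), IsCyclic A → A.index = 2 →
      ∃ A : Subgroup W, A.index = 2 ∧ ∀ a ∈ A, ∀ b ∈ A, a * b = b * a := by
    intro A hA hAi
    refine ⟨A.comap π, ?_, hker A hA⟩
    rw [index_comap_of_surjective _ hπs, hAi]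
  have hzle : Nat.card (zpowers (π t)) ∣ Nat.card C := card_dvd_of_le ((zpowers_le).2 htC)
  have hCdvd : Nat.card C ∣ Nat.card (W ⧸ zpowers x) := card_subgroup_dvd_card C
  rw [hcardt] at hzle
  by_cases h2 : Nat.card C = 4
  · have hCcomm : ∀ a ∈ C, ∀ b ∈ C, a * b = b * a := by
      have h3 : IsMulCommutative C := IsPGroup.isMulCommutative_of_card_eq_prime_sq (p := 2) (by
        rw [h2]; norm_num)
      intro a ha b hb
      exact congrArg Subtype.val (h3.is_comm.comm (⟨a, ha⟩ : C) ⟨b, hb⟩)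
    have hself : centralizer (C : Set (W ⧸ zpowers x)) = C := by
      apply le_antisymm
      · intro y hy
        rw [hCdef, mem_centralizer_singleton_iff]
        exact (mem_centralizer_iff.1 hy (π t) htC).symm
      · intro y hy
        rw [mem_centralizer_iff]
        intro b hb
        exact hCcomm b hb y hy
    obtain ⟨A, hA, hAi⟩ := exists_cyclic_of_card_four hW' C h2 hself ⟨π t, htC, by rw [hcardt]⟩
    exact hfin A hA hAi
  · -- `|C| = 2`: the quotient has order two
    have h3 : Nat.card C = 2 := by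
      have : Nat.card C ≠ 0 := Nat.card_pos.ne'
      omega
    have hCeq : C = zpowers (π t) := by
      symm
      apply eq_of_le_of_card_ge ((zpowers_le).2 htC)
      rw [hcardt, h3]
    have hnt : Nontrivial (W ⧸ zpowers x) := ⟨π t, 1, hπt1⟩
    have hcnt : Nontrivial (center (W ⧸ zpowers x)) := hW'.center_nontrivial
    obtain ⟨⟨c, hc⟩, hc1⟩ := exists_ne (1 : center (W ⧸ zpowers x))
    have hc1' : c ≠ 1 := fun h => hc1 (Subtype.ext h)
    have hcC : c ∈ C := mem_centralizer_singleton_iff.2 ((mem_center_iff.1 hc (π t)).symm)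
    have hct : c = π t := by
      rw [hCeq] at hcC
      obtain ⟨k, rfl⟩ := mem_zpowers_iff.1 hcC
      rcases Int.even_or_odd k with ⟨l, rfl⟩ | ⟨l, rfl⟩
      · exfalso
        apply hc1'
        rw [← two_mul, zpow_mul, zpow_ofNat, pow_two, hπtt, one_zpow]
      · rw [zpow_add, zpow_mul, zpow_ofNat, pow_two, hπtt, one_zpow, one_mul, zpow_one]
    have hCtop : C = ⊤ := by
      rw [eq_top_iff]
      intro y _
      rw [hCdef, mem_centralizer_singleton_iff, ← hct]
      exact mem_center_iff.1 hc y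
    apply hfin ⊥ (by infer_instance)
    rw [index_bot]
    rw [hCtop, card_top] at h3
    exact h3

/-- two commuting elements of 2-power order generate a 2-group -/
theorem isPGroup_sup {X : Type*} [Group X] {x t : X} (hx : IsPGroup 2 (zpowers x)) (ht : IsPGroup 2 (zpowers t))
    (hxt : x * t = t * x) : IsPGroup 2 (zpowers x ⊔ zpowers t : Subgroup X) := by
  refine hx.to_sup_of_normal_right' ht ?_
  rw [zpowers_le, mem_normalizer_iff]
  intro y
  have key : ∀ g : X, Commute g t → ∀ y ∈ zpowers t, g * y * g⁻¹ ∈ zpowers t := by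
    intro g hg y hy
    obtain ⟨k, rfl⟩ := mem_zpowers_iff.1 hy
    rw [(hg.zpow_right k).eq, mul_inv_cancel_right]
    exact zpow_mem (mem_zpowers t) k
  constructor
  · exact key x hxt y
  · intro hy
    have h1 := key x⁻¹ (show Commute x t from hxt).inv_left _ hy
    have e : x⁻¹ * (x * y * x⁻¹) * x⁻¹⁻¹ = y := by group
    rwa [e] at h1

/-- `x` central in `M` of order 4, `C_M(t) ≤ ⟨t, x⟩`: impossible -/
theorem false_of_center {X : Type*} [Group X] [Finite X] {z t x : X} (hx : x * x = z) (hz : z * z = 1)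
    (hz1 : z ≠ 1) (ht : t * t = 1) (hxt : x * t = t * x) (htx : t ∉ zpowers x) {M : Subgroup X}
    (hMp : Group.IsPerfect M) (hMs : M.IsSubnormal) (hxM : x ∈ M) (hxc : ∀ m ∈ M, m * x = x * m)
    (hMt : ∀ m ∈ M, t * m * t⁻¹ ∈ M)
    (hC : ∀ m ∈ M, m * t = t * m → m ∈ zpowers x ∨ t * m ∈ zpowers x) : False := by
  classical
  have : Fact (Nat.Prime 2) := ⟨Nat.prime_two⟩
  have hti : t⁻¹ = t := inv_eq_of_mul_eq_one_right ht
  have hx4 : x ^ 4 = 1 := by
    calc x ^ 4 = (x * x) * (x * x) := by rw [show (4 : ℕ) = 2 + 2 by norm_num, pow_add, pow_two]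
      _ = 1 := by rw [hx, hz]
  have hpx : IsPGroup 2 (zpowers x) := by
    rintro ⟨y, hy⟩
    obtain ⟨k, rfl⟩ := mem_zpowers_iff.1 hy
    refine ⟨2, Subtype.ext ?_⟩
    show (x ^ k) ^ (2 ^ 2) = 1
    calc (x ^ k) ^ (2 ^ 2) = (x ^ 4) ^ k := by
          rw [show (2 : ℕ) ^ 2 = 4 by norm_num, ← zpow_natCast, ← zpow_natCast, ← zpow_mul, ← zpow_mul, mul_comm]
      _ = 1 := by rw [hx4, one_zpow]
  have hpt : IsPGroup 2 (zpowers t) := by
    rintro ⟨y, hy⟩
    obtain ⟨k, rfl⟩ := mem_zpowers_iff.1 hy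
    refine ⟨1, Subtype.ext ?_⟩
    show (t ^ k) ^ (2 ^ 1) = 1
    rw [pow_one, pow_two, ← zpow_add, ← two_mul, zpow_mul, zpow_ofNat, pow_two, ht, one_zpow]
  obtain ⟨T, hT⟩ := (isPGroup_sup hpx hpt hxt).exists_le_sylow
  have hxT : x ∈ (T : Subgroup X) := hT (mem_sup_left (mem_zpowers x))
  have htT : t ∈ (T : Subgroup X) := hT (mem_sup_right (mem_zpowers t))
  obtain ⟨Q, hQ⟩ := Cfsg.Agent.S0542.result 2 M hMs T
  have hQmem : ∀ x : M, x ∈ (Q : Subgroup M) ↔ (x : X) ∈ (T : Subgroup X) := by
    intro x; rw [hQ, mem_subgroupOf]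
  have hSt : ∀ s, s ∈ (T : Subgroup X) → s ∈ M → t * s * t ∈ (T : Subgroup X) ∧ t * s * t ∈ M := by
    intro s h1 h2
    refine ⟨T.mul_mem (T.mul_mem htT h1) htT, ?_⟩
    have := hMt s h2
    rwa [hti] at this
  -- the group `W = S ⟨t⟩`
  let W : Subgroup X :=
    { carrier := {w | (w ∈ (T : Subgroup X) ∧ w ∈ M) ∨ (w * t ∈ (T : Subgroup X) ∧ w * t ∈ M)}
      one_mem' := Or.inl ⟨T.one_mem, M.one_mem⟩
      mul_mem' := by
        rintro a b (⟨ha, ha'⟩ | ⟨ha, ha'⟩) (⟨hb, hb'⟩ | ⟨hb, hb'⟩)
        · exact Or.inl ⟨T.mul_mem ha hb, M.mul_mem ha' hb'⟩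
        · right
          rw [mul_assoc]
          exact ⟨T.mul_mem ha hb, M.mul_mem ha' hb'⟩
        · right
          obtain ⟨h1, h2⟩ := hSt b hb hb'
          have e : a * b * t = (a * t) * (t * b * t) := by
            calc a * b * t = a * (t * t) * b * t := by rw [ht, mul_one]
              _ = (a * t) * (t * b * t) := by group
          rw [e]
          exact ⟨T.mul_mem ha h1, M.mul_mem ha' h2⟩
        · left
          obtain ⟨h1, h2⟩ := hSt (b * t) hb hb'
          have e : a * b = (a * t) * (t * (b * t) * t) := by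
            calc a * b = a * (t * t) * b * (t * t) := by rw [ht, mul_one, mul_one]
              _ = (a * t) * (t * (b * t) * t) := by group
          rw [e]
          exact ⟨T.mul_mem ha h1, M.mul_mem ha' h2⟩
      inv_mem' := by
        rintro a (⟨ha, ha'⟩ | ⟨ha, ha'⟩)
        · exact Or.inl ⟨T.inv_mem ha, M.inv_mem ha'⟩
        · right
          obtain ⟨h1, h2⟩ := hSt (a * t)⁻¹ (T.inv_mem ha) (M.inv_mem ha')
          have e : a⁻¹ * t = t * (a * t)⁻¹ * t := by
            rw [mul_inv_rev, ← mul_assoc, mul_inv_cancel, one_mul]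
          rw [e]
          exact ⟨h1, h2⟩ }
  have hWT : W ≤ T := by
    rintro w (⟨h, -⟩ | ⟨h, -⟩)
    · exact h
    · have := T.mul_mem h htT
      rwa [mul_assoc, ht, mul_one] at this
  have hWp : IsPGroup 2 W := T.2.to_le hWT
  have hxW : x ∈ W := Or.inl ⟨hxT, hxM⟩
  have htW : t ∈ W := Or.inr (by rw [ht]; exact ⟨T.one_mem, M.one_mem⟩)
  have hzW : z ∈ W := by rw [← hx]; exact W.mul_mem hxW hxW
  have hzp : ∀ w (hw : w ∈ W), w ∈ zpowers x → (⟨w, hw⟩ : W) ∈ zpowers (⟨x, hxW⟩ : W) := by
    intro w hw h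
    obtain ⟨k, hk⟩ := mem_zpowers_iff.1 h
    exact mem_zpowers_iff.2 ⟨k, Subtype.ext hk⟩
  obtain ⟨A, hAi, hA⟩ := exists_abelian (W := W) hWp (z := ⟨z, hzW⟩) (x := ⟨x, hxW⟩) (t := ⟨t, htW⟩)
    (Subtype.ext hx) (Subtype.ext hz) (fun h => hz1 (congrArg Subtype.val h)) (Subtype.ext ht)
    (by
      rintro ⟨w, (⟨-, hw⟩ | ⟨-, hw⟩)⟩
      · exact Subtype.ext (hxc w hw)
      · apply Subtype.ext
        show w * x = x * w
        have h1 : Commute (w * t) x := hxc _ hw
        have h2 : Commute t x := hxt.symm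
        have h3 : Commute (w * t * t⁻¹) x := h1.mul_left h2.inv_left
        rwa [mul_inv_cancel_right] at h3)
    (by
      intro h
      obtain ⟨k, hk⟩ := mem_zpowers_iff.1 h
      exact htx (mem_zpowers_iff.2 ⟨k, congrArg Subtype.val hk⟩))
    (by
      rintro ⟨w, hw⟩ hwt
      have hwt' : w * t = t * w := congrArg Subtype.val hwt
      rcases hw with ⟨h1, h2⟩ | ⟨h1, h2⟩
      · rcases hC w h2 hwt' with h | h
        · exact Or.inl (hzp w _ h)
        · exact Or.inr (hzp (t * w) (W.mul_mem htW (Or.inl ⟨h1, h2⟩)) h)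
      · have h3 : w * t * t = t * (w * t) := by
          calc w * t * t = t * w * t := by rw [hwt']
            _ = t * (w * t) := by group
        rcases hC (w * t) h2 h3 with h | h
        · right
          rw [hwt'] at h
          exact hzp (t * w) (W.mul_mem htW (Or.inr ⟨h1, h2⟩)) h
        · left
          have e : t * (w * t) = w := by
            calc t * (w * t) = t * (t * w) := by rw [hwt']
              _ = w := by rw [← mul_assoc, ht, one_mul]
          rw [e] at h
          exact hzp w _ h)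
  have hAn : A.Normal := normal_of_index_eq_two hAi
  -- transport to the Sylow subgroup `Q` of `M`
  let j : (Q : Subgroup M) →* W :=
    { toFun := fun q => ⟨((q : M) : X), Or.inl ⟨(hQmem _).1 q.2, (q : M).2⟩⟩
      map_one' := rfl
      map_mul' := fun _ _ => rfl }
  have hj : Function.Injective j := by
    intro a b hab
    have h1 : ((a : M) : X) = ((b : M) : X) := congrArg (fun w : W => (w : X)) hab
    exact Subtype.ext (Subtype.ext h1)
  have hidx : (A.comap j).index = 1 ∨ (A.comap j).index = 2 := by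
    have h1 : (A.comap j).index ∣ 2 := by
      rw [index_comap]
      exact (relIndex_dvd_index_of_normal A j.range).trans (by rw [hAi])
    exact (Nat.dvd_prime Nat.prime_two).1 h1
  refine false_of_abelian hMp Q (x := ⟨x, hxM⟩) (fun y => Subtype.ext (hxc y y.2)) ((hQmem _).2 hxT) ?_
    (A := A.comap j) ?_ hidx
  · intro h
    apply hz1
    rw [← hx]
    exact congrArg Subtype.val h
  · intro a ha b hb
    apply hj
    rw [map_mul, map_mul]
    exact hA _ ha _ hb

theorem subgroupOf_map_subtype_self_aux {M : Type*} [Group M] {Q : Subgroup M} (C : Subgroup Q) :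
    (C.map Q.subtype).subgroupOf Q = C := by
  rw [subgroupOf, comap_map_eq_self_of_injective Q.subtype_injective]

/-- a self-centralising subgroup of order 4 of a Sylow subgroup, generated by an element with central square -/
theorem unique_of_four {M : Type*} [Group M] [Finite M] (hM : Group.IsPerfect M) {z x : M} (hx : x * x = z)
    (hz : z * z = 1) (hz1 : z ≠ 1) (hzc : ∀ y, y * z = z * y) (hC : ∀ m, m * x = x * m → m ∈ zpowers x) :
    ∀ v : M, v * v = 1 → v = 1 ∨ v = z := by
  classical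
  have : Fact (Nat.Prime 2) := ⟨Nat.prime_two⟩
  have hx4 : x ^ 4 = 1 := by
    calc x ^ 4 = (x * x) * (x * x) := by rw [show (4 : ℕ) = 2 + 2 by norm_num, pow_add, pow_two]
      _ = 1 := by rw [hx, hz]
  have hinv : ∀ y ∈ zpowers x, y * y = 1 → y = 1 ∨ y = z := by
    intro y hy hyy
    obtain ⟨k, rfl⟩ := mem_zpowers_iff.1 hy
    rcases Int.even_or_odd k with ⟨m, rfl⟩ | ⟨m, rfl⟩
    · rcases Int.even_or_odd m with ⟨l, rfl⟩ | ⟨l, rfl⟩
      · left
        calc x ^ (l + l + (l + l)) = (x ^ 4) ^ l := by group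
          _ = 1 := by rw [hx4, one_zpow]
      · right
        calc x ^ (2 * l + 1 + (2 * l + 1)) = (x ^ 4) ^ l * (x * x) := by group
          _ = z := by rw [hx4, one_zpow, one_mul, hx]
    · exfalso
      apply hz1
      rw [← hyy, ← hx]
      calc x * x = x ^ (2 : ℤ) := by rw [zpow_ofNat, pow_two]
        _ = (x ^ 4) ^ (-m) * (x ^ (2 * m + 1) * x ^ (2 * m + 1)) := by group
        _ = x ^ (2 * m + 1) * x ^ (2 * m + 1) := by rw [hx4, one_zpow, one_mul]
  have hx2 : x ^ 2 ≠ 1 := by rw [pow_two, hx]; exact hz1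
  have hox : orderOf x = 4 := by
    have h1 : orderOf x = 2 ^ (1 + 1) := orderOf_eq_prime_pow (by rw [pow_one]; exact hx2) hx4
    simpa using h1
  have hcx : Nat.card (zpowers x) = 4 := by rw [Nat.card_zpowers, hox]
  have hpx : IsPGroup 2 (zpowers x) := IsPGroup.of_card (n := 2) (by rw [hcx]; norm_num)
  obtain ⟨Q, hQ⟩ := hpx.exists_le_sylow
  have hxQ : x ∈ (Q : Subgroup M) := hQ (mem_zpowers x)
  set x' : (Q : Subgroup M) := ⟨x, hxQ⟩ with hx'
  have hcx' : Nat.card (zpowers x') = 4 := by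
    rw [Nat.card_zpowers, hx', orderOf_mk, hox]
  have hzx : z ∈ zpowers x := by rw [← hx]; exact mul_mem (mem_zpowers x) (mem_zpowers x)
  -- a subgroup of index two whose only involution is `z`
  obtain ⟨C, hCi, hCz⟩ : ∃ C : Subgroup (Q : Subgroup M), C.index = 2 ∧
      ∀ y ∈ C, y * y = 1 → y = 1 ∨ (y : M) = z := by
    have hself : centralizer ((zpowers x' : Subgroup (Q : Subgroup M)) : Set (Q : Subgroup M)) = zpowers x' := by
      apply le_antisymm
      · intro y hy
        have h1 := mem_centralizer_iff.1 hy x' (mem_zpowers x')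
        have h2 : (y : M) * x = x * y := (congrArg Subtype.val h1).symm
        obtain ⟨k, hk⟩ := mem_zpowers_iff.1 (hC _ h2)
        exact mem_zpowers_iff.2 ⟨k, Subtype.ext (by rw [hx']; exact hk)⟩
      · intro y hy
        rw [mem_centralizer_iff]
        intro w hw
        obtain ⟨k, rfl⟩ := mem_zpowers_iff.1 hy
        obtain ⟨l, rfl⟩ := mem_zpowers_iff.1 hw
        rw [← zpow_add, ← zpow_add, add_comm]
    obtain ⟨C, hC1, hC2⟩ := exists_cyclic_of_card_four Q.isPGroup' (zpowers x') hcx' hself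
      ⟨x' * x', mul_mem (mem_zpowers x') (mem_zpowers x'), by
        have h1 : orderOf (x' * x') = 2 := by
          apply orderOf_eq_prime
          · apply Subtype.ext
            show (x * x) ^ 2 = 1
            rw [hx, pow_two, hz]
          · intro h
            apply hz1
            rw [← hx]
            exact congrArg Subtype.val h
        rw [Nat.card_zpowers, h1]⟩
    refine ⟨C, hC2, fun y hy hyy => ?_⟩
    by_cases hy1 : y = 1
    · exact Or.inl hy1
    right
    have hCn : C.Normal := normal_of_index_eq_two hC2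
    have hord : ∀ w : C, orderOf w = 2 → (w : (Q : Subgroup M)) = y := by
      intro w hw
      by_contra hne
      have := Fintype.ofFinite C
      have h1 := IsCyclic.card_pow_eq_one_le (α := C) (n := 2) (by norm_num)
      have h2 : ({1, ⟨y, hy⟩, w} : Finset C) ⊆ Finset.univ.filter (fun a : C => a ^ 2 = 1) := by
        intro a ha
        simp only [Finset.mem_insert, Finset.mem_singleton] at ha
        rw [Finset.mem_filter]
        refine ⟨Finset.mem_univ _, ?_⟩
        rcases ha with rfl | rfl | rfl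
        · rw [one_pow]
        · apply Subtype.ext
          rw [Subgroup.coe_pow, pow_two]
          exact hyy
        · have h5 := pow_orderOf_eq_one a
          rwa [hw] at h5
      have h3 := Finset.card_le_card h2
      rw [Finset.card_insert_of_notMem, Finset.card_insert_of_notMem, Finset.card_singleton] at h3
      · omega
      · rw [Finset.mem_singleton]
        intro h; exact hne (congrArg Subtype.val h).symm
      · simp only [Finset.mem_insert, Finset.mem_singleton, not_or]
        refine ⟨fun h => hy1 (congrArg Subtype.val h).symm, ?_⟩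
        rintro rfl
        rw [orderOf_one] at hw
        exact absurd hw (by decide)
    have hyx : (y : M) * x = x * y := by
      have h1 : x' * y * x'⁻¹ ∈ C := hCn.conj_mem y hy x'
      have h2 : orderOf (⟨x' * y * x'⁻¹, h1⟩ : C) = 2 := by
        apply orderOf_eq_prime
        · apply Subtype.ext
          rw [Subgroup.coe_pow, Subgroup.coe_mk, pow_two]
          calc x' * y * x'⁻¹ * (x' * y * x'⁻¹) = x' * (y * y) * x'⁻¹ := by group
            _ = 1 := by rw [hyy]; group
        · intro h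
          have h3 := congrArg Subtype.val h
          simp only [Subgroup.coe_one] at h3
          rw [mul_inv_eq_one] at h3
          exact hy1 (mul_eq_left.1 h3)
      have h3 := hord _ h2
      simp only at h3
      rw [mul_inv_eq_iff_eq_mul] at h3
      exact (congrArg Subtype.val h3).symm
    have h1 := hC _ hyx
    rcases hinv _ h1 (congrArg Subtype.val hyy) with h2 | h2
    · exact absurd (Subtype.ext h2) hy1
    · exact h2
  intro v hv
  by_cases hv1 : v = 1
  · exact Or.inl hv1
  right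
  obtain ⟨g, hg⟩ := exists_conj_of_perfect hM Q (C.map (Q : Subgroup M).subtype) (map_subtype_le C)
    (by rw [relIndex, subgroupOf_map_subtype_self_aux]; exact hCi) v hv
  obtain ⟨y, hy, hyv⟩ := hg
  have hyy : y * y = 1 := by
    apply Subtype.ext
    have h1 : ((Q : Subgroup M).subtype y) * ((Q : Subgroup M).subtype y) = 1 := by
      rw [hyv]
      calc g * v * g⁻¹ * (g * v * g⁻¹) = g * (v * v) * g⁻¹ := by group
        _ = 1 := by rw [hv]; group
    exact h1
  rcases hCz y hy hyy with h1 | h1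
  · exfalso
    apply hv1
    rw [h1, map_one] at hyv
    have h2 := hyv.symm
    rw [mul_inv_eq_one] at h2
    exact mul_eq_left.1 h2
  · have h2 : g * v * g⁻¹ = z := by rw [← hyv]; exact h1
    rw [mul_inv_eq_iff_eq_mul, ← hzc] at h2
    exact mul_left_cancel h2

end Cfsg.Agent.OddHalf.D8.HS.RankOne
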