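import Cfsg.Agent.OddHalf.IntrCyc
import Cfsg.Agent.S1306
import Cfsg.Agent.SignalizersComponents.Components

/-!
# An intrinsic component with cyclic centralizer is standard

`z` an involution, `M` a component of `C_G(z)` with `z ∈ M` and cyclic `C_G(M)`. Then `M` is a standard subgroup of
`G` (`standard`), and `Iface.Intr2` applies (`false_of_cyclic`).
-/

set_option autoImplicit false

namespace Cfsg.Agent.OddHalf.D8.HS.Stand

open Subgroup Cfsg Cfsg.Agent.OddHalf.Iface
open Cfsg.Agent.SignalizersComponents.Components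

universe u

variable {G : Type u} [Group G]

/-- a component `M` of `C(z)` with `z ∈ M` and cyclic centralizer is standard -/
theorem standard [Finite G] {z : G} (hz : orderOf z = 2) {M : Subgroup G} (hMz : M ≤ centralizer ({z} : Set G))
    (hM : IsComponent (M.subgroupOf (centralizer ({z} : Set G))))
    (hc : IsCyclic ↥(centralizer (M : Set G))) : IsStandardSubgroup M ∧ Cyc M := by
  have hzC : z ∈ centralizer (M : Set G) := by
    rw [mem_centralizer_iff]
    intro m hm
    exact mem_centralizer_singleton_iff.1 (hMz hm)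
  have hna : ¬ ∀ a ∈ M, ∀ b ∈ M, a * b = b * a := by
    intro hab
    apply quasisimple_not_isMulCommutative hM.2
    refine ⟨⟨?_⟩⟩
    rintro ⟨⟨a, ha1⟩, ha⟩ ⟨⟨b, hb1⟩, hb⟩
    exact Subtype.ext (Subtype.ext (hab a (mem_subgroupOf.1 ha) b (mem_subgroupOf.1 hb)))
  refine ⟨Cfsg.Agent.S1306.result z hz M hMz hM ?_ ?_, fun R => ?_⟩
  · intro y hy hyM
    have h1 : y = z := IntrCyc.eq_of_orderOf_two hc hyM hzC hy hz
    rw [h1]
    exact ⟨hMz, hM⟩
  · intro g _ hcomm
    apply hna
    have h1 : M.map (MulAut.conj g).toMonoidHom ≤ centralizer (M : Set G) := by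
      rw [← commutator_eq_bot_iff_le_centralizer, commutator_comm]
      exact hcomm
    have hcm := hc.isMulCommutative
    intro a ha b hb
    have h2 : g * a * g⁻¹ ∈ centralizer (M : Set G) := h1 ⟨a, ha, rfl⟩
    have h3 : g * b * g⁻¹ ∈ centralizer (M : Set G) := h1 ⟨b, hb, rfl⟩
    have h4 : (g * a * g⁻¹) * (g * b * g⁻¹) = (g * b * g⁻¹) * (g * a * g⁻¹) :=
      congrArg Subtype.val (hcm.is_comm.comm (⟨_, h2⟩ : ↥(centralizer (M : Set G))) ⟨_, h3⟩)
    have h5 : g * (a * b) * g⁻¹ = g * (b * a) * g⁻¹ := by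
      calc g * (a * b) * g⁻¹ = (g * a * g⁻¹) * (g * b * g⁻¹) := by group
        _ = (g * b * g⁻¹) * (g * a * g⁻¹) := h4
        _ = g * (b * a) * g⁻¹ := by group
    exact mul_left_cancel (mul_right_cancel h5)
  · have := hc
    infer_instance

/-- the same for a subgroup of `X = C_G(z)` -/
theorem standard_of_sub [Finite G] {z : G} (hz : orderOf z = 2) {M : Subgroup ↥(centralizer ({z} : Set G))}
    (hM : IsComponent M) (hzM : (⟨z, mem_centralizer_singleton_iff.2 rfl⟩ : ↥(centralizer ({z} : Set G))) ∈ M)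
    {y : ↥(centralizer ({z} : Set G))} (hy : centralizer (M : Set ↥(centralizer ({z} : Set G))) = zpowers y) :
    IsStandardSubgroup (M.map (centralizer ({z} : Set G)).subtype) ∧
      Cyc (M.map (centralizer ({z} : Set G)).subtype) ∧ z ∈ M.map (centralizer ({z} : Set G)).subtype ∧
      z ∈ centralizer (M.map (centralizer ({z} : Set G)).subtype : Set G) := by
  set M₁ : Subgroup G := M.map (centralizer ({z} : Set G)).subtype with hM₁
  have hle : M₁ ≤ centralizer ({z} : Set G) := map_subtype_le M
  have hsub : M₁.subgroupOf (centralizer ({z} : Set G)) = M := by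
    rw [hM₁, subgroupOf, comap_map_eq_self_of_injective (centralizer ({z} : Set G)).subtype_injective]
  have hzM₁ : z ∈ M₁ := ⟨_, hzM, rfl⟩
  have hzC : z ∈ centralizer (M₁ : Set G) := by
    rw [mem_centralizer_iff]
    intro m hm
    exact mem_centralizer_singleton_iff.1 (hle hm)
  have hcyc : IsCyclic ↥(centralizer (M₁ : Set G)) := by
    have h1 : centralizer (M₁ : Set G) ≤ zpowers (y : G) := by
      intro x hx
      have hxz : x * z = z * x := (mem_centralizer_iff.1 hx z hzM₁).symm
      have h2 : (⟨x, mem_centralizer_singleton_iff.2 hxz⟩ : ↥(centralizer ({z} : Set G))) ∈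
          centralizer (M : Set ↥(centralizer ({z} : Set G))) := by
        rw [mem_centralizer_iff]
        intro m hm
        exact Subtype.ext (mem_centralizer_iff.1 hx m ⟨m, hm, rfl⟩)
      rw [hy] at h2
      obtain ⟨k, hk⟩ := mem_zpowers_iff.1 h2
      exact mem_zpowers_iff.2 ⟨k, congrArg Subtype.val hk⟩
    exact isCyclic_of_injective (inclusion h1) (inclusion_injective h1)
  obtain ⟨h1, h2⟩ := standard hz hle (by rw [hsub]; exact hM) hcyc
  exact ⟨h1, h2, hzM₁, hzC⟩

/-- `Intr2` kills the configuration -/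
theorem false_of_cyclic (h : Intr2.{u}) (C : Ctx G) {z : G} (hz : orderOf z = 2)
    {M : Subgroup ↥(centralizer ({z} : Set G))} (hM : IsComponent M)
    (hzM : (⟨z, mem_centralizer_singleton_iff.2 rfl⟩ : ↥(centralizer ({z} : Set G))) ∈ M)
    {y : ↥(centralizer ({z} : Set G))} (hy : centralizer (M : Set ↥(centralizer ({z} : Set G))) = zpowers y) :
    False := by
  have := C.fin
  obtain ⟨h1, h2, h3, h4⟩ := standard_of_sub hz hM hzM hy
  exact h G C _ h1 h2 ⟨z, hz, h3, h4⟩

end Cfsg.Agent.OddHalf.D8.HS.Stand
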