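import Cfsg.Agent.OddHalf.ListedOut
import Cfsg.Agent.OddHalf.Small.Plug

/-!
# ODD half: no involution centralizer has a generalized Fitting subgroup of symplectic type that is not
extraspecial (helper970)

S1758 is used as a hypothesis (`P1758`, its exact form).
-/

set_option autoImplicit false
set_option linter.style.haveILetI false

namespace Cfsg.Agent.OddHalf.D8.HS.Elim

open Subgroup Cfsg Cfsg.Agent.OddHalf.Iface

universe u

/-- S1758 -/
def P1758 : Prop :=
  ∀ (G : Type u) [Group G] [Finite G] [IsSimpleGroup G], ¬ IsMulCommutative G → ∀ z : G, orderOf z = 2 →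
    Cfsg.IsOfSymplecticType ↥(Cfsg.generalizedFittingSubgroup ↥(Subgroup.centralizer ({z} : Set G))) →
    Cfsg.IsExtraspecial 2 ↥(Cfsg.generalizedFittingSubgroup ↥(Subgroup.centralizer ({z} : Set G))) ∨
      (QuotientGroup.mk' (Cfsg.oddCore G) z ∈ Subgroup.center (G ⧸ Cfsg.oddCore G)) ∨
      (∃ (F : Type) (_ : Field F) (_ : Fintype F), ((∃ n : ℕ, Fintype.card F = 2 ^ n + 1) ∨ (∃ n : ℕ, Fintype.card F + 1 = 2 ^ n)) ∧
        Nonempty (G ≃* Matrix.ProjectiveSpecialLinearGroup (Fin 2) F)) ∨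
      Cfsg.Spor.IsoM11 G ∨
      (∃ (F : Type) (_ : Field F) (_ : Fintype F), Fintype.card F = 3 ∧ Nonempty (G ≃* Matrix.ProjectiveSpecialLinearGroup (Fin 3) F)) ∨
      (∃ (F : Type) (_ : Field F) (_ : Fintype F), Fintype.card F = 9 ∧ Nonempty (G ≃* Cfsg.PSU 3 F 3)) ∨
      Cfsg.Spor.IsoHS G

/-- **Symplectic type implies extraspecial** in a counterexample to S1765. -/
theorem false_of_symplectic (R : Small.Excl.Rows) (h58 : P1758.{u}) {G : Type u} [Group G] (C : Ctx G) {z : G}
    (hz : orderOf z = 2)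
    (hs : Cfsg.IsOfSymplecticType ↥(Cfsg.generalizedFittingSubgroup ↥(centralizer ({z} : Set G))))
    (he : ¬ Cfsg.IsExtraspecial 2 ↥(Cfsg.generalizedFittingSubgroup ↥(centralizer ({z} : Set G)))) : False := by
  haveI := C.fin
  haveI := C.simple
  rcases h58 G C.na z hz hs with h | h | ⟨F, _, _, hF, ⟨e⟩⟩ | h | ⟨F, _, _, hF, ⟨e⟩⟩ | ⟨F, _, _, hF, ⟨e⟩⟩ | h
  · exact he h
  · have hO : oddCore G = ⊥ := Soft.oddCore_eq_bot (Soft.even_of_rank C.rank3)
    have h1 : z ∈ center G := by
      rw [mem_center_iff]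
      intro g
      have h2 := mem_center_iff.1 h (QuotientGroup.mk' (oddCore G) g)
      rw [← map_mul, ← map_mul] at h2
      have h3 : (g * z)⁻¹ * (z * g) ∈ oddCore G := QuotientGroup.eq.1 h2
      rw [hO, mem_bot, inv_mul_eq_one] at h3
      exact h3
    rw [Soft.center_eq_bot C.na, mem_bot] at h1
    rw [h1, orderOf_one] at hz
    exact absurd hz (by norm_num)
  · rcases Nat.even_or_odd (Fintype.card F) with hev | ho
    · exact C.notTwo (Small.L2.psl2_even hev e)
    · rcases Nat.lt_or_ge (Fintype.card F) 4 with h4 | h4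
      · have := Small.Plug.one_lt F
        obtain ⟨k, hk⟩ := ho
        have h3 : Fintype.card F = 3 := by omega
        refine C.notTwo (Small.L2.psl2 (Or.inl ⟨?_, Or.inl ⟨2, ?_⟩⟩) e)
        · rw [h3]; exact Nat.prime_three
        · omega
      · exact C.nc (Small.Plug.concl_of_lieOdd R C.notTwo (Small.Plug.lieOdd_psl F ho le_rfl (fun _ => h4) ⟨e⟩))
  · exact C.notTwo (Small.M11.charTwo_of_iso h)
  · exact C.notTwo (Small.Generic.isCharacteristicTwoType_congr e.symm (R.l33 F hF))
  · exact C.notTwo (Small.Generic.isCharacteristicTwoType_congr e.symm (R.u33 F hF))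
  · apply C.nc
    unfold Iface.Concl Small.Excl.Concl
    tauto

end Cfsg.Agent.OddHalf.D8.HS.Elim
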