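import Cfsg.Agent.OddHalf.CaseM.Main
import Cfsg.Agent.OddHalf.D8.HS.RankOne

/-!
# Case (M) of D8 for K = HS: components of `C_G(z)`

`Hyp z t u R P` describes the group `X = C_G(z)`: `C_X(t)^∞ = P = R.A₅`, `R = 4 ∘ 2^{1+4}`, `Z(R) = Z(P) = ⟨u⟩`,
`u² = z`.

`main`: for a component `M` of `X` of even order either `z` is the only involution of `M`, or `P ≤ M`.
-/

set_option autoImplicit false
set_option linter.unusedSectionVars false

namespace Cfsg.Agent.OddHalf.D8.HS.CompM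

open Subgroup Cfsg
open Cfsg.Agent.SignalizersComponents.Components
open Cfsg.Agent.Cit (cj mem_cj conj_mem_cj conj_mem_cj_iff)

/-- the hypotheses on `X = C_G(z)` and the involution `t` -/
structure Hyp {X : Type*} [Group X] (z t u : X) (R P : Subgroup X) : Prop where
  zc : ∀ x, x * z = z * x
  zz : z * z = 1
  z1 : z ≠ 1
  tt : t * t = 1
  t1 : t ≠ 1
  tu : t ∉ zpowers u
  uu : u * u = z
  uR : u ∈ R
  uP : ∀ p ∈ P, p * u = u * p
  RP : R ≤ P
  Pt : ∀ x ∈ P, x * t = t * x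
  Pperf : ⁅P, P⁆ = P
  Pn : ∀ x, x * t = t * x → ∀ p ∈ P, x * p * x⁻¹ ∈ P
  Rn : ∀ x, x * t = t * x → ∀ r ∈ R, x * r * x⁻¹ ∈ R
  R2 : IsPGroup 2 R
  Rna : ∃ a ∈ R, ∃ b ∈ R, a * b ≠ b * a
  cR : ∀ x, x * t = t * x → (∀ r ∈ R, x * r = r * x) → x ∈ zpowers u ∨ t * x ∈ zpowers u
  /-- `P` contains every perfect subgroup of `C(t)` -/
  res : ∀ S : Subgroup X, S ≤ centralizer ({t} : Set X) → ⁅S, S⁆ = S → S ≤ P
  /-- proper normal subgroups of `P` are in `R` -/
  nrm : ∀ B ≤ P, (∀ p ∈ P, ∀ b ∈ B, p * b * p⁻¹ ∈ B) → B = P ∨ B ≤ R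
  /-- abelian normal subgroups of `P` in `R` are in `⟨u⟩` -/
  abR : ∀ B ≤ R, (∀ p ∈ P, ∀ b ∈ B, p * b * p⁻¹ ∈ B) → (∀ a ∈ B, ∀ b ∈ B, a * b = b * a) → B ≤ zpowers u
  /-- the elements of `C(t)` trivial on `P / R` -/
  out : ∀ x, x * t = t * x → (∀ p ∈ P, x * p * x⁻¹ * p⁻¹ ∈ R) → x ∈ R ∨ t * x ∈ R ∨ x * u * x⁻¹ = u⁻¹
  cardR : Nat.card R ≤ 64
  idx : ∀ B ≤ P, B.relIndex P < 5 → B = P

/-- two commuting subgroups, the first one nonabelian -/
theorem four_mul_card_le {X : Type*} [Group X] [Finite X] {A B : Subgroup X} (hAB : ∀ a ∈ A, ∀ b ∈ B, a * b = b * a)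
    {a b : X} (ha : a ∈ A) (hb : b ∈ A) (hab : a * b ≠ b * a) :
    4 * Nat.card B ≤ Nat.card (A ⊔ B : Subgroup X) := by
  let x : Fin 4 → X := ![1, a, b, a * b]
  have hx : ∀ i, x i ∈ A := by
    intro i
    fin_cases i
    · exact A.one_mem
    · exact ha
    · exact hb
    · exact A.mul_mem ha hb
  let f : Fin 4 × B → (A ⊔ B : Subgroup X) := fun p =>
    ⟨x p.1 * p.2, mul_mem (mem_sup_left (hx p.1)) (mem_sup_right p.2.2)⟩
  have hf : Function.Injective f := by
    rintro ⟨i, β⟩ ⟨j, γ⟩ hij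
    have h1 : x i * (β : X) = x j * (γ : X) := congrArg Subtype.val hij
    -- conjugation
    have h2 : ∀ y ∈ A, x i * y * (x i)⁻¹ = x j * y * (x j)⁻¹ := by
      intro y hy
      have e1 : ∀ c ∈ B, y = c * y * c⁻¹ := by
        intro c hc
        rw [← hAB y hy c hc, mul_inv_cancel_right]
      calc x i * y * (x i)⁻¹ = x i * ((β : X) * y * (β : X)⁻¹) * (x i)⁻¹ := by rw [← e1 β β.2]
        _ = (x i * β) * y * (x i * β)⁻¹ := by group
        _ = (x j * γ) * y * (x j * γ)⁻¹ := by rw [h1]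
        _ = x j * ((γ : X) * y * (γ : X)⁻¹) * (x j)⁻¹ := by group
        _ = x j * y * (x j)⁻¹ := by rw [← e1 γ γ.2]
    have hna : a ≠ b * a * b⁻¹ := by
      intro h
      apply hab
      rw [eq_mul_inv_iff_mul_eq] at h
      exact h
    have hnb : b ≠ a * b * a⁻¹ := by
      intro h
      apply hab
      rw [eq_mul_inv_iff_mul_eq] at h
      exact h.symm
    have key : ∀ i j : Fin 4, x i * a * (x i)⁻¹ = x j * a * (x j)⁻¹ → x i * b * (x i)⁻¹ = x j * b * (x j)⁻¹ → i = j := by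
      have c0 : x 0 = 1 := rfl
      have c1 : x 1 = a := rfl
      have c2 : x 2 = b := rfl
      have c3 : x 3 = a * b := rfl
      have a0 : x 0 * a * (x 0)⁻¹ = a := by rw [c0]; group
      have a1 : x 1 * a * (x 1)⁻¹ = a := by rw [c1]; group
      have a2 : x 2 * a * (x 2)⁻¹ = b * a * b⁻¹ := by rw [c2]
      have a3 : x 3 * a * (x 3)⁻¹ = a * (b * a * b⁻¹) * a⁻¹ := by rw [c3]; group
      have b0 : x 0 * b * (x 0)⁻¹ = b := by rw [c0]; group
      have b1 : x 1 * b * (x 1)⁻¹ = a * b * a⁻¹ := by rw [c1]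
      have b2 : x 2 * b * (x 2)⁻¹ = b := by rw [c2]; group
      have b3 : x 3 * b * (x 3)⁻¹ = a * b * a⁻¹ := by rw [c3]; group
      have d13 : a ≠ a * (b * a * b⁻¹) * a⁻¹ := by
        intro h
        apply hna
        have h3 : a = a⁻¹ * a * a := by group
        calc a = a⁻¹ * a * a := h3
          _ = a⁻¹ * (a * (b * a * b⁻¹) * a⁻¹) * a := by rw [← h]
          _ = b * a * b⁻¹ := by group
      intro i j h3 h4
      fin_cases i <;> fin_cases j <;> simp only [Fin.zero_eta, Fin.mk_one, Fin.reduceFinMk] at h3 h4 ⊢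
      · rw [b0, b1] at h4; exact absurd h4 hnb
      · rw [a0, a2] at h3; exact absurd h3 hna
      · rw [b0, b3] at h4; exact absurd h4 hnb
      · rw [b0, b1] at h4; exact absurd h4.symm hnb
      · rw [a1, a2] at h3; exact absurd h3 hna
      · rw [a1, a3] at h3; exact absurd h3 d13
      · rw [a0, a2] at h3; exact absurd h3.symm hna
      · rw [a1, a2] at h3; exact absurd h3.symm hna
      · rw [b2, b3] at h4; exact absurd h4 hnb
      · rw [b0, b3] at h4; exact absurd h4.symm hnb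
      · rw [a1, a3] at h3; exact absurd h3.symm d13
      · rw [b2, b3] at h4; exact absurd h4.symm hnb
    have hij' : i = j := key i j (h2 a ha) (h2 b hb)
    subst hij'
    have h3 : (β : X) = γ := mul_left_cancel h1
    rw [Subtype.ext h3]
  have h1 := Nat.card_le_card_of_injective f hf
  rwa [Nat.card_prod, Nat.card_eq_fintype_card, Fintype.card_fin] at h1

namespace Hyp

variable {X : Type*} [Group X] {z t u : X} {R P : Subgroup X}

theorem tinv (h : Hyp z t u R P) : t⁻¹ = t := inv_eq_of_mul_eq_one_right h.tt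

theorem uz (h : Hyp z t u R P) : u * z = z * u := h.zc u

theorem zu (h : Hyp z t u R P) : z ∈ zpowers u := by
  rw [← h.uu]; exact mul_mem (mem_zpowers u) (mem_zpowers u)

theorem zR (h : Hyp z t u R P) : z ∈ R := by rw [← h.uu]; exact R.mul_mem h.uR h.uR

theorem ut (h : Hyp z t u R P) : u * t = t * u := h.Pt u (h.RP h.uR)

theorem uinv (h : Hyp z t u R P) : u⁻¹ = u * z := by
  rw [inv_eq_iff_mul_eq_one, ← mul_assoc, h.uu, h.zz]

theorem mem_u (h : Hyp z t u R P) {x : X} : x ∈ zpowers u ↔ x = 1 ∨ x = z ∨ x = u ∨ x = u * z := by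
  have h4 : u ^ 4 = 1 := by
    rw [show (4 : ℕ) = 2 + 2 by norm_num, pow_add, pow_two, h.uu, h.zz]
  constructor
  · intro hx
    obtain ⟨k, rfl⟩ := mem_zpowers_iff.1 hx
    have h1 : u ^ k = u ^ (k % 4) := by
      conv_lhs => rw [← Int.mul_ediv_add_emod k 4]
      rw [zpow_add, zpow_mul, show u ^ (4 : ℤ) = 1 from by rw [show (4 : ℤ) = ((4 : ℕ) : ℤ) by norm_num,
        zpow_natCast, h4], one_zpow, one_mul]
    have h2 : 0 ≤ k % 4 := Int.emod_nonneg k (by norm_num)
    have h3 : k % 4 < 4 := Int.emod_lt_of_pos k (by norm_num)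
    have h5 : k % 4 = 0 ∨ k % 4 = 1 ∨ k % 4 = 2 ∨ k % 4 = 3 := by omega
    rw [h1]
    rcases h5 with h5 | h5 | h5 | h5 <;> rw [h5]
    · left; exact zpow_zero u
    · right; right; left; exact zpow_one u
    · right; left
      rw [show (2 : ℤ) = 1 + 1 by norm_num, zpow_add, zpow_one, h.uu]
    · right; right; right
      rw [show (3 : ℤ) = 1 + (1 + 1) by norm_num, zpow_add, zpow_add, zpow_one, h.uu]
  · have h1 : u ∈ zpowers u := mem_zpowers u
    rintro (rfl | rfl | rfl | rfl)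
    · exact one_mem _
    · exact h.zu
    · exact h1
    · exact mul_mem h1 h.zu

theorem u_ne_inv (h : Hyp z t u R P) : u ≠ u⁻¹ := by
  intro e
  rw [h.uinv] at e
  exact h.z1 (mul_eq_left.1 e.symm)

theorem tz (h : Hyp z t u R P) : t ≠ z := fun e => h.tu (e ▸ h.zu)

theorem cj_P (h : Hyp z t u R P) {x : X} (hx : x * t = t * x) : cj x P = P := by
  apply le_antisymm
  · rintro _ ⟨r, hr, rfl⟩
    exact h.Pn x hx r hr
  · intro r hr
    rw [mem_cj]
    have hx' : x⁻¹ * t = t * x⁻¹ := by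
      rw [inv_mul_eq_iff_eq_mul, ← mul_assoc, hx, mul_inv_cancel_right]
    have := h.Pn x⁻¹ hx' r hr
    rwa [inv_inv] at this

/-- a subnormal subgroup of `C(t)` contains `P` or acts trivially on `P / R` -/
theorem dich (h : Hyp z t u R P) {S : Subgroup X} (hS : S ≤ centralizer ({t} : Set X))
    (hSn : (S.subgroupOf (centralizer ({t} : Set X))).IsSubnormal) :
    P ≤ S ∨ ∀ s ∈ S, ∀ p ∈ P, s * p * s⁻¹ * p⁻¹ ∈ R := by
  have key : ∀ S₀ : Subgroup (centralizer ({t} : Set X)), S₀.IsSubnormal →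
      (∀ p (hp : p ∈ P), (⟨p, mem_centralizer_singleton_iff.2 (h.Pt p hp)⟩ : centralizer ({t} : Set X)) ∈ S₀) ∨
        ∀ s ∈ S₀, ∀ p ∈ P, (s : X) * p * (s : X)⁻¹ * p⁻¹ ∈ R := by
    intro S₀ hS₀
    induction hS₀ with
    | top => exact Or.inl fun _ _ => trivial
    | step H K hle _ hN ih =>
      rcases ih with ih | ih
      swap
      · exact Or.inr fun s hs => ih s (hle hs)
      let B : Subgroup X := H.map (centralizer ({t} : Set X)).subtype ⊓ P
      have hconj : ∀ k ∈ K, ∀ y ∈ H, k * y * k⁻¹ ∈ H := by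
        intro k hk y hy
        have := hN.conj_mem ⟨y, hle hy⟩ (mem_subgroupOf.2 hy) ⟨k, hk⟩
        exact mem_subgroupOf.1 this
      have hBn : ∀ p ∈ P, ∀ b ∈ B, p * b * p⁻¹ ∈ B := by
        rintro p hp b ⟨⟨y, hy, rfl⟩, hbP⟩
        exact ⟨⟨_, hconj _ (ih p hp) y hy, rfl⟩, P.mul_mem (P.mul_mem hp hbP) (P.inv_mem hp)⟩
      rcases h.nrm B inf_le_right hBn with h1 | h1
      · left
        intro p hp
        have h2 : p ∈ B := by rw [h1]; exact hp
        obtain ⟨⟨y, hy, hyp⟩, -⟩ := h2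
        have h3 : y = ⟨p, mem_centralizer_singleton_iff.2 (h.Pt p hp)⟩ := Subtype.ext hyp
        rw [← h3]; exact hy
      · right
        intro s hs p hp
        apply h1
        refine ⟨?_, ?_⟩
        · have h2 := H.mul_mem hs (hconj _ (ih p hp) _ (H.inv_mem hs))
          refine ⟨_, h2, ?_⟩
          show (s : X) * (p * (s : X)⁻¹ * p⁻¹) = _
          group
        · exact P.mul_mem (h.Pn s (mem_centralizer_singleton_iff.1 s.2) p hp) (P.inv_mem hp)
  rcases key _ hSn with h1 | h1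
  · exact Or.inl fun p hp => mem_subgroupOf.1 (h1 p hp)
  · exact Or.inr fun s hs p hp => h1 ⟨s, hS hs⟩ (mem_subgroupOf.2 hs) p hp

/-- the kernel of `C(t)` on `P / R` -/
def OO (h : Hyp z t u R P) : Subgroup X where
  carrier := {x | x * t = t * x ∧ ∀ p ∈ P, x * p * x⁻¹ * p⁻¹ ∈ R}
  one_mem' := ⟨by rw [one_mul, mul_one], fun p _ => by simp [R.one_mem]⟩
  mul_mem' := by
    rintro x y ⟨hx, hx'⟩ ⟨hy, hy'⟩
    refine ⟨((show Commute x t from hx).mul_left hy).eq, fun p hp => ?_⟩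
    have e : x * y * p * (x * y)⁻¹ * p⁻¹ = (x * (y * p * y⁻¹ * p⁻¹) * x⁻¹) * (x * p * x⁻¹ * p⁻¹) := by group
    rw [e]
    exact R.mul_mem (h.Rn x hx _ (hy' p hp)) (hx' p hp)
  inv_mem' := by
    rintro x ⟨hx, hx'⟩
    have hxi : x⁻¹ * t = t * x⁻¹ := (show Commute x t from hx).inv_left.eq
    refine ⟨hxi, fun p hp => ?_⟩
    have e : x⁻¹ * p * x⁻¹⁻¹ * p⁻¹ = (x⁻¹ * (x * p * x⁻¹ * p⁻¹) * x⁻¹⁻¹)⁻¹ *
        ((x⁻¹ * (x * p * x⁻¹ * p⁻¹) * x⁻¹⁻¹) * (x⁻¹ * p * x⁻¹⁻¹ * p⁻¹)) := by group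
    have e2 : x⁻¹ * p * x⁻¹⁻¹ * p⁻¹ = (x⁻¹ * (p * x * p⁻¹ * x⁻¹) * x⁻¹⁻¹) := by group
    rw [e2]
    apply h.Rn x⁻¹ hxi
    have e3 : p * x * p⁻¹ * x⁻¹ = (x * p * x⁻¹ * p⁻¹)⁻¹ := by group
    rw [e3]
    exact R.inv_mem (hx' p hp)

theorem mem_OO (h : Hyp z t u R P) {x : X} :
    x ∈ h.OO ↔ x * t = t * x ∧ ∀ p ∈ P, x * p * x⁻¹ * p⁻¹ ∈ R := Iff.rfl

theorem OO_card [Finite X] (h : Hyp z t u R P) : Nat.card h.OO ≤ 256 := by
  classical
  -- an element inverting `u`, if there is one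
  obtain ⟨x₁, hx₁⟩ : ∃ x₁ : X, ∀ x ∈ h.OO, x ∈ R ∨ t * x ∈ R ∨ x₁⁻¹ * x ∈ R ∨ t * (x₁⁻¹ * x) ∈ R := by
    by_cases hex : ∃ x₁ ∈ h.OO, x₁ * u * x₁⁻¹ = u⁻¹
    · obtain ⟨x₁, hx₁, hx₁'⟩ := hex
      refine ⟨x₁, fun x hx => ?_⟩
      rcases h.out x hx.1 hx.2 with h1 | h1 | h1
      · exact Or.inl h1
      · exact Or.inr (Or.inl h1)
      · have h2 : x₁⁻¹ * x ∈ h.OO := h.OO.mul_mem (h.OO.inv_mem hx₁) hx
        rcases h.out _ h2.1 h2.2 with h3 | h3 | h3
        · exact Or.inr (Or.inr (Or.inl h3))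
        · exact Or.inr (Or.inr (Or.inr h3))
        · exfalso
          apply h.u_ne_inv
          have e1 : x₁⁻¹ * u⁻¹ * x₁ = u := by rw [← hx₁']; group
          calc u = x₁⁻¹ * u⁻¹ * x₁ := e1.symm
            _ = x₁⁻¹ * (x * u * x⁻¹) * x₁ := by rw [h1]
            _ = x₁⁻¹ * x * u * (x₁⁻¹ * x)⁻¹ := by group
            _ = u⁻¹ := h3
    · push Not at hex
      refine ⟨1, fun x hx => ?_⟩
      rcases h.out x hx.1 hx.2 with h1 | h1 | h1
      · exact Or.inl h1
      · exact Or.inr (Or.inl h1)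
      · exact absurd h1 (hex x hx)
  let f : (Fin 2 × Fin 2) × R → X := fun q =>
    (if q.1.1 = 0 then 1 else x₁) * (if q.1.2 = 0 then 1 else t) * q.2
  have hsub : (h.OO : Set X) ⊆ Set.range f := by
    intro x hx
    rcases hx₁ x hx with h1 | h1 | h1 | h1
    · exact ⟨((0, 0), ⟨x, h1⟩), by simp [f]⟩
    · refine ⟨((0, 1), ⟨t * x, h1⟩), ?_⟩
      simp only [f, if_true, Fin.isValue, one_ne_zero, if_false, one_mul]
      rw [← mul_assoc, h.tt, one_mul]
    · refine ⟨((1, 0), ⟨x₁⁻¹ * x, h1⟩), ?_⟩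
      simp only [f, if_true, Fin.isValue, one_ne_zero, if_false, mul_one]
      group
    · refine ⟨((1, 1), ⟨t * (x₁⁻¹ * x), h1⟩), ?_⟩
      simp only [f, Fin.isValue, one_ne_zero, if_false]
      calc x₁ * t * (t * (x₁⁻¹ * x)) = x₁ * (t * t) * (x₁⁻¹ * x) := by group
        _ = x := by rw [h.tt]; group
  have h1 : Nat.card h.OO ≤ Nat.card (Set.range f) := Nat.card_mono (Set.toFinite _) hsub
  have h2 : Nat.card (Set.range f) ≤ Nat.card ((Fin 2 × Fin 2) × R) := Finite.card_range_le f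
  have h3 : Nat.card ((Fin 2 × Fin 2) × R) = 4 * Nat.card R := by
    rw [Nat.card_prod, Nat.card_prod]; simp
  have h4 := h.cardR
  omega

theorem OO_two (h : Hyp z t u R P) : IsPGroup 2 h.OO := by
  have hR : ∀ x, x ∈ R → ∃ k : ℕ, x ^ 2 ^ k = 1 := by
    intro x hx
    obtain ⟨k, hk⟩ := h.R2 ⟨x, hx⟩
    exact ⟨k, congrArg Subtype.val hk⟩
  have h1 : ∀ x, x * t = t * x → x ∈ R ∨ t * x ∈ R → ∃ k : ℕ, x ^ 2 ^ k = 1 := by
    intro x hxt hx
    rcases hx with hx | hx
    · exact hR x hx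
    · obtain ⟨k, hk⟩ := hR _ (R.mul_mem hx hx)
      refine ⟨k + 1, ?_⟩
      have e : t * x * (t * x) = x ^ 2 := by
        calc t * x * (t * x) = t * (x * t) * x := by group
          _ = (t * t) * x * x := by rw [hxt]; group
          _ = x ^ 2 := by rw [h.tt, one_mul, pow_two]
      rw [e] at hk
      rw [pow_succ', pow_mul]
      exact hk
  rintro ⟨x, hx⟩
  have h2 : ∃ k : ℕ, x ^ 2 ^ k = 1 := by
    rcases h.out x hx.1 hx.2 with h3 | h3 | h3
    · exact h1 x hx.1 (Or.inl h3)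
    · exact h1 x hx.1 (Or.inr h3)
    · have hxx : x * x ∈ h.OO := h.OO.mul_mem hx hx
      have h4 : ∃ k : ℕ, (x * x) ^ 2 ^ k = 1 := by
        apply h1 _ hxx.1
        rcases h.out _ hxx.1 hxx.2 with h5 | h5 | h5
        · exact Or.inl h5
        · exact Or.inr h5
        · exfalso
          apply h.u_ne_inv
          rw [← h5]
          calc u = (u⁻¹)⁻¹ := (inv_inv u).symm
            _ = (x * u * x⁻¹)⁻¹ := by rw [h3]
            _ = x * u⁻¹ * x⁻¹ := by group
            _ = x * (x * u * x⁻¹) * x⁻¹ := by rw [h3]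
            _ = x * x * u * (x * x)⁻¹ := by group
      obtain ⟨k, hk⟩ := h4
      refine ⟨k + 1, ?_⟩
      rw [pow_succ', pow_mul, pow_two]
      exact hk
  obtain ⟨k, hk⟩ := h2
  exact ⟨k, Subtype.ext hk⟩

/-- `R` is not contained in a quasisimple subgroup normalising it -/
theorem not_quasisimple [Finite X] (h : Hyp z t u R P) {D : Subgroup X} (hD : IsQuasisimple D) (hRD : R ≤ D)
    (hn : ∀ x ∈ D, x * t = t * x) : False := by
  have hN : (R.subgroupOf D).Normal := by
    refine ⟨fun r hr g => ?_⟩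
    rw [mem_subgroupOf] at hr ⊢
    exact h.Rn g (hn g g.2) r hr
  obtain ⟨a, ha, b, hb, hab⟩ := h.Rna
  rcases quasisimple_normal hD _ hN with h1 | h1
  · have h2 : D ≤ R := by
      intro x hx
      have : (⟨x, hx⟩ : D) ∈ R.subgroupOf D := by rw [h1]; trivial
      rwa [mem_subgroupOf] at this
    have h4 : D = R := le_antisymm h2 hRD
    have : Fact (Nat.Prime 2) := ⟨Nat.prime_two⟩
    apply quasisimple_not_isSolvable hD
    have h5 := h.R2.isNilpotent
    rw [h4]
    infer_instance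
  · apply hab
    have h2 := h1 (show (⟨a, hRD ha⟩ : D) ∈ R.subgroupOf D from ha)
    rw [mem_center_iff] at h2
    exact (congrArg Subtype.val (h2 ⟨b, hRD hb⟩)).symm

/-- `t` normalises every component -/
theorem cj_t [Finite X] (h : Hyp z t u R P) {M : Subgroup X} (hM : IsComponent M) : cj t M = M := by
  by_contra hne
  obtain ⟨D, hD1, -, hD2, hD3, -⟩ := Cfsg.Agent.Cit.Comp.exists_diag hM h.tt hne
  have hDp : ⁅D, D⁆ = D := isPerfect_iff.1 hD3.1
  have hDP : D ≤ P := h.res D hD1 hDp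
  rcases h.dich hD1 hD2.1 with h1 | h1
  · exact h.not_quasisimple hD3 (h.RP.trans h1) (fun x hx => mem_centralizer_singleton_iff.1 (hD1 hx))
  · have hDR : D ≤ R := by
      rw [← hDp, commutator_le]
      intro a ha b hb
      rw [commutatorElement_def]
      exact h1 a ha b (hDP hb)
    have : Fact (Nat.Prime 2) := ⟨Nat.prime_two⟩
    apply quasisimple_not_isSolvable hD3
    have h5 : IsPGroup 2 D := h.R2.to_le hDR
    have h6 := h5.isNilpotent
    infer_instance

/-- an element of `C(t)` whose commutators with `P` are in `⟨u⟩` centralises `P` -/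
theorem comm_P (h : Hyp z t u R P) {x : X} (hx : ∀ p ∈ P, x * p * x⁻¹ * p⁻¹ ∈ zpowers u) :
    ∀ p ∈ P, x * p = p * x := by
  have hu : ∀ c ∈ zpowers u, ∀ p ∈ P, Commute p c := by
    intro c hc p hp
    obtain ⟨k, rfl⟩ := mem_zpowers_iff.1 hc
    exact (show Commute p u from h.uP p hp).zpow_right k
  have hle : P ≤ centralizer ({x} : Set X) := by
    calc P = ⁅P, P⁆ := h.Pperf.symm
      _ ≤ centralizer ({x} : Set X) := by
        rw [commutator_le]
        intro p hp q hq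
        rw [mem_centralizer_singleton_iff, commutatorElement_def]
        have hcp := hx p hp
        have hcq := hx q hq
        set c := x * p * x⁻¹ * p⁻¹ with hc
        set d := x * q * x⁻¹ * q⁻¹ with hd
        have e1 : x * p * x⁻¹ = c * p := by rw [hc]; group
        have e2 : x * q * x⁻¹ = d * q := by rw [hd]; group
        have C1 : Commute p c := hu c hcp p hp
        have C2 : Commute q c := hu c hcp q hq
        have C3 : Commute p d := hu d hcq p hp
        have C4 : Commute q d := hu d hcq q hq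
        have hdP : d ∈ P := by
          obtain ⟨k, hk⟩ := mem_zpowers_iff.1 hcq
          rw [← hk]; exact zpow_mem (h.RP h.uR) k
        have C0 : Commute d c := hu c hcp d hdP
        have e3 : x * (p * q * p⁻¹ * q⁻¹) * x⁻¹ = p * q * p⁻¹ * q⁻¹ := by
          calc x * (p * q * p⁻¹ * q⁻¹) * x⁻¹
              = (x * p * x⁻¹) * (x * q * x⁻¹) * (x * p * x⁻¹)⁻¹ * (x * q * x⁻¹)⁻¹ := by group
            _ = (c * p) * (d * q) * (c * p)⁻¹ * (d * q)⁻¹ := by rw [e1, e2]
            _ = c * (p * d) * q * p⁻¹ * c⁻¹ * q⁻¹ * d⁻¹ := by group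
            _ = c * (d * p) * q * p⁻¹ * c⁻¹ * q⁻¹ * d⁻¹ := by rw [C3.eq]
            _ = (c * d) * (p * q * p⁻¹ * (c⁻¹ * q⁻¹)) * d⁻¹ := by group
            _ = (c * d) * (p * q * p⁻¹ * (q⁻¹ * c⁻¹)) * d⁻¹ := by rw [(C2.inv_inv).eq]
            _ = (c * d) * ((p * q * p⁻¹ * q⁻¹) * (c⁻¹ * d⁻¹)) := by group
            _ = (c * d) * ((c⁻¹ * d⁻¹) * (p * q * p⁻¹ * q⁻¹)) := by
                have C5 : Commute (p * q * p⁻¹ * q⁻¹) c :=
                  ((C1.mul_left C2).mul_left C1.inv_left).mul_left C2.inv_left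
                have C6 : Commute (p * q * p⁻¹ * q⁻¹) d :=
                  ((C3.mul_left C4).mul_left C3.inv_left).mul_left C4.inv_left
                rw [((C5.inv_right).mul_right C6.inv_right).eq]
            _ = c * d * (d * c)⁻¹ * (p * q * p⁻¹ * q⁻¹) := by group
            _ = p * q * p⁻¹ * q⁻¹ := by rw [C0.eq]; group
        rw [mul_inv_eq_iff_eq_mul] at e3
        exact e3.symm
  intro p hp
  exact (mem_centralizer_singleton_iff.1 (hle hp)).symm

/-- elements of `C(t)` centralising `P` -/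
theorem mem_of_comm (h : Hyp z t u R P) {x : X} (hxt : x * t = t * x) (hx : ∀ p ∈ P, x * p = p * x) :
    x ∈ zpowers u ∨ t * x ∈ zpowers u := h.cR x hxt fun r hr => hx r (h.RP hr)

/-- case (B1): `P` normalises `M` -/
theorem comm_of_normalise [Finite X] (h : Hyp z t u R P) {M : Subgroup X} (hM : IsComponent M)
    (hS : ∀ s ∈ M, s * t = t * s → s ∈ h.OO) (hP : P ≤ M ⊔ centralizer (M : Set X)) :
    ∀ p ∈ P, ∀ m ∈ M, p * m = m * p := by
  set Y : Subgroup X := centralizer (M : Set X) with hY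
  have hMY : ∀ x ∈ M, ∀ y ∈ Y, x * y = y * x := fun x hx y hy => mem_centralizer_iff.1 hy x hx
  have hcjM : cj t M = M := h.cj_t hM
  have hcjY : ∀ y ∈ Y, t * y * t⁻¹ ∈ Y := by
    intro y hy
    rw [hY, mem_centralizer_iff]
    intro m hm
    have hm' : t⁻¹ * m * t ∈ M := by
      have : m ∈ cj t M := by rw [hcjM]; exact hm
      rwa [mem_cj] at this
    have h2 := hMY _ hm' y hy
    calc m * (t * y * t⁻¹) = t * (t⁻¹ * m * t * y) * t⁻¹ := by group
      _ = t * (y * (t⁻¹ * m * t)) * t⁻¹ := by rw [h2]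
      _ = t * y * t⁻¹ * m := by group
  set S : Subgroup X := M ⊓ centralizer ({t} : Set X) with hSd
  have hS2 : IsPGroup 2 S := h.OO_two.to_le (fun s hs => hS s hs.1 (mem_centralizer_singleton_iff.1 hs.2))
  -- the first step
  have key : ∀ m ∈ M, ∀ c ∈ Y, m * c ∈ P → ∃ e ∈ M ⊓ Y, t * m * t⁻¹ = e * m := by
    intro m hm c hc hmc
    have h1 : t * (m * c) * t⁻¹ = m * c := by
      rw [← h.Pt _ hmc, mul_inv_cancel_right]
    have hm' : t * m * t⁻¹ ∈ M := by
      have := conj_mem_cj (g := t) hm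
      rwa [hcjM] at this
    have hc' : t * c * t⁻¹ ∈ Y := hcjY c hc
    have h2 : t * m * t⁻¹ * m⁻¹ = c * (t * c * t⁻¹)⁻¹ := by
      have h3 : (t * m * t⁻¹) * (t * c * t⁻¹) = m * c := by rw [← h1]; group
      have h4 : (t * c * t⁻¹)⁻¹ = c⁻¹ * m⁻¹ * (t * m * t⁻¹) := by
        rw [inv_eq_iff_mul_eq_one]
        calc t * c * t⁻¹ * (c⁻¹ * m⁻¹ * (t * m * t⁻¹))
            = (t * m * t⁻¹)⁻¹ * ((t * m * t⁻¹) * (t * c * t⁻¹)) * (m * c)⁻¹ * (t * m * t⁻¹) := by group
          _ = 1 := by rw [h3]; group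
      have h5 : Commute (t * m * t⁻¹) c := hMY _ hm' c hc
      have h6 : Commute m c := hMY _ hm c hc
      rw [h4]
      calc t * m * t⁻¹ * m⁻¹ = m⁻¹ * (m * (t * m * t⁻¹) * m⁻¹) := by group
        _ = m⁻¹ * (m * (t * m * t⁻¹) * m⁻¹) := rfl
        _ = c * (c⁻¹ * m⁻¹ * (t * m * t⁻¹)) := by
          have hcen : Commute (t * m * t⁻¹ * m⁻¹) m := by
            -- `t m t⁻¹ m⁻¹ ∈ M ∩ Y`
            have e7 : t * m * t⁻¹ * m⁻¹ = (m * c) * (t * c * t⁻¹)⁻¹ * m⁻¹ := by rw [← h3]; group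
            have h8 : Commute m (t * c * t⁻¹) := hMY m hm _ hc'
            have e9 : t * m * t⁻¹ * m⁻¹ = c * (t * c * t⁻¹)⁻¹ := by
              rw [e7]
              calc m * c * (t * c * t⁻¹)⁻¹ * m⁻¹ = m * (c * (t * c * t⁻¹)⁻¹) * m⁻¹ := by group
                _ = (c * (t * c * t⁻¹)⁻¹) * m * m⁻¹ := by rw [(h6.mul_right h8.inv_right).eq]
                _ = c * (t * c * t⁻¹)⁻¹ := by group
            rw [e9]
            exact (h6.mul_right h8.inv_right).symm
          have e10 : m * (t * m * t⁻¹) = (t * m * t⁻¹) * m := by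
            calc m * (t * m * t⁻¹) = m * (t * m * t⁻¹ * m⁻¹) * m := by group
              _ = (t * m * t⁻¹ * m⁻¹) * m * m := by rw [hcen.eq]
              _ = (t * m * t⁻¹) * m := by group
          rw [e10]
          have e11 : c * (c⁻¹ * m⁻¹ * (t * m * t⁻¹)) = m⁻¹ * (t * m * t⁻¹) := by group
          rw [e11]
          group
    refine ⟨t * m * t⁻¹ * m⁻¹, ⟨M.mul_mem hm' (M.inv_mem hm), ?_⟩, by group⟩
    rw [h2]
    exact Y.mul_mem hc (Y.inv_mem hc')
  have hP1 : P ≤ S ⊔ Y := by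
    rw [← h.Pperf, commutator_le]
    intro p hp q hq
    obtain ⟨m, hm, c, hc, rfl⟩ := Cfsg.Agent.Cit.Comp.mem_sup_comm hMY (hP hp)
    obtain ⟨n, hn, d, hd, rfl⟩ := Cfsg.Agent.Cit.Comp.mem_sup_comm hMY (hP hq)
    obtain ⟨e, he, hem⟩ := key m hm c hc hp
    obtain ⟨f, hf, hfn⟩ := key n hn d hd hq
    have mc : Commute m c := hMY m hm c hc
    have md : Commute m d := hMY m hm d hd
    have nc : Commute n c := hMY n hn c hc
    have nd : Commute n d := hMY n hn d hd
    have h3 : (m * c) * (n * d) * (m * c)⁻¹ * (n * d)⁻¹ = (m * n * m⁻¹ * n⁻¹) * (c * d * c⁻¹ * d⁻¹) := by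
      rw [mul_inv_rev, mul_inv_rev]
      calc m * c * (n * d) * (c⁻¹ * m⁻¹) * (d⁻¹ * n⁻¹)
          = m * (c * n) * d * (c⁻¹ * m⁻¹) * (d⁻¹ * n⁻¹) := by group
        _ = m * (n * c) * d * (m⁻¹ * c⁻¹) * (n⁻¹ * d⁻¹) := by
            rw [nc.eq, (mc.inv_inv).eq, (nd.inv_inv).eq]
        _ = m * n * (c * d * m⁻¹) * (c⁻¹ * n⁻¹) * d⁻¹ := by group
        _ = m * n * (m⁻¹ * (c * d)) * (n⁻¹ * c⁻¹) * d⁻¹ := by
            rw [((mc.mul_right md).inv_left).eq, (nc.inv_inv).eq]
        _ = m * n * m⁻¹ * ((c * d) * n⁻¹) * c⁻¹ * d⁻¹ := by group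
        _ = m * n * m⁻¹ * (n⁻¹ * (c * d)) * c⁻¹ * d⁻¹ := by
            rw [((nc.mul_right nd).inv_left).eq]
        _ = m * n * m⁻¹ * n⁻¹ * (c * d * c⁻¹ * d⁻¹) := by group
    rw [commutatorElement_def, h3]
    refine mul_mem (mem_sup_left ⟨?_, ?_⟩) (mem_sup_right ?_)
    · exact M.mul_mem (M.mul_mem (M.mul_mem hm hn) (M.inv_mem hm)) (M.inv_mem hn)
    · refine mem_centralizer_singleton_iff.2 ?_
      have em : Commute e m := (hMY m hm e he.2).symm
      have en : Commute e n := (hMY n hn e he.2).symm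
      have fm : Commute f m := (hMY m hm f hf.2).symm
      have fn : Commute f n := (hMY n hn f hf.2).symm
      have ef : Commute e f := hMY e he.1 f hf.2
      have h5 : t * (m * n * m⁻¹ * n⁻¹) * t⁻¹ = m * n * m⁻¹ * n⁻¹ := by
        calc t * (m * n * m⁻¹ * n⁻¹) * t⁻¹
            = (t * m * t⁻¹) * (t * n * t⁻¹) * (t * m * t⁻¹)⁻¹ * (t * n * t⁻¹)⁻¹ := by group
          _ = (e * m) * (f * n) * (e * m)⁻¹ * (f * n)⁻¹ := by rw [hem, hfn]
          _ = e * (m * f) * n * m⁻¹ * e⁻¹ * n⁻¹ * f⁻¹ := by group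
          _ = e * (f * m) * n * m⁻¹ * e⁻¹ * n⁻¹ * f⁻¹ := by rw [fm.eq]
          _ = (e * f) * (m * n * m⁻¹ * (e⁻¹ * n⁻¹)) * f⁻¹ := by group
          _ = (e * f) * (m * n * m⁻¹ * (n⁻¹ * e⁻¹)) * f⁻¹ := by rw [(en.inv_inv).eq]
          _ = (e * f) * ((m * n * m⁻¹ * n⁻¹) * (e⁻¹ * f⁻¹)) := by group
          _ = (e * f) * ((e⁻¹ * f⁻¹) * (m * n * m⁻¹ * n⁻¹)) := by
              have C5 : Commute (m * n * m⁻¹ * n⁻¹) e :=
                ((em.symm.mul_left en.symm).mul_left em.symm.inv_left).mul_left en.symm.inv_left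
              have C6 : Commute (m * n * m⁻¹ * n⁻¹) f :=
                ((fm.symm.mul_left fn.symm).mul_left fm.symm.inv_left).mul_left fn.symm.inv_left
              rw [((C5.inv_right).mul_right C6.inv_right).eq]
          _ = e * f * (f * e)⁻¹ * (m * n * m⁻¹ * n⁻¹) := by group
          _ = m * n * m⁻¹ * n⁻¹ := by rw [ef.eq]; group
      rw [mul_inv_eq_iff_eq_mul] at h5
      exact h5.symm
    · exact Y.mul_mem (Y.mul_mem (Y.mul_mem hc hd) (Y.inv_mem hc)) (Y.inv_mem hd)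
  -- the derived series of `S`
  have : Fact (Nat.Prime 2) := ⟨Nat.prime_two⟩
  have hSY : ∀ k, P ≤ (derivedSeries S k).map S.subtype ⊔ Y := by
    intro k
    induction k with
    | zero =>
      rw [derivedSeries_zero, ← MonoidHom.range_eq_map, range_subtype]
      exact hP1
    | succ k ih =>
      rw [← h.Pperf, commutator_le]
      intro p hp q hq
      have hc : ∀ x ∈ (derivedSeries S k).map S.subtype, ∀ y ∈ Y, x * y = y * x := by
        rintro _ ⟨x, -, rfl⟩ y hy
        exact hMY x x.2.1 y hy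
      obtain ⟨m, hm, c, hc1, rfl⟩ := Cfsg.Agent.Cit.Comp.mem_sup_comm hc (ih hp)
      obtain ⟨n, hn, d, hd1, rfl⟩ := Cfsg.Agent.Cit.Comp.mem_sup_comm hc (ih hq)
      have mc : Commute m c := hc m hm c hc1
      have md : Commute m d := hc m hm d hd1
      have nc : Commute n c := hc n hn c hc1
      have nd : Commute n d := hc n hn d hd1
      have h3 : (m * c) * (n * d) * (m * c)⁻¹ * (n * d)⁻¹ = (m * n * m⁻¹ * n⁻¹) * (c * d * c⁻¹ * d⁻¹) := by
        rw [mul_inv_rev, mul_inv_rev]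
        calc m * c * (n * d) * (c⁻¹ * m⁻¹) * (d⁻¹ * n⁻¹)
            = m * (c * n) * d * (c⁻¹ * m⁻¹) * (d⁻¹ * n⁻¹) := by group
          _ = m * (n * c) * d * (m⁻¹ * c⁻¹) * (n⁻¹ * d⁻¹) := by
              rw [nc.eq, (mc.inv_inv).eq, (nd.inv_inv).eq]
          _ = m * n * (c * d * m⁻¹) * (c⁻¹ * n⁻¹) * d⁻¹ := by group
          _ = m * n * (m⁻¹ * (c * d)) * (n⁻¹ * c⁻¹) * d⁻¹ := by
              rw [((mc.mul_right md).inv_left).eq, (nc.inv_inv).eq]
          _ = m * n * m⁻¹ * ((c * d) * n⁻¹) * c⁻¹ * d⁻¹ := by group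
          _ = m * n * m⁻¹ * (n⁻¹ * (c * d)) * c⁻¹ * d⁻¹ := by
              rw [((nc.mul_right nd).inv_left).eq]
          _ = m * n * m⁻¹ * n⁻¹ * (c * d * c⁻¹ * d⁻¹) := by group
      rw [commutatorElement_def, h3]
      refine mul_mem (mem_sup_left ?_) (mem_sup_right ?_)
      · obtain ⟨m', hm', rfl⟩ := hm
        obtain ⟨n', hn', rfl⟩ := hn
        refine ⟨m' * n' * m'⁻¹ * n'⁻¹, ?_, rfl⟩
        rw [derivedSeries_succ]
        exact commutator_mem_commutator hm' hn'
      · exact Y.mul_mem (Y.mul_mem (Y.mul_mem hc1 hd1) (Y.inv_mem hc1)) (Y.inv_mem hd1)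
  have hSn := hS2.isNilpotent
  have hSs : Group.IsSolvable S := inferInstance
  obtain ⟨k, hk⟩ := hSs.solvable
  have hPY := hSY k
  rw [hk, Subgroup.map_bot, bot_sup_eq] at hPY
  intro p hp m hm
  exact (hMY m hm p (hPY hp)).symm

/-- `S^p ≤ O` -/
theorem cj_S_le (h : Hyp z t u R P) {M : Subgroup X} (hS : ∀ s ∈ M, s * t = t * s → s ∈ h.OO) {p : X}
    (hp : p ∈ P) : cj p (M ⊓ centralizer ({t} : Set X)) ≤ h.OO := by
  rintro _ ⟨s, hs, rfl⟩
  have hsO : s ∈ h.OO := hS s hs.1 (mem_centralizer_singleton_iff.1 hs.2)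
  show p * s * p⁻¹ ∈ h.OO
  have hpt : Commute p t := h.Pt p hp
  have hst : Commute s t := hsO.1
  refine ⟨((hpt.mul_left hst).mul_left hpt.inv_left).eq, fun q hq => ?_⟩
  have e : p * s * p⁻¹ * q * (p * s * p⁻¹)⁻¹ * q⁻¹ =
      p * (s * (p⁻¹ * q * p) * s⁻¹ * (p⁻¹ * q * p)⁻¹) * p⁻¹ := by group
  rw [e]
  exact h.Rn p (h.Pt p hp) _ (hsO.2 _ (P.mul_mem (P.mul_mem (P.inv_mem hp) hq) hp))

/-- case (B2): `P` does not normalise `M`; then `C_M(t)` is abelian -/
theorem abelian_of_not_normalise [Finite X] (h : Hyp z t u R P) {M : Subgroup X} (hM : IsComponent M)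
    (hS : ∀ s ∈ M, s * t = t * s → s ∈ h.OO) (hP : ¬ ∀ p ∈ P, cj p M = M) :
    ∀ a ∈ M, a * t = t * a → ∀ b ∈ M, b * t = t * b → a * b = b * a := by
  classical
  set S : Subgroup X := M ⊓ centralizer ({t} : Set X) with hSd
  -- the stabiliser
  let B : Subgroup X := P ⊓ normalizer (M : Set X)
  have hBmem : ∀ p ∈ P, p ∈ normalizer (M : Set X) → cj p M = M := by
    intro p _ hp
    ext x
    rw [mem_cj]
    have h1 := mem_normalizer_iff.1 (inv_mem hp) x
    rw [inv_inv] at h1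
    exact h1.symm
  have hBidx : 5 ≤ B.relIndex P := by
    by_contra hlt
    have h1 := h.idx B inf_le_left (by omega)
    apply hP
    intro p hp
    have h2 : p ∈ B := by rw [h1]; exact hp
    exact hBmem p hp h2.2
  -- five elements in different cosets
  have hcard : Nat.card (Fin 5) ≤ Nat.card (P ⧸ B.subgroupOf P) := by
    rw [Nat.card_eq_fintype_card, Fintype.card_fin]
    exact hBidx
  obtain ⟨f⟩ : Nonempty (Fin 5 ↪ P ⧸ B.subgroupOf P) := by
    have := Fintype.ofFinite (P ⧸ B.subgroupOf P)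
    rw [Nat.card_eq_fintype_card, Nat.card_eq_fintype_card] at hcard
    exact Function.Embedding.nonempty_of_card_le hcard
  let p : Fin 5 → P := fun i => (f i).out
  have hpne : ∀ i j, i ≠ j → cj (p i : X) M ≠ cj (p j : X) M := by
    intro i j hij hne
    apply hij
    apply f.injective
    have h1 : cj ((p i : X)⁻¹ * p j) M = M := by
      rw [Cfsg.Agent.Cit.cj_mul, ← hne, ← Cfsg.Agent.Cit.cj_mul, inv_mul_cancel, Cfsg.Agent.Cit.cj_one]
    have h2 : (p i)⁻¹ * p j ∈ B.subgroupOf P := by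
      rw [mem_subgroupOf]
      refine ⟨((p i)⁻¹ * p j).2, ?_⟩
      refine mem_normalizer_iff.2 ?_
      intro x
      have h3 := conj_mem_cj_iff (g := ((p i : X)⁻¹ * p j)) (x := x) (K := M)
      rw [h1] at h3
      exact h3.symm
    have h3 : ((p i : P) : P ⧸ B.subgroupOf P) = (p j : P) := QuotientGroup.eq.2 h2
    rw [← (Quotient.out_eq' (f i)), ← (Quotient.out_eq' (f j))]
    exact h3
  have hpcomm : ∀ i j, i ≠ j → ∀ x ∈ cj (p i : X) S, ∀ y ∈ cj (p j : X) S, x * y = y * x := by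
    rintro i j hij _ ⟨x, hx, rfl⟩ _ ⟨y, hy, rfl⟩
    exact Cfsg.Agent.Cit.Comp.comm_of_ne (Cfsg.Agent.Cit.Comp.isComponent_cj hM _)
      (Cfsg.Agent.Cit.Comp.isComponent_cj hM _) (hpne i j hij) (conj_mem_cj hx.1) (conj_mem_cj hy.1)
  -- if `S` is not abelian, the order is too large
  intro a ha hat b hb hbt
  by_contra hab
  have haS : a ∈ S := ⟨ha, mem_centralizer_singleton_iff.2 hat⟩
  have hbS : b ∈ S := ⟨hb, mem_centralizer_singleton_iff.2 hbt⟩
  have hstep : ∀ (i : Fin 5) (L : Subgroup X), (∀ x ∈ cj (p i : X) S, ∀ y ∈ L, x * y = y * x) →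
      4 * Nat.card L ≤ Nat.card (cj (p i : X) S ⊔ L : Subgroup X) := by
    intro i L hL
    refine four_mul_card_le hL (conj_mem_cj haS) (conj_mem_cj hbS) ?_
    intro e
    apply hab
    have e1 : (p i : X) * (a * b) * (p i : X)⁻¹ = (p i : X) * (b * a) * (p i : X)⁻¹ := by
      calc (p i : X) * (a * b) * (p i : X)⁻¹ = (p i : X) * a * (p i : X)⁻¹ * ((p i : X) * b * (p i : X)⁻¹) := by
            group
        _ = (p i : X) * b * (p i : X)⁻¹ * ((p i : X) * a * (p i : X)⁻¹) := e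
        _ = (p i : X) * (b * a) * (p i : X)⁻¹ := by group
    exact mul_left_cancel (mul_right_cancel e1)
  have hcen : ∀ (i : Fin 5) (L : Subgroup X), (∀ x ∈ cj (p i : X) S, ∀ y ∈ L, x * y = y * x) ↔
      L ≤ centralizer ((cj (p i : X) S : Subgroup X) : Set X) := by
    intro i L
    constructor
    · intro h1 y hy
      rw [mem_centralizer_iff]
      intro x hx
      exact h1 x hx y hy
    · intro h1 x hx y hy
      exact mem_centralizer_iff.1 (h1 hy) x hx
  have hcij : ∀ i j, i ≠ j → cj (p j : X) S ≤ centralizer ((cj (p i : X) S : Subgroup X) : Set X) :=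
    fun i j hij => (hcen i _).1 (hpcomm i j hij)
  let L₁ : Subgroup X := cj (p 0 : X) S ⊔ ⊥
  let L₂ : Subgroup X := cj (p 1 : X) S ⊔ L₁
  let L₃ : Subgroup X := cj (p 2 : X) S ⊔ L₂
  let L₄ : Subgroup X := cj (p 3 : X) S ⊔ L₃
  let L₅ : Subgroup X := cj (p 4 : X) S ⊔ L₄
  have e1 : 4 * Nat.card (⊥ : Subgroup X) ≤ Nat.card L₁ := hstep 0 ⊥ ((hcen 0 _).2 bot_le)
  have e2 : 4 * Nat.card L₁ ≤ Nat.card L₂ := hstep 1 L₁ ((hcen 1 _).2
    (sup_le (hcij 1 0 (by decide)) bot_le))
  have e3 : 4 * Nat.card L₂ ≤ Nat.card L₃ := hstep 2 L₂ ((hcen 2 _).2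
    (sup_le (hcij 2 1 (by decide)) (sup_le (hcij 2 0 (by decide)) bot_le)))
  have e4 : 4 * Nat.card L₃ ≤ Nat.card L₄ := hstep 3 L₃ ((hcen 3 _).2
    (sup_le (hcij 3 2 (by decide)) (sup_le (hcij 3 1 (by decide)) (sup_le (hcij 3 0 (by decide)) bot_le))))
  have e5 : 4 * Nat.card L₄ ≤ Nat.card L₅ := hstep 4 L₄ ((hcen 4 _).2
    (sup_le (hcij 4 3 (by decide)) (sup_le (hcij 4 2 (by decide)) (sup_le (hcij 4 1 (by decide))
      (sup_le (hcij 4 0 (by decide)) bot_le)))))
  have hi : ∀ i, cj (p i : X) S ≤ h.OO := fun i => h.cj_S_le hS (p i).2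
  have hL : L₅ ≤ h.OO := sup_le (hi 4) (sup_le (hi 3) (sup_le (hi 2) (sup_le (hi 1) (sup_le (hi 0) bot_le))))
  have e6 : Nat.card L₅ ≤ Nat.card h.OO := card_le_of_le hL
  have e7 := h.OO_card
  rw [card_bot] at e1
  omega

/-- case (B2): `C_M(t)` is centralised by `P` and by `M` -/
theorem of_not_normalise [Finite X] (h : Hyp z t u R P) {M : Subgroup X} (hM : IsComponent M)
    (hS : ∀ s ∈ M, s * t = t * s → s ∈ h.OO) (hP : ¬ ∀ p ∈ P, cj p M = M) :
    (∀ s ∈ M, s * t = t * s → ∀ p ∈ P, s * p = p * s) ∧ ∀ s ∈ M, s * t = t * s → ∀ m ∈ M, m * s = s * m := by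
  have hab := h.abelian_of_not_normalise hM hS hP
  set S : Subgroup X := M ⊓ centralizer ({t} : Set X) with hSd
  let G₀ : Set X := {x | ∃ p ∈ P, ∃ s ∈ S, x = p * s * p⁻¹}
  let L : Subgroup X := closure G₀
  -- generators commute
  have hcomm : ∀ x ∈ G₀, ∀ y ∈ G₀, x * y = y * x := by
    rintro _ ⟨p, hp, a, ha, rfl⟩ _ ⟨q, hq, b, hb, rfl⟩
    by_cases hpq : cj p M = cj q M
    · -- conjugate back
      have hb' : p⁻¹ * (q * b * q⁻¹) * p ∈ S := by
        have h1 : q * b * q⁻¹ ∈ cj p M := by rw [hpq]; exact conj_mem_cj hb.1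
        have h2 : (q * b * q⁻¹) * t = t * (q * b * q⁻¹) := (h.cj_S_le hS hq (conj_mem_cj hb)).1
        have hpt : Commute p t := h.Pt p hp
        refine ⟨mem_cj.1 h1, mem_centralizer_singleton_iff.2 ?_⟩
        exact ((hpt.inv_left.mul_left h2).mul_left hpt).eq
      have h3 := hab a ha.1 (mem_centralizer_singleton_iff.1 ha.2) _ hb'.1
        (mem_centralizer_singleton_iff.1 hb'.2)
      calc p * a * p⁻¹ * (q * b * q⁻¹) = p * (a * (p⁻¹ * (q * b * q⁻¹) * p)) * p⁻¹ := by group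
        _ = p * (p⁻¹ * (q * b * q⁻¹) * p * a) * p⁻¹ := by rw [h3]
        _ = q * b * q⁻¹ * (p * a * p⁻¹) := by group
    · exact Cfsg.Agent.Cit.Comp.comm_of_ne (Cfsg.Agent.Cit.Comp.isComponent_cj hM _)
        (Cfsg.Agent.Cit.Comp.isComponent_cj hM _) hpq (conj_mem_cj ha.1) (conj_mem_cj hb.1)
  have hLcomm : ∀ x ∈ L, ∀ y ∈ L, x * y = y * x := by
    have h1 : L ≤ centralizer G₀ := by
      rw [closure_le]
      intro x hx
      rw [SetLike.mem_coe, mem_centralizer_iff]
      intro y hy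
      exact hcomm y hy x hx
    have h2 : L ≤ centralizer (L : Set X) := by
      rw [closure_le]
      intro x hx
      rw [SetLike.mem_coe, mem_centralizer_iff]
      intro y hy
      exact (mem_centralizer_iff.1 (h1 hy) x hx).symm
    intro x hx y hy
    exact mem_centralizer_iff.1 (h2 hy) x hx
  have hLn : ∀ q ∈ P, ∀ x ∈ L, q * x * q⁻¹ ∈ L := by
    intro q hq
    have h1 : L ≤ L.comap (MulAut.conj q).toMonoidHom := by
      rw [closure_le]
      rintro _ ⟨p, hp, s, hs, rfl⟩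
      show q * (p * s * p⁻¹) * q⁻¹ ∈ L
      apply Subgroup.subset_closure
      exact ⟨q * p, P.mul_mem hq hp, s, hs, by group⟩
    intro x hx
    exact h1 hx
  have hLO : L ≤ h.OO := by
    rw [closure_le]
    rintro _ ⟨p, hp, s, hs, rfl⟩
    exact h.cj_S_le hS hp (conj_mem_cj hs)
  have hRL : R ⊓ L ≤ zpowers u := by
    apply h.abR _ inf_le_left
    · intro p hp b hb
      exact ⟨h.Rn p (h.Pt p hp) b hb.1, hLn p hp b hb.2⟩
    · intro a ha b hb
      exact hLcomm a ha.2 b hb.2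
  have hSL : ∀ s ∈ S, s ∈ L := fun s hs => Subgroup.subset_closure ⟨1, P.one_mem, s, hs, by group⟩
  have hSP : ∀ s ∈ S, ∀ p ∈ P, s * p = p * s := by
    intro s hs
    apply h.comm_P
    intro p hp
    apply hRL
    refine ⟨(hLO (hSL s hs)).2 p hp, ?_⟩
    have e : s * p * s⁻¹ * p⁻¹ = s * (p * s⁻¹ * p⁻¹) := by group
    rw [e]
    exact L.mul_mem (hSL s hs) (hLn p hp _ (L.inv_mem (hSL s hs)))
  refine ⟨fun s hs hst => hSP s ⟨hs, mem_centralizer_singleton_iff.2 hst⟩, fun s hs hst m hm => ?_⟩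
  have hsS : s ∈ S := ⟨hs, mem_centralizer_singleton_iff.2 hst⟩
  push Not at hP
  obtain ⟨p, hp, hpM⟩ := hP
  have h1 : s ∈ cj p M := by
    have h2 : p * s * p⁻¹ = s := by
      rw [← hSP s hsS p hp, mul_inv_cancel_right]
    rw [← h2]
    exact conj_mem_cj hs
  exact Cfsg.Agent.Cit.Comp.comm_of_ne hM (Cfsg.Agent.Cit.Comp.isComponent_cj hM _) (fun e => hpM e.symm) hm h1

theorem mem_four (h : Hyp z t u R P) {y : X} (hy : y * y = z) {x : X} :
    x ∈ zpowers y ↔ x = 1 ∨ x = z ∨ x = y ∨ x = y * z := by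
  have h4 : y ^ 4 = 1 := by
    rw [show (4 : ℕ) = 2 + 2 by norm_num, pow_add, pow_two, hy, h.zz]
  constructor
  · intro hx
    obtain ⟨k, rfl⟩ := mem_zpowers_iff.1 hx
    have h1 : y ^ k = y ^ (k % 4) := by
      conv_lhs => rw [← Int.mul_ediv_add_emod k 4]
      rw [zpow_add, zpow_mul, show y ^ (4 : ℤ) = 1 from by rw [show (4 : ℤ) = ((4 : ℕ) : ℤ) by norm_num,
        zpow_natCast, h4], one_zpow, one_mul]
    have h2 : 0 ≤ k % 4 := Int.emod_nonneg k (by norm_num)
    have h3 : k % 4 < 4 := Int.emod_lt_of_pos k (by norm_num)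
    have h5 : k % 4 = 0 ∨ k % 4 = 1 ∨ k % 4 = 2 ∨ k % 4 = 3 := by omega
    rw [h1]
    rcases h5 with h5 | h5 | h5 | h5 <;> rw [h5]
    · left; exact zpow_zero y
    · right; right; left; exact zpow_one y
    · right; left
      rw [show (2 : ℤ) = 1 + 1 by norm_num, zpow_add, zpow_one, hy]
    · right; right; right
      rw [show (3 : ℤ) = 1 + (1 + 1) by norm_num, zpow_add, zpow_add, zpow_one, hy]
  · have h1 : y ∈ zpowers y := mem_zpowers y
    have h2 : z ∈ zpowers y := by rw [← hy]; exact mul_mem h1 h1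
    rintro (rfl | rfl | rfl | rfl)
    · exact one_mem _
    · exact h2
    · exact h1
    · exact mul_mem h1 h2

/-- **components of `C_G(z)`** -/
theorem main [Finite X] (h : Hyp z t u R P) {M : Subgroup X} (hM : IsComponent M)
    (hSch : (∀ p ∈ P, cj p M = M) → P ≤ M ⊔ centralizer (M : Set X)) (hev : 2 ∣ Nat.card M) :
    (z ∈ M ∧ ∀ x ∈ M, x * x = 1 → x = 1 ∨ x = z) ∨ P ≤ M := by
  set S : Subgroup X := M ⊓ centralizer ({t} : Set X) with hSd
  have hSn : (S.subgroupOf (centralizer ({t} : Set X))).IsSubnormal := by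
    rw [hSd, inf_subgroupOf_right]
    exact hM.1.subgroupOf
  rcases h.dich (S := S) inf_le_right hSn with h1 | h1
  · exact Or.inr (h1.trans inf_le_left)
  left
  have hS : ∀ s ∈ M, s * t = t * s → s ∈ h.OO := fun s hs hst =>
    ⟨hst, h1 s ⟨hs, mem_centralizer_singleton_iff.2 hst⟩⟩
  have hMt : ∀ x ∈ M, t * x * t⁻¹ ∈ M := by
    intro x hx
    have := conj_mem_cj (g := t) hx
    rwa [h.cj_t hM] at this
  have hMp : Group.IsPerfect M := hM.2.1
  -- the claim
  obtain ⟨hA, hB⟩ : (∀ s ∈ M, s * t = t * s → s ∈ zpowers u ∨ t * s ∈ zpowers u) ∧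
      ((∀ m ∈ M, m * u = u * m) ∨ ∀ s ∈ M, s * t = t * s → ∀ m ∈ M, m * s = s * m) := by
    by_cases hP : ∀ p ∈ P, cj p M = M
    · have h2 := h.comm_of_normalise hM hS (hSch hP)
      exact ⟨fun s hs hst => h.mem_of_comm hst fun p hp => (h2 p hp s hs).symm,
        Or.inl fun m hm => (h2 u (h.RP h.uR) m hm).symm⟩
    · obtain ⟨h2, h3⟩ := h.of_not_normalise hM hS hP
      exact ⟨fun s hs hst => h.mem_of_comm hst (h2 s hs hst), Or.inr h3⟩
  have hu1 : u ≠ 1 := fun e => h.z1 (by rw [← h.uu, e, one_mul])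
  have huz1 : u * z ≠ 1 := by
    intro e
    have h2 : u = z := by
      calc u = u * z * z := by rw [mul_assoc, h.zz, mul_one]
        _ = z := by rw [e, one_mul]
    apply h.z1
    calc z = u * u := h.uu.symm
      _ = z * z := by rw [h2]
      _ = 1 := h.zz
  by_cases hy : ∃ y ∈ M, y ∈ zpowers u ∧ y ≠ 1 ∧ y ≠ z
  · exfalso
    obtain ⟨y, hyM, hyu, hy1, hyz⟩ := hy
    have hyt : y * t = t * y := by
      obtain ⟨k, rfl⟩ := mem_zpowers_iff.1 hyu
      exact (show Commute u t from h.ut).zpow_left k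
    have hyy : y * y = z ∧ u ∈ zpowers y := by
      rcases h.mem_u.1 hyu with e | e | e | e
      · exact absurd e hy1
      · exact absurd e hyz
      · rw [e]; exact ⟨h.uu, mem_zpowers u⟩
      · have h2 : u * z * (u * z) = z := by
          calc u * z * (u * z) = u * (z * u) * z := by group
            _ = (u * u) * (z * z) := by rw [← h.uz]; group
            _ = z := by rw [h.uu, h.zz, mul_one]
        refine ⟨by rw [e]; exact h2, ?_⟩
        rw [e, ← h.uinv]
        exact zpowers_inv (g := u) ▸ mem_zpowers u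
    have hzp : ∀ x, x ∈ zpowers u → x ∈ zpowers y := fun x hx => (zpowers_le.2 hyy.2) hx
    have hzp' : ∀ x, x ∈ zpowers y → x ∈ zpowers u := fun x hx => (zpowers_le.2 hyu) hx
    refine RankOne.false_of_center hyy.1 h.zz h.z1 h.tt hyt (fun e => h.tu (hzp' t e)) hMp hM.1 hyM ?_ hMt ?_
    · rcases hB with hB | hB
      · intro m hm
        obtain ⟨k, rfl⟩ := mem_zpowers_iff.1 hyu
        exact (show Commute m u from hB m hm).zpow_right k
      · exact hB y hyM hyt
    · intro m hm hmt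
      exact (hA m hm hmt).imp (hzp m) (hzp (t * m))
  · push Not at hy
    have hyM : ∀ y ∈ M, y ∈ zpowers u → y = 1 ∨ y = z := by
      intro y h2 h3
      by_contra hcon
      push Not at hcon
      exact hcon.2 (hy y h2 h3 hcon.1)
    by_cases hall : ∀ x ∈ M, x * t = t * x → x = 1 ∨ x = z ∨ x = t ∨ x = t * z
    · exact CaseM.unique_involution h.zz h.z1 h.tt h.t1 h.tz h.zc hM hev hMt hall
    push Not at hall
    obtain ⟨x, hxM, hxt, hx1, hxz, hxt', hxtz⟩ := hall
    have htx : t * x = u ∨ t * x = u * z := by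
      rcases hA x hxM hxt with h2 | h2
      · exfalso
        rcases hyM x hxM h2 with h3 | h3
        · exact hx1 h3
        · exact hxz h3
      · rcases h.mem_u.1 h2 with h3 | h3 | h3 | h3
        · exfalso
          apply hxt'
          calc x = t * (t * x) := by rw [← mul_assoc, h.tt, one_mul]
            _ = t := by rw [h3, mul_one]
        · exfalso
          apply hxtz
          calc x = t * (t * x) := by rw [← mul_assoc, h.tt, one_mul]
            _ = t * z := by rw [h3]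
        · exact Or.inl h3
        · exact Or.inr h3
    have huzz : u * z * (u * z) = z := by
      calc u * z * (u * z) = u * (z * u) * z := by group
        _ = (u * u) * (z * z) := by rw [← h.uz]; group
        _ = z := by rw [h.uu, h.zz, mul_one]
    have hxx : x * x = z := by
      have e1 : t * x * (t * x) = x * x := by
        calc t * x * (t * x) = t * (x * t) * x := by group
          _ = (t * t) * x * x := by rw [hxt]; group
          _ = x * x := by rw [h.tt, one_mul]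
      rw [← e1]
      rcases htx with e | e <;> rw [e]
      · exact h.uu
      · exact huzz
    have htx1 : t * x ≠ 1 := by
      rcases htx with e | e <;> rw [e]
      · exact hu1
      · exact huz1
    have htzx : t ∉ zpowers x := by
      intro hm
      rcases (h.mem_four hxx).1 hm with e | e | e | e
      · exact h.t1 e
      · exact h.tz e
      · apply htx1; rw [← e]; exact h.tt
      · apply htx1
        calc t * x = x * z * x := by rw [e]; 
          _ = x * (x * z) := by rw [mul_assoc, h.zc x]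
          _ = z * z := by rw [← mul_assoc, hxx]
          _ = 1 := h.zz
    -- `zpowers x` and `t * zpowers u`
    have hux : ∀ w, w ∈ zpowers u → w ∈ zpowers x ∨ t * w ∈ zpowers x := by
      intro w hw
      have hxz' : t * u = x ∨ t * u = x * z := by
        rcases htx with e | e
        · left; rw [← e, ← mul_assoc, h.tt, one_mul]
        · right
          have e2 : u = t * x * z := by rw [e, mul_assoc, h.zz, mul_one]
          calc t * u = t * (t * x * z) := by rw [← e2]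
            _ = (t * t) * x * z := by group
            _ = x * z := by rw [h.tt, one_mul]
      have htu : t * u ∈ zpowers x := by
        rcases hxz' with e | e <;> rw [e]
        · exact mem_zpowers x
        · exact (h.mem_four hxx).2 (Or.inr (Or.inr (Or.inr rfl)))
      have hzx : z ∈ zpowers x := (h.mem_four hxx).2 (Or.inr (Or.inl rfl))
      rcases h.mem_u.1 hw with e | e | e | e
      · left; rw [e]; exact one_mem _
      · left; rw [e]; exact hzx
      · right; rw [e]; exact htu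
      · right; rw [e, ← mul_assoc]; exact mul_mem htu hzx
    have hC : ∀ m ∈ M, m * t = t * m → m ∈ zpowers x ∨ t * m ∈ zpowers x := by
      intro m hm hmt
      rcases hA m hm hmt with e | e
      · exact hux m e
      · rcases hux _ e with e' | e'
        · exact Or.inr e'
        · left
          rwa [← mul_assoc, h.tt, one_mul] at e'
    rcases hB with hB | hB
    swap
    · exfalso
      exact RankOne.false_of_center hxx h.zz h.z1 h.tt hxt htzx hMp hM.1 hxM (hB x hxM hxt) hMt hC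
    have hzM : z ∈ M := by rw [← hxx]; exact M.mul_mem hxM hxM
    refine ⟨hzM, ?_⟩
    have htM : t ∉ M := by
      intro htM
      have h2 : t * x ∈ M := M.mul_mem htM hxM
      have h3 : t * x ∈ zpowers u := by
        rcases htx with e | e <;> rw [e]
        · exact mem_zpowers u
        · exact mul_mem (mem_zpowers u) h.zu
      rcases hyM _ h2 h3 with h4 | h4
      · exact htx1 h4
      · rcases htx with e | e
        · rw [e] at h4
          apply h.z1
          calc z = u * u := h.uu.symm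
            _ = z * z := by rw [h4]
            _ = 1 := h.zz
        · rw [e] at h4
          apply hu1
          exact mul_eq_right.1 h4
    have h4 := RankOne.unique_of_four hMp (z := ⟨z, hzM⟩) (x := ⟨x, hxM⟩) (Subtype.ext hxx) (Subtype.ext h.zz)
      (fun e => h.z1 (congrArg Subtype.val e)) (fun y => Subtype.ext (h.zc y)) (by
        rintro ⟨m, hm⟩ hmx
        have hmx' : m * x = x * m := congrArg Subtype.val hmx
        have hmt : m * t = t * m := by
          have h5 : t = (t * x) * x⁻¹ := by group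
          have h6 : Commute m (t * x) := by
            rcases htx with e | e <;> rw [e]
            · exact hB m hm
            · exact (show Commute m u from hB m hm).mul_right (h.zc m)
          have h7 : Commute m ((t * x) * x⁻¹) := h6.mul_right (show Commute m x from hmx').inv_right
          rw [← h5] at h7
          exact h7
        have h8 : m ∈ zpowers x := by
          rcases hC m hm hmt with e | e
          · exact e
          · exfalso
            apply htM
            have h9 : t * m ∈ M := by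
              rcases (h.mem_four hxx).1 e with e' | e' | e' | e' <;> rw [e']
              · exact M.one_mem
              · exact hzM
              · exact hxM
              · exact M.mul_mem hxM hzM
            have h10 := M.mul_mem h9 (M.inv_mem hm)
            rwa [mul_inv_cancel_right] at h10
        obtain ⟨k, hk⟩ := mem_zpowers_iff.1 h8
        exact mem_zpowers_iff.2 ⟨k, Subtype.ext hk⟩)
    intro v hv hvv
    rcases h4 ⟨v, hv⟩ (Subtype.ext hvv) with e | e
    · exact Or.inl (congrArg Subtype.val e)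
    · exact Or.inr (congrArg Subtype.val e)

end Hyp

end Cfsg.Agent.OddHalf.D8.HS.CompM
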