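import Cfsg.Agent.OddHalf.D8.HS.CompM
import Cfsg.Agent.SignalizersComponents.PConstrained
import Cfsg.Agent.S1265

/-!
# Case (M) of D8 for K = HS: the centralizer of the component

`P ≤ M`, `M` the only component of `X = C_G(z)`, `Y = C_X(M)`.

`main2`: `t ∈ M` and `Y` is cyclic, or `Y = ⟨u⁻¹ t⟩`, or `t ∉ M Y`.
-/

set_option autoImplicit false
set_option linter.unusedSectionVars false
set_option linter.style.haveILetI false

namespace Cfsg.Agent.OddHalf.D8.HS.CompM

open Subgroup Cfsg
open Cfsg.Agent.SignalizersComponents.Components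
open Cfsg.Agent.Cit (cj mem_cj conj_mem_cj conj_mem_cj_iff)

/-- the sign of `X` on a normal subgroup `W` on which the involution `t` fixes exactly two elements -/
theorem exists_sign {X : Type*} [Group X] [Finite X] {W : Subgroup X} (hWn : W.Normal) {z t : X} (ht : t * t = 1)
    (hz : z ∈ W) (hz1 : z ≠ 1) (hzt : z * t = t * z) (h4 : 4 ∣ Nat.card W)
    (hfix : ∀ w ∈ W, w * t = t * w → w = 1 ∨ w = z) : ∃ lam : X →* ℤˣ, lam t = -1 := by
  classical
  have : Fintype W := Fintype.ofFinite W
  let f : X →* Equiv.Perm W := (MulAut.toPerm W).comp MulAut.conjNormal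
  have hf : ∀ (x : X) (w : W), ((f x w : W) : X) = x * w * x⁻¹ := fun x w => rfl
  refine ⟨Equiv.Perm.sign.comp f, ?_⟩
  show Equiv.Perm.sign (f t) = -1
  have h2 : (f t) ^ 2 = 1 := by rw [← map_pow, pow_two, ht, map_one]
  rw [Equiv.Perm.sign_of_pow_two_eq_one h2]
  have hcard : Fintype.card (Function.fixedPoints (f t)) = 2 := by
    have h3 : Function.fixedPoints (f t) = ({1, ⟨z, hz⟩} : Set W) := by
      ext w
      rw [Function.mem_fixedPoints, Function.IsFixedPt, Set.mem_insert_iff, Set.mem_singleton_iff]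
      have h5 : f t w = w ↔ (w : X) * t = t * w := by
        rw [Subtype.ext_iff, hf, mul_inv_eq_iff_eq_mul]
        exact eq_comm
      rw [h5]
      constructor
      · intro h6
        rcases hfix w w.2 h6 with h7 | h7
        · exact Or.inl (Subtype.ext h7)
        · exact Or.inr (Subtype.ext h7)
      · rintro (rfl | rfl)
        · rw [Subgroup.coe_one, one_mul, mul_one]
        · exact hzt
    rw [← Nat.card_eq_fintype_card, h3, Nat.card_coe_set_eq, Set.ncard_pair]
    intro h
    exact hz1 (congrArg Subtype.val h).symm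
  rw [hcard, ← Nat.card_eq_fintype_card]
  obtain ⟨k, hk⟩ := h4
  have hpos : 0 < Nat.card W := Nat.card_pos
  rw [hk]
  have h5 : (4 * k - 2) / 2 = 2 * (k - 1) + 1 := by omega
  rw [h5]
  exact Odd.neg_one_pow ⟨k - 1, rfl⟩

namespace Hyp

variable {X : Type*} [Group X] {z t u : X} {R P : Subgroup X}

/-- the standing hypotheses of case (M), `P ≤ M` -/
structure Top (z t u : X) (P M : Subgroup X) : Prop where
  hM : IsComponent M
  PM : P ≤ M
  uniq : ∀ L : Subgroup X, IsComponent L → L = M
  core : pPrimeCore 2 X = ⊥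
  TR : ∀ lam : X →* ℤˣ, lam t = 1
  /-- a normal 2-subgroup of `C(M)` containing `u⁻¹ t` centralises `t` -/
  vt : ∀ V : Subgroup X, V.Normal → V ≤ centralizer (M : Set X) → IsPGroup 2 V → u⁻¹ * t ∈ V →
    (∀ y ∈ V, y * t = t * y → y ∈ zpowers (u⁻¹ * t)) → ∀ y ∈ V, y * t = t * y

theorem Top.normal {M : Subgroup X} (T : Top z t u P M) : M.Normal := by
  refine ⟨fun m hm g => ?_⟩
  have h1 := T.uniq _ (Cfsg.Agent.Cit.Comp.isComponent_cj T.hM g)
  have h2 := conj_mem_cj (g := g) hm
  rwa [h1] at h2

/-- the centralizer of `M` is normal -/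
theorem Top.cen_normal {M : Subgroup X} (T : Top z t u P M) : (centralizer (M : Set X)).Normal := by
  have := T.normal
  refine ⟨fun y hy g => ?_⟩
  rw [mem_centralizer_iff] at hy ⊢
  intro m hm
  have h1 : g⁻¹ * m * g ∈ M := by
    have := T.normal.conj_mem m hm g⁻¹
    rwa [inv_inv] at this
  have h2 := hy _ h1
  calc m * (g * y * g⁻¹) = g * (g⁻¹ * m * g * y) * g⁻¹ := by group
    _ = g * (y * (g⁻¹ * m * g)) * g⁻¹ := by rw [h2]
    _ = g * y * g⁻¹ * m := by group

/-- `V = O₂(X) ≤ C(M)` and `C(M) ∩ C(V) ≤ V` -/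
theorem Top.core_spec [Finite X] {M : Subgroup X} (T : Top z t u P M) :
    pCore 2 X ≤ centralizer (M : Set X) ∧
      ∀ y ∈ centralizer (M : Set X), (∀ v ∈ pCore 2 X, y * v = v * y) → y ∈ pCore 2 X := by
  have : Fact (Nat.Prime 2) := ⟨Nat.prime_two⟩
  have hfit : fittingSubgroup X = pCore 2 X :=
    Cfsg.Agent.SignalizersComponents.PConstrained.fittingSubgroup_eq_pCore_of_pPrimeCore_eq_bot 2 T.core
  have hlay : layer X = M := by
    apply le_antisymm
    · rw [layer_le_iff]
      intro L hL
      exact (T.uniq L hL).le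
    · exact component_le_layer T.hM
  have h1 : M ≤ centralizer (pCore 2 X : Set X) := by
    have := layer_le_centralizer_fitting (G := X)
    rwa [hlay, hfit] at this
  have hVM : pCore 2 X ≤ centralizer (M : Set X) := by
    intro v hv
    rw [mem_centralizer_iff]
    intro m hm
    exact (mem_centralizer_iff.1 (h1 hm) v hv).symm
  refine ⟨hVM, fun y hy hyV => ?_⟩
  have hMn := T.normal
  have hF : generalizedFittingSubgroup X = M ⊔ pCore 2 X := by
    rw [generalizedFittingSubgroup, hlay, hfit]
  have hyF : y ∈ generalizedFittingSubgroup X := by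
    apply Cfsg.Agent.S1265.result
    rw [mem_centralizer_iff]
    intro g hg
    rw [hF] at hg
    obtain ⟨m, hm, v, hv, rfl⟩ := Cfsg.Agent.Cit.Comp.mem_sup_comm
      (fun a ha b hb => mem_centralizer_iff.1 (hVM hb) a ha) hg
    have c1 : Commute m y := mem_centralizer_iff.1 hy m hm
    have c2 : Commute v y := (hyV v hv).symm
    exact (c1.mul_left c2).eq
  rw [hF] at hyF
  obtain ⟨m, hm, v, hv, hmv⟩ := Cfsg.Agent.Cit.Comp.mem_sup_comm
    (fun a ha b hb => mem_centralizer_iff.1 (hVM hb) a ha) hyF
  -- `m ∈ Z(M)`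
  have hmc : ∀ x ∈ M, x * m = m * x := by
    intro x hx
    have e : m = y * v⁻¹ := by rw [← hmv]; group
    have c1 : Commute x y := mem_centralizer_iff.1 hy x hx
    have c2 : Commute x v := mem_centralizer_iff.1 (hVM hv) x hx
    have c3 : Commute x (y * v⁻¹) := c1.mul_right c2.inv_right
    rw [← e] at c3
    exact c3
  -- `Z(M)` is a normal abelian subgroup
  let Z : Subgroup X := M ⊓ centralizer (M : Set X)
  have hZn : Z.Normal := by
    have := T.cen_normal
    exact inferInstance
  have hZc : ∀ a ∈ Z, ∀ b ∈ Z, a * b = b * a := fun a ha b hb => mem_centralizer_iff.1 hb.2 a ha.1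
  have hZnil : Group.IsNilpotent Z := by
    letI : CommGroup Z :=
      { (inferInstance : Group Z) with mul_comm := fun a b => Subtype.ext (hZc a a.2 b b.2) }
    exact (inferInstance : Group.IsNilpotent Z)
  have hZF : Z ≤ pCore 2 X := by
    rw [← hfit]
    exact le_sSup ⟨hZn, hZnil⟩
  have hmZ : m ∈ Z := ⟨hm, mem_centralizer_iff.2 hmc⟩
  rw [← hmv]
  exact mul_mem (hZF hmZ) hv

section

variable {M : Subgroup X}

theorem R_comm (h : Hyp z t u R P) (T : Top z t u P M) {y : X} (hy : y ∈ centralizer (M : Set X)) :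
    ∀ r ∈ R, y * r = r * y := fun r hr => (mem_centralizer_iff.1 hy r (T.PM (h.RP hr))).symm

theorem zM (h : Hyp z t u R P) (T : Top z t u P M) : z ∈ M := T.PM (h.RP h.zR)

theorem uM (h : Hyp z t u R P) (T : Top z t u P M) : u ∈ M := T.PM (h.RP h.uR)

theorem zY (h : Hyp z t u R P) : z ∈ centralizer (M : Set X) := mem_centralizer_iff.2 fun x _ => h.zc x

theorem t_notMem (h : Hyp z t u R P) [Finite X] (T : Top z t u P M) : t ∉ centralizer (M : Set X) := fun ht =>
  h.not_quasisimple T.hM.2 (h.RP.trans T.PM) fun x hx => mem_centralizer_iff.1 ht x hx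

theorem tz_notMem (h : Hyp z t u R P) [Finite X] (T : Top z t u P M) : t * z ∉ centralizer (M : Set X) := by
  intro ht
  apply h.t_notMem T
  have h1 := mul_mem ht (h.zY (M := M))
  rwa [mul_assoc, h.zz, mul_one] at h1

theorem mem_Y (h : Hyp z t u R P) (T : Top z t u P M) {y : X} (hy : y ∈ centralizer (M : Set X))
    (hyt : y * t = t * y) : y ∈ zpowers u ∨ t * y ∈ zpowers u := h.cR y hyt (h.R_comm T hy)

/-- `t ∈ M`: `C(M)` is cyclic -/
theorem cyclic_of_t_mem (h : Hyp z t u R P) [Finite X] (T : Top z t u P M) (htM : t ∈ M) :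
    ∃ y : X, centralizer (M : Set X) = zpowers y := by
  have hY : ∀ y ∈ centralizer (M : Set X), y ∈ zpowers u ∨ t * y ∈ zpowers u := fun y hy =>
    h.mem_Y T hy (mem_centralizer_iff.1 hy t htM).symm
  by_cases hall : ∀ y ∈ centralizer (M : Set X), y = 1 ∨ y = z
  · refine ⟨z, le_antisymm ?_ ((zpowers_le).2 h.zY)⟩
    intro y hy
    rcases hall y hy with e | e <;> rw [e]
    · exact one_mem _
    · exact mem_zpowers z
  push Not at hall
  obtain ⟨y, hy, hy1, hyz⟩ := hall
  refine ⟨y, le_antisymm ?_ ((zpowers_le).2 hy)⟩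
  have ht := h.t_notMem T
  have htz := h.tz_notMem T
  have huzz : u * z * (u * z) = z := by
    calc u * z * (u * z) = u * (z * u) * z := by group
      _ = (u * u) * (z * z) := by rw [← h.uz]; group
      _ = z := by rw [h.uu, h.zz, mul_one]
  have hyy : y * y = z := by
    rcases hY y hy with e | e
    · rcases h.mem_u.1 e with e | e | e | e
      · exact absurd e hy1
      · exact absurd e hyz
      · rw [e, h.uu]
      · rw [e, huzz]
    · have hyt : y * t = t * y := (mem_centralizer_iff.1 hy t htM).symm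
      have e1 : t * y * (t * y) = y * y := by
        calc t * y * (t * y) = t * (y * t) * y := by group
          _ = (t * t) * y * y := by rw [hyt]; group
          _ = y * y := by rw [h.tt, one_mul]
      rw [← e1]
      have e2 : y = t * (t * y) := by rw [← mul_assoc, h.tt, one_mul]
      rcases h.mem_u.1 e with e | e | e | e
      · exfalso; apply ht; rw [e, mul_one] at e2; rwa [e2] at hy
      · exfalso; apply htz; rw [e] at e2; rwa [e2] at hy
      · rw [e, h.uu]
      · rw [e, huzz]
  -- `t ≡ u⁻¹ y'`...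
  intro w hw
  by_contra hwy
  -- `w`, `y` generate `⟨t, u⟩`
  have hzy : z ∈ zpowers y := (h.mem_four hyy).2 (Or.inr (Or.inl rfl))
  have huz : ∀ a, a ∈ zpowers u → a ∈ zpowers y ∨ (y ∈ zpowers u → a * y = 1 ∨ a * y = z) := by
    intro a ha
    by_cases hyu : y ∈ zpowers u
    · left
      rcases h.mem_u.1 ha with e | e | e | e
      · rw [e]; exact one_mem _
      · rw [e]; exact hzy
      · rw [e]
        rcases h.mem_u.1 hyu with e' | e' | e' | e'
        · exact absurd e' hy1
        · exact absurd e' hyz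
        · rw [e']; exact mem_zpowers u
        · rw [e', ← h.uinv]
          exact zpowers_inv (g := u) ▸ mem_zpowers u
      · rw [e]
        rcases h.mem_u.1 hyu with e' | e' | e' | e'
        · exact absurd e' hy1
        · exact absurd e' hyz
        · rw [e']; exact (h.mem_u).2 (Or.inr (Or.inr (Or.inr rfl)))
        · rw [e']; exact mem_zpowers _
    · exact Or.inr fun e => absurd e hyu
  have h4 : ∀ a b : X, a ∈ zpowers u → b ∈ zpowers u → a ≠ 1 → a ≠ z → b ≠ 1 → b ≠ z → a * b = 1 ∨ a * b = z := by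
    intro a b ha hb ha1 haz hb1 hbz
    have e1 : u * (u * z) = 1 := by rw [← mul_assoc, h.uu, h.zz]
    have e2 : u * z * u = 1 := by rw [mul_assoc, ← h.uz, e1]
    rcases h.mem_u.1 ha with e | e | e | e
    · exact absurd e ha1
    · exact absurd e haz
    · rcases h.mem_u.1 hb with f | f | f | f
      · exact absurd f hb1
      · exact absurd f hbz
      · right; rw [e, f, h.uu]
      · left; rw [e, f, e1]
    · rcases h.mem_u.1 hb with f | f | f | f
      · exact absurd f hb1
      · exact absurd f hbz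
      · left; rw [e, f, e2]
      · right; rw [e, f, huzz]
  have hw1 : w ≠ 1 := fun e => hwy (e ▸ one_mem _)
  have hwz : w ≠ z := fun e => hwy (e ▸ hzy)
  have hwt : w * t = t * w := (mem_centralizer_iff.1 hw t htM).symm
  have hyt : y * t = t * y := (mem_centralizer_iff.1 hy t htM).symm
  -- `t w`, `t y` are different from `1`, `z`
  have hk1 : ∀ x ∈ centralizer (M : Set X), t * x ≠ 1 ∧ t * x ≠ z := by
    intro x hx
    constructor
    · intro e
      apply ht
      have e2 : x = t := by
        calc x = t * (t * x) := by rw [← mul_assoc, h.tt, one_mul]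
          _ = t := by rw [e, mul_one]
      rwa [e2] at hx
    · intro e
      apply htz
      have e2 : x = t * z := by
        calc x = t * (t * x) := by rw [← mul_assoc, h.tt, one_mul]
          _ = t * z := by rw [e]
      rwa [e2] at hx
  have hyw : y * w ∈ centralizer (M : Set X) := mul_mem hy hw
  rcases hY y hy with ey | ey
  · rcases hY w hw with ew | ew
    · rcases huz w ew with e | e
      · exact hwy e
      · rcases e ey with e' | e'
        · apply hwy
          rw [mul_eq_one_iff_eq_inv] at e'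
          rw [e']; exact inv_mem (mem_zpowers y)
        · apply hwy
          have : w = z * y⁻¹ := by rw [← e']; group
          rw [this]; exact mul_mem hzy (inv_mem (mem_zpowers y))
    · -- `y (t w) ∈ {1, z}`
      rcases h4 y (t * w) ey ew hy1 hyz (hk1 w hw).1 (hk1 w hw).2 with e | e
      · apply (hk1 _ hyw).1
        rw [← e, ← mul_assoc, ← mul_assoc, hyt]
      · apply (hk1 _ hyw).2
        rw [← e, ← mul_assoc, ← mul_assoc, hyt]
  · rcases hY w hw with ew | ew
    · rcases h4 (t * y) w ey ew (hk1 y hy).1 (hk1 y hy).2 hw1 hwz with e | e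
      · apply (hk1 _ hyw).1
        rw [← e, mul_assoc]
      · apply (hk1 _ hyw).2
        rw [← e, mul_assoc]
    · -- `(t y) (t w) = y w ∈ {1, z}`
      have e0 : t * y * (t * w) = y * w := by
        calc t * y * (t * w) = t * (y * t) * w := by group
          _ = (t * t) * y * w := by rw [hyt]; group
          _ = y * w := by rw [h.tt, one_mul]
      rcases h4 (t * y) (t * w) ey ew (hk1 y hy).1 (hk1 y hy).2 (hk1 w hw).1 (hk1 w hw).2 with e | e
      · rw [e0] at e
        apply hwy
        rw [mul_eq_one_iff_inv_eq] at e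
        rw [← e]; exact inv_mem (mem_zpowers y)
      · rw [e0] at e
        apply hwy
        have : w = y⁻¹ * z := by rw [← e]; group
        rw [this]; exact mul_mem (inv_mem (mem_zpowers y)) hzy

/-- `t ∈ M C(M) - M`: `u⁻¹ t` centralises `M` -/
theorem c_mem (h : Hyp z t u R P) [Finite X] (T : Top z t u P M) (htM : t ∉ M)
    (ht : t ∈ M ⊔ centralizer (M : Set X)) : u⁻¹ * t ∈ centralizer (M : Set X) := by
  have hMY : ∀ x ∈ M, ∀ y ∈ centralizer (M : Set X), x * y = y * x :=
    fun x hx y hy => mem_centralizer_iff.1 hy x hx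
  obtain ⟨m, hm, c, hc, hmc⟩ := Cfsg.Agent.Cit.Comp.mem_sup_comm hMY ht
  have hm' : m = t * c⁻¹ := by rw [← hmc, mul_inv_cancel_right]
  have hmt : m * t = t * m := by
    have mc : Commute m c := hMY m hm c hc
    rw [← hmc, mul_assoc, mc.eq]
  have hmR : ∀ r ∈ R, m * r = r * m := by
    intro r hr
    have h2 : Commute r c := hMY r (T.PM (h.RP hr)) c hc
    have h3 : Commute r t := h.Pt r (h.RP hr)
    have h4 : Commute r m := by rw [hm']; exact h3.mul_right h2.inv_right
    exact h4.symm.eq
  have huM := h.uM T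
  have hzM := h.zM T
  have hcm : c = m⁻¹ * t := by rw [← hmc]; group
  rcases h.cR m hmt hmR with e | e
  · rcases h.mem_u.1 e with e | e | e | e
    · exfalso; apply h.t_notMem T
      have : t = c := by rw [← hmc, e, one_mul]
      rw [this]; exact hc
    · exfalso; apply h.t_notMem T
      have : t = z * c := by rw [← hmc, e]
      rw [this]; exact mul_mem h.zY hc
    · rw [e] at hcm
      rw [← hcm]; exact hc
    · have : u⁻¹ * t = z * c := by
        rw [hcm, e, mul_inv_rev]
        have e2 : z⁻¹ = z := inv_eq_of_mul_eq_one_right h.zz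
        rw [e2, ← mul_assoc, ← mul_assoc, h.zz, one_mul]
      rw [this]
      exact mul_mem h.zY hc
  · exfalso
    apply htM
    have h5 : t * m ∈ M := by
      rcases h.mem_u.1 e with e | e | e | e <;> rw [e]
      · exact M.one_mem
      · exact hzM
      · exact huM
      · exact M.mul_mem huM hzM
    have h6 := M.mul_mem h5 (M.inv_mem hm)
    rwa [mul_inv_cancel_right] at h6

theorem c_sq (h : Hyp z t u R P) : u⁻¹ * t * (u⁻¹ * t) = z := by
  have c1 : Commute u⁻¹ t := (show Commute u t from h.ut).inv_left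
  calc u⁻¹ * t * (u⁻¹ * t) = u⁻¹ * (t * u⁻¹) * t := by group
    _ = (u⁻¹ * u⁻¹) * (t * t) := by rw [← c1.eq]; group
    _ = (u * u)⁻¹ * (t * t) := by rw [mul_inv_rev]
    _ = z := by rw [h.tt, h.uu, mul_one, inv_eq_of_mul_eq_one_right h.zz]

/-- `C_Y(t) = ⟨u⁻¹ t⟩` -/
theorem mem_c (h : Hyp z t u R P) [Finite X] (T : Top z t u P M) (hc : u⁻¹ * t ∈ centralizer (M : Set X)) {y : X}
    (hy : y ∈ centralizer (M : Set X)) (hyt : y * t = t * y) : y ∈ zpowers (u⁻¹ * t) := by
  have huY : u ∉ centralizer (M : Set X) := by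
    intro hu
    apply h.t_notMem T
    have := mul_mem hu hc
    rwa [mul_inv_cancel_left] at this
  have hct : t * u = (u⁻¹ * t) * z := by
    have e1 : u⁻¹ = u * z := h.uinv
    have e2 : t * u = u * t := h.ut.symm
    rw [e1, e2]
    calc u * t = u * t * (z * z) := by rw [h.zz, mul_one]
      _ = u * (t * z) * z := by group
      _ = u * (z * t) * z := by rw [h.zc t]
      _ = u * z * t * z := by group
  rw [h.mem_four h.c_sq]
  rcases h.mem_Y T hy hyt with e | e
  · rcases h.mem_u.1 e with e | e | e | e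
    · exact Or.inl e
    · exact Or.inr (Or.inl e)
    · rw [e] at hy; exact absurd hy huY
    · exfalso
      apply huY
      have := mul_mem hy (h.zY (M := M))
      rw [e] at this
      rwa [mul_assoc, h.zz, mul_one] at this
  · have e2 : y = t * (t * y) := by rw [← mul_assoc, h.tt, one_mul]
    rcases h.mem_u.1 e with e | e | e | e
    · exfalso; apply h.t_notMem T; rw [e, mul_one] at e2; rwa [e2] at hy
    · exfalso; apply h.tz_notMem T; rw [e] at e2; rwa [e2] at hy
    · right; right; right
      rw [e2, e, hct]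
    · right; right; left
      rw [e2, e, ← mul_assoc, hct, mul_assoc, h.zz, mul_one]

theorem neg_false (T : Top z t u P M) {lam : X →* ℤˣ} (hl : lam t = -1) : False := by
  rw [T.TR lam] at hl
  exact (by decide : (1 : ℤˣ) ≠ -1) hl

/-- the analysis of `V = O₂(X)` -/
theorem V_cases (h : Hyp z t u R P) [Finite X] (T : Top z t u P M) (hc : u⁻¹ * t ∈ centralizer (M : Set X)) :
    centralizer (M : Set X) = zpowers (u⁻¹ * t) := by
  classical
  have : Fact (Nat.Prime 2) := ⟨Nat.prime_two⟩
  set c : X := u⁻¹ * t with hcdef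
  have hcc : c * c = z := h.c_sq
  have hc1 : c ≠ 1 := fun e => h.z1 (by rw [← hcc, e, one_mul])
  have hcz : c ≠ z := by
    intro e
    apply h.z1
    calc z = c * c := hcc.symm
      _ = z * z := by rw [e]
      _ = 1 := h.zz
  have hcinv : c⁻¹ = c * z := by
    rw [inv_eq_iff_mul_eq_one, ← mul_assoc, hcc, h.zz]
  have htuc : t = u * c := by rw [hcdef]; group
  obtain ⟨hVY, hYV⟩ := T.core_spec
  set V : Subgroup X := pCore 2 X with hV
  have hVn : V.Normal := Cfsg.Agent.Lib.Cores.pCore_normal 2
  have hV2 : IsPGroup 2 V := Cfsg.Agent.Lib.Cores.pCore_isPGroup 2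
  have hzV : z ∈ V := hYV z h.zY fun v _ => (h.zc v).symm
  have huM := h.uM T
  -- commuting with `t` and `c`
  have hYu : ∀ y ∈ centralizer (M : Set X), Commute y u := fun y hy =>
    (show Commute u y from mem_centralizer_iff.1 hy u huM).symm
  have hYc : ∀ y ∈ centralizer (M : Set X), y * c = c * y → y ∈ zpowers c := by
    intro y hy hyc
    apply h.mem_c T hc hy
    rw [htuc]
    exact ((hYu y hy).mul_right (show Commute y c from hyc)).eq
  have hmem : ∀ x, x ∈ zpowers c ↔ x = 1 ∨ x = z ∨ x = c ∨ x = c * z := fun x => h.mem_four hcc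
  have hcard4 : Nat.card (zpowers c) = 4 := by
    have h1 : orderOf c = 2 ^ (1 + 1) := orderOf_eq_prime_pow (by
      rw [pow_one, pow_two, hcc]; exact h.z1) (by
      rw [show 2 ^ (1 + 1) = 2 + 2 by norm_num, pow_add, pow_two, hcc, h.zz])
    rw [Nat.card_zpowers, h1]; norm_num
  -- conjugates of `c`
  have hconj1 : ∀ g : X, g * c * g⁻¹ ≠ 1 := by
    intro g e
    rw [mul_inv_eq_one] at e
    exact hc1 (mul_eq_left.1 e)
  have hconjz : ∀ g : X, g * c * g⁻¹ ≠ z := by
    intro g e
    rw [mul_inv_eq_iff_eq_mul, ← h.zc g] at e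
    exact hcz (mul_left_cancel e)
  have hconj : ∀ g : X, g * c * g⁻¹ ∈ zpowers c → g * c * g⁻¹ = c ∨ g * c * g⁻¹ = c * z := by
    intro g hg
    rcases (hmem _).1 hg with e | e | e | e
    · exact absurd e (hconj1 g)
    · exact absurd e (hconjz g)
    · exact Or.inl e
    · exact Or.inr e
  obtain ⟨n, hn⟩ := IsPGroup.iff_card.1 hV2
  by_cases hcV : c ∈ V
  swap
  · -- `c ∉ V`
    exfalso
    have hfix : ∀ w ∈ V, w * t = t * w → w = 1 ∨ w = z := by
      intro w hw hwt
      rcases (hmem w).1 (h.mem_c T hc (hVY hw) hwt) with e | e | e | e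
      · exact Or.inl e
      · exact Or.inr e
      · exact absurd (e ▸ hw) hcV
      · exfalso
        apply hcV
        have h1 := V.mul_mem hw hzV
        rw [e] at h1
        rwa [mul_assoc, h.zz, mul_one] at h1
    have hcardne : ¬ Nat.card V ≤ 2 := by
      intro hle
      apply hcV
      apply hYV c hc
      intro v hv
      -- `V = {1, z}`
      have h2 : v = 1 ∨ v = z := by
        by_contra hcon
        push Not at hcon
        have h3 : ({1, z, v} : Finset X).card ≤ Nat.card V := by
          rw [show Nat.card V = (V : Set X).ncard from (Nat.card_coe_set_eq _), ← Set.ncard_coe_finset]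
          apply Set.ncard_le_ncard _ (Set.toFinite _)
          intro y hy
          simp only [Finset.coe_insert, Finset.coe_singleton, Set.mem_insert_iff, Set.mem_singleton_iff] at hy
          rcases hy with rfl | rfl | rfl
          · exact V.one_mem
          · exact hzV
          · exact hv
        rw [Finset.card_insert_of_notMem, Finset.card_insert_of_notMem, Finset.card_singleton] at h3
        · omega
        · rw [Finset.mem_singleton]; exact fun e => hcon.2 e.symm
        · simp only [Finset.mem_insert, Finset.mem_singleton, not_or]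
          exact ⟨h.z1.symm, fun e => hcon.1 e.symm⟩
      rcases h2 with e | e
      · rw [e, one_mul, mul_one]
      · rw [e]; exact h.zc c
    have h4 : 4 ∣ Nat.card V := by
      rw [hn] at hcardne ⊢
      have hn2 : 2 ≤ n := by
        by_contra hlt
        apply hcardne
        have : n ≤ 1 := by omega
        calc 2 ^ n ≤ 2 ^ 1 := Nat.pow_le_pow_right (by norm_num) this
          _ = 2 := by norm_num
      exact (by norm_num : (4 : ℕ) = 2 ^ 2) ▸ pow_dvd_pow 2 hn2
    obtain ⟨lam, hl⟩ := exists_sign hVn h.tt hzV h.z1 (h.zc t).symm h4 hfix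
    exact neg_false T hl
  have hcVle : zpowers c ≤ V := (zpowers_le).2 hcV
  have hVle : V ≤ zpowers c := fun y hy => h.mem_c T hc (hVY hy)
    (T.vt V hVn hVY hV2 hcV (fun y hy hyt => h.mem_c T hc (hVY hy) hyt) y hy)
  have hVeq : V = zpowers c := le_antisymm hVle hcVle
  apply le_antisymm _ ((zpowers_le).2 hc)
  rw [← hVeq]
  apply Cfsg.Agent.Lib.Cores.le_pCore T.cen_normal
  rintro ⟨y, hy⟩
  have h1 : ∀ y ∈ centralizer (M : Set X), y * c * y⁻¹ = c ∨ y * c * y⁻¹ = c * z := by
    intro y hy
    apply hconj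
    rw [← hVeq]
    exact hVn.conj_mem c hcV y
  have h2 : (y * y) * c = c * (y * y) := by
    have e : y * y * c * (y * y)⁻¹ = c := by
      rcases h1 y hy with e | e
      · calc y * y * c * (y * y)⁻¹ = y * (y * c * y⁻¹) * y⁻¹ := by group
          _ = c := by rw [e, e]
      · calc y * y * c * (y * y)⁻¹ = y * (y * c * y⁻¹) * y⁻¹ := by group
          _ = y * c * (z * y⁻¹) := by rw [e]; group
          _ = y * c * (y⁻¹ * z) := by rw [← h.zc y⁻¹]
          _ = y * c * y⁻¹ * z := by group
          _ = c := by rw [e, mul_assoc, h.zz, mul_one]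
    rw [mul_inv_eq_iff_eq_mul] at e
    exact e
  have h3 : y * y ∈ V := by
    rw [hVeq]
    exact hYc _ (mul_mem hy hy) h2
  obtain ⟨k, hk⟩ := hV2 ⟨y * y, h3⟩
  refine ⟨k + 1, Subtype.ext ?_⟩
  have h4 : (y * y) ^ 2 ^ k = 1 := congrArg Subtype.val hk
  show y ^ 2 ^ (k + 1) = 1
  rw [pow_succ', pow_mul, pow_two]
  exact h4

/-- **the end of case (M)** for `K = HS`, `P ≤ M` -/
theorem main2 (h : Hyp z t u R P) [Finite X] (T : Top z t u P M) :
    (∃ y : X, centralizer (M : Set X) = zpowers y) ∨ t ∉ M ⊔ centralizer (M : Set X) := by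
  by_cases htM : t ∈ M
  · exact Or.inl (h.cyclic_of_t_mem T htM)
  by_cases ht : t ∈ M ⊔ centralizer (M : Set X)
  swap
  · exact Or.inr ht
  exact Or.inl ⟨_, h.V_cases T (h.c_mem T htM ht)⟩

end

end Hyp

end Cfsg.Agent.OddHalf.D8.HS.CompM
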