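import Cfsg.Agent.OddHalf.D8.TypeE

/-!
# ODD half, D8, `K = HS`, case (M): the subcase `C_G(M)` dihedral of order eight (helper702, text of helper896)

`H = C_G(z)`, `M` normal in `H`, `Y = C_G(M)`, `c = u⁻¹ t ∈ Y`, `C_Y(t) ⊆ ⟨c⟩`, `s ∈ Y` an involution with
`s t s⁻¹ = t z`, `H` normalises `⟨c⟩`. `Hyp.false`: contradiction. With `w = k⁻¹ z k` one has `w s w⁻¹ = s c^i`:
* `i` even: `y`-trick;
* `i` odd: `w u^{±1}` is conjugate to `t`, and some conjugate lies in `P ≤ M`; then `s` would commute with `t`.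
-/

set_option autoImplicit false

namespace Cfsg.Agent.OddHalf.D8.HS.DEight

open Subgroup

variable {G : Type*} [Group G]

/-- the hypotheses -/
structure Hyp (t z u s k : G) (K M P : Subgroup G) : Prop where
  tt : t * t = 1
  zz : z * z = 1
  z1 : z ≠ 1
  uu : u * u = z
  /-- `K` is normal in `C_G(t)` -/
  Kt : ∀ x ∈ K, x * t = t * x
  nK : ∀ g, g * t = t * g → ∀ x ∈ K, g * x * g⁻¹ ∈ K
  zK : z ∈ K
  kK : k ∈ K
  /-- `M` is normal in `C_G(z)` -/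
  nM : ∀ g, g * z = z * g → ∀ x ∈ M, g * x * g⁻¹ ∈ M
  zM : z ∈ M
  PM : P ≤ M
  PK : P ≤ K
  uP : u ∈ P
  memP : ∀ x ∈ K, x * u = u * x → x ∈ P
  uPc : ∀ p ∈ P, p * u = u * p
  /-- `c = u⁻¹ t` -/
  cY : ∀ m ∈ M, u⁻¹ * t * m = m * (u⁻¹ * t)
  Yt : ∀ y : G, (∀ m ∈ M, y * m = m * y) → y * t = t * y →
    y = 1 ∨ y = z ∨ y = u⁻¹ * t ∨ y = (u⁻¹ * t)⁻¹
  sY : ∀ m ∈ M, s * m = m * s
  ss : s * s = 1
  st : s * t * s⁻¹ = t * z
  hc : ∀ h, h * z = z * h → h * (u⁻¹ * t) * h⁻¹ = u⁻¹ * t ∨ h * (u⁻¹ * t) * h⁻¹ = (u⁻¹ * t)⁻¹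
  wz : k⁻¹ * z * k * z = z * (k⁻¹ * z * k)
  wu : k⁻¹ * z * k * u * (k⁻¹ * z * k)⁻¹ = u⁻¹
  wz' : k * z * k⁻¹ * z = z * (k * z * k⁻¹)
  wu' : k * z * k⁻¹ * u * (k * z * k⁻¹)⁻¹ = u⁻¹
  n : ∃ n ∈ P, n * (k⁻¹ * z * k) * n⁻¹ = k⁻¹ * z * k * z
  k0 : ∃ k₀ ∈ K, k₀ * (k⁻¹ * z * k * u) * k₀⁻¹ ∈ P
  inv : ∀ x ∈ K, x * x = 1 → x ≠ 1 →
    (∃ c ∈ K, x = c * z * c⁻¹) ∨ ∃ c ∈ K, x = c * (k⁻¹ * z * k * u) * c⁻¹
  ne : ∀ g : G, g * t * g⁻¹ ≠ z

namespace Hyp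

variable {t z u s k : G} {K M P : Subgroup G}

theorem ut (h : Hyp t z u s k K M P) : u * t = t * u := h.Kt u (h.PK h.uP)

theorem uM (h : Hyp t z u s k K M P) : u ∈ M := h.PM h.uP

theorem zt (h : Hyp t z u s k K M P) : z * t = t * z := h.Kt z h.zK

theorem uz (h : Hyp t z u s k K M P) : u * z = z * u := by rw [← h.uu]; group

theorem uinv (h : Hyp t z u s k K M P) : u⁻¹ = u * z := by
  rw [inv_eq_iff_mul_eq_one, ← mul_assoc, h.uu, h.zz]

theorem sinv (h : Hyp t z u s k K M P) : s⁻¹ = s := inv_eq_of_mul_eq_one_left h.ss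

theorem su (h : Hyp t z u s k K M P) : s * u = u * s := h.sY u h.uM

theorem sz (h : Hyp t z u s k K M P) : s * z = z * s := h.sY z h.zM

/-- `t = u c`, `c⁻¹ = u t` -/
theorem cinv (h : Hyp t z u s k K M P) : (u⁻¹ * t)⁻¹ = u * t := by
  rw [mul_inv_rev, inv_inv, inv_eq_of_mul_eq_one_left h.tt, h.ut]

/-- an element of `K` inverting `u` inverts `c` -/
theorem conj_c (h : Hyp t z u s k K M P) {x : G} (hx : x ∈ K) (hxu : x * u * x⁻¹ = u⁻¹) :
    x * (u⁻¹ * t) * x⁻¹ = u * t := by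
  have h1 : x * u⁻¹ * x⁻¹ = u := by
    calc x * u⁻¹ * x⁻¹ = (x * u * x⁻¹)⁻¹ := by group
      _ = u := by rw [hxu, inv_inv]
  have h2 : x * t * x⁻¹ = t := by rw [h.Kt x hx]; group
  calc x * (u⁻¹ * t) * x⁻¹ = (x * u⁻¹ * x⁻¹) * (x * t * x⁻¹) := by group
    _ = u * t := by rw [h1, h2]

/-- **(EVEN)** -/
theorem even (h : Hyp t z u s k K M P)
    (hn : ∃ n ∈ P, s * (k⁻¹ * z * k) * s⁻¹ = n * (k⁻¹ * z * k) * n⁻¹) : False := by
  obtain ⟨n, hnP, hn⟩ := hn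
  have hnt := h.Kt n (h.PK hnP)
  have hnz : n * z = z * n := by
    have c1 : Commute n u := h.uPc n hnP
    rw [← h.uu]
    exact (c1.mul_right c1).eq
  obtain ⟨g, hgz, hgt⟩ := TypeE.y_trick (t := t) (z := z) (x := s) (k := k) (n := n) h.st (h.Kt k h.kK)
    hnt hnz hn
  set z₁ : G := k * z * k⁻¹ with hz1
  have hz1K : z₁ ∈ K := K.mul_mem (K.mul_mem h.kK h.zK) (K.inv_mem h.kK)
  -- `z₁ ∈ M`
  have hconj := h.conj_c hz1K h.wu'
  have htuc : t = u * (u⁻¹ * t) := by group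
  have hz1c : z₁ * (u⁻¹ * t) = u * t * z₁ := by
    rw [mul_inv_eq_iff_eq_mul] at hconj
    exact hconj
  have hz1c' : z₁ * (u * t) = u⁻¹ * t * z₁ := by
    -- invert
    have e1 : z₁ * (u * t) * z₁⁻¹ = u⁻¹ * t := by
      have e2 := congrArg (fun y => y⁻¹) hconj
      simp only [mul_inv_rev, inv_inv] at e2
      have e3 : (u⁻¹ * t)⁻¹ = u * t := h.cinv
      have e4 : (u * t)⁻¹ = u⁻¹ * t := by rw [← e3, inv_inv]
      calc z₁ * (u * t) * z₁⁻¹ = z₁ * (u⁻¹ * t)⁻¹ * z₁⁻¹ := by rw [e3]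
        _ = (z₁ * (u⁻¹ * t) * z₁⁻¹)⁻¹ := by group
        _ = (u * t)⁻¹ := by rw [hconj]
        _ = u⁻¹ * t := e4
    rw [mul_inv_eq_iff_eq_mul] at e1
    exact e1
  have hguM : g * u * g⁻¹ ∈ M := h.nM g hgz u h.uM
  have hz1M : z₁ ∈ M := by
    have e0 : (g * u * g⁻¹) * (g * (u⁻¹ * t) * g⁻¹) = t * z₁ := by
      rw [← hgt]; group
    rcases h.hc g hgz with e | e
    · -- `g u g⁻¹ = t z₁ c⁻¹ = t c z₁ = u z z₁`
      have e1 : g * u * g⁻¹ = t * z₁ * (u * t) := by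
        rw [e] at e0
        calc g * u * g⁻¹ = (g * u * g⁻¹) * (u⁻¹ * t) * (u⁻¹ * t)⁻¹ := by group
          _ = t * z₁ * (u * t) := by rw [e0, h.cinv]
      have e2 : g * u * g⁻¹ = u⁻¹ * z₁ := by
        rw [e1]
        calc t * z₁ * (u * t) = t * (z₁ * (u * t)) := by group
          _ = t * (u⁻¹ * t * z₁) := by rw [hz1c']
          _ = t * u⁻¹ * t * z₁ := by group
          _ = u⁻¹ * t * t * z₁ := by
              rw [show t * u⁻¹ = u⁻¹ * t from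
                ((Commute.inv_left (show Commute u t from h.ut)).eq).symm]
          _ = u⁻¹ * (t * t) * z₁ := by group
          _ = u⁻¹ * z₁ := by rw [h.tt, mul_one]
      rw [e2] at hguM
      have := M.mul_mem h.uM hguM
      rwa [← mul_assoc, mul_inv_cancel, one_mul] at this
    · have e1 : g * u * g⁻¹ = t * z₁ * (u⁻¹ * t) := by
        rw [e] at e0
        calc g * u * g⁻¹ = (g * u * g⁻¹) * (u⁻¹ * t)⁻¹ * (u⁻¹ * t) := by group
          _ = t * z₁ * (u⁻¹ * t) := by rw [e0]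
      have e2 : g * u * g⁻¹ = u * z₁ := by
        rw [e1]
        calc t * z₁ * (u⁻¹ * t) = t * (z₁ * (u⁻¹ * t)) := by group
          _ = t * (u * t * z₁) := by rw [hz1c]
          _ = t * u * t * z₁ := by group
          _ = u * t * t * z₁ := by rw [← h.ut]
          _ = u * (t * t) * z₁ := by group
          _ = u * z₁ := by rw [h.tt, mul_one]
      rw [e2] at hguM
      have := M.mul_mem (M.inv_mem h.uM) hguM
      rwa [← mul_assoc, inv_mul_cancel, one_mul] at this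
  -- `z₁` commutes with `c`
  have h1 := h.cY z₁ hz1M
  rw [hz1c] at h1
  have h2 : u⁻¹ * t = u * t := mul_right_cancel h1
  have h3 : u⁻¹ = u := mul_right_cancel h2
  have h4 : u * u = 1 := by
    nth_rewrite 1 [← h3]
    exact inv_mul_cancel u
  rw [h.uu] at h4
  exact h.z1 h4

/-- **(ODD)** -/
theorem odd (h : Hyp t z u s k K M P) {v : G} (hv : v = u ∨ v = u⁻¹)
    (hs : s⁻¹ * (k⁻¹ * z * k) * s = t * (k⁻¹ * z * k) * v) : False := by
  set w : G := k⁻¹ * z * k with hw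
  set z₁ : G := k * z * k⁻¹ with hz1
  have hwK : w ∈ K := K.mul_mem (K.mul_mem (K.inv_mem h.kK) h.zK) h.kK
  have hz1K : z₁ ∈ K := K.mul_mem (K.mul_mem h.kK h.zK) (K.inv_mem h.kK)
  have hvP : v ∈ P := by
    rcases hv with rfl | rfl
    · exact h.uP
    · exact P.inv_mem h.uP
  have hvs : s * v = v * s := h.sY v (h.PM hvP)
  have hvt : v * t = t * v := h.Kt v (h.PK hvP)
  have hkt : k * t = t * k := h.Kt k h.kK
  have hwt : w * t = t * w := h.Kt w hwK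
  have hs1 := h.sinv
  -- `w v⁻¹ = g t g⁻¹`, `g = s k⁻¹ s`
  have hst' : s⁻¹ * t * s = t * z := by
    have := h.st
    rw [hs1] at this ⊢
    exact this
  have hgt : (s * k⁻¹ * s) * t * (s * k⁻¹ * s)⁻¹ = w * v⁻¹ := by
    have e1 : s⁻¹ * (w * v⁻¹) * s = t * w := by
      calc s⁻¹ * (w * v⁻¹) * s = (s⁻¹ * w * s) * (s⁻¹ * v⁻¹ * s) := by group
        _ = (s⁻¹ * w * s) * v⁻¹ := by
            congr 1
            have c1 : Commute s v := hvs
            have c2 : Commute s v⁻¹ := c1.inv_right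
            calc s⁻¹ * v⁻¹ * s = s⁻¹ * (v⁻¹ * s) := by group
              _ = s⁻¹ * (s * v⁻¹) := by rw [c2.eq]
              _ = v⁻¹ := by group
        _ = t * w * v * v⁻¹ := by rw [hs]
        _ = t * w := by group
    have e2 : t * w = k⁻¹ * (s * t * s⁻¹) * k := by
      rw [h.st, hw]
      calc t * (k⁻¹ * z * k) = (t * k⁻¹) * z * k := by group
        _ = (k⁻¹ * t) * z * k := by
            rw [((Commute.inv_left (show Commute k t from hkt)).eq).symm]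
        _ = k⁻¹ * (t * z) * k := by group
    calc (s * k⁻¹ * s) * t * (s * k⁻¹ * s)⁻¹ = s * (k⁻¹ * (s * t * s⁻¹) * k) * s⁻¹ := by group
      _ = s * (s⁻¹ * (w * v⁻¹) * s) * s⁻¹ := by rw [← e2, e1]
      _ = w * v⁻¹ := by group
  -- `z₁ = p w`
  have hp : z₁ * w⁻¹ ∈ P := by
    apply h.memP _ (K.mul_mem hz1K (K.inv_mem hwK))
    have hwu' : w⁻¹ * u * w = u⁻¹ := by
      have e1 : w * w = 1 := by
        rw [hw]
        calc k⁻¹ * z * k * (k⁻¹ * z * k) = k⁻¹ * (z * z) * k := by group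
          _ = 1 := by rw [h.zz]; group
      have e2 : w⁻¹ = w := inv_eq_of_mul_eq_one_left e1
      have e3 := h.wu
      rw [← hw, e2] at e3
      rw [e2]; exact e3
    have h1 : z₁ * w⁻¹ * u * (z₁ * w⁻¹)⁻¹ = u := by
      calc z₁ * w⁻¹ * u * (z₁ * w⁻¹)⁻¹ = z₁ * (w⁻¹ * u * w) * z₁⁻¹ := by group
        _ = z₁ * u⁻¹ * z₁⁻¹ := by rw [hwu']
        _ = (z₁ * u * z₁⁻¹)⁻¹ := by group
        _ = u := by rw [h.wu', inv_inv]
    rw [mul_inv_eq_iff_eq_mul] at h1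
    exact h1
  -- `g⁻¹ t g ∈ K`
  have hgK : (s * k⁻¹ * s)⁻¹ * t * (s * k⁻¹ * s) ∈ K := by
    have e1 : s⁻¹ * z₁ * s = t * z₁ * v := by
      have hsp : s⁻¹ * (z₁ * w⁻¹) * s = z₁ * w⁻¹ := by
        have := h.sY _ (h.PM hp)
        calc s⁻¹ * (z₁ * w⁻¹) * s = s⁻¹ * ((z₁ * w⁻¹) * s) := by group
          _ = s⁻¹ * (s * (z₁ * w⁻¹)) := by rw [this]
          _ = z₁ * w⁻¹ := by group
      have hpt : z₁ * w⁻¹ * t = t * (z₁ * w⁻¹) := h.Kt _ (h.PK hp)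
      calc s⁻¹ * z₁ * s = (s⁻¹ * (z₁ * w⁻¹) * s) * (s⁻¹ * w * s) := by group
        _ = z₁ * w⁻¹ * (t * w * v) := by rw [hsp, hs]
        _ = z₁ * w⁻¹ * t * (w * v) := by group
        _ = t * (z₁ * w⁻¹) * (w * v) := by rw [hpt]
        _ = t * z₁ * v := by group
    have e2 : (s * k⁻¹ * s)⁻¹ * t * (s * k⁻¹ * s) = z * z₁ * v := by
      calc (s * k⁻¹ * s)⁻¹ * t * (s * k⁻¹ * s) = s⁻¹ * (k * (s⁻¹ * t * s) * k⁻¹) * s := by group
        _ = s⁻¹ * (k * (t * z) * k⁻¹) * s := by rw [hst']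
        _ = s⁻¹ * (t * z₁) * s := by
            rw [hz1]
            congr 2
            calc k * (t * z) * k⁻¹ = (k * t) * z * k⁻¹ := by group
              _ = t * (k * z * k⁻¹) := by rw [hkt]; group
        _ = (s⁻¹ * t * s) * (s⁻¹ * z₁ * s) := by group
        _ = t * z * (t * z₁ * v) := by rw [hst', e1]
        _ = t * (z * t) * (z₁ * v) := by group
        _ = (t * t) * z * (z₁ * v) := by rw [h.zt]; group
        _ = z * z₁ * v := by rw [h.tt]; group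
    rw [e2]
    exact K.mul_mem (K.mul_mem h.zK hz1K) (h.PK hvP)
  -- `k₁ (w v⁻¹) k₁⁻¹ ∈ P`
  obtain ⟨n, hnP, hn⟩ := h.n
  have hnu := h.uPc n hnP
  have hnK := h.PK hnP
  have hnwu : n * (w * u) * n⁻¹ = w * u⁻¹ := by
    calc n * (w * u) * n⁻¹ = n * w * (u * n⁻¹) := by group
      _ = n * w * (n⁻¹ * u) := by
          rw [((Commute.inv_left (show Commute n u from hnu)).eq).symm]
      _ = (n * w * n⁻¹) * u := by group
      _ = w * z * u := by rw [hn]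
      _ = w * u⁻¹ := by rw [h.uinv, h.uz]; group
  obtain ⟨k₀, hk₀, hk₀P⟩ := h.k0
  -- `w u` and `w v⁻¹` are `K`-conjugate
  obtain ⟨m, hmK, hm⟩ : ∃ m ∈ K, m * (w * v⁻¹) * m⁻¹ = w * u := by
    rcases hv with e | e
    · refine ⟨n⁻¹, K.inv_mem hnK, ?_⟩
      rw [e, ← hnwu]; group
    · refine ⟨1, K.one_mem, ?_⟩
      rw [e]; group
  set k₁ : G := k₀ * m with hk1
  have hk1K : k₁ ∈ K := K.mul_mem hk₀ hmK
  have hk1t : k₁ * t = t * k₁ := h.Kt _ hk1K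
  set a : G := k₁ * (s * k⁻¹ * s) with ha
  set v₀ : G := k₁ * (w * v⁻¹) * k₁⁻¹ with hv0
  have hv0P : v₀ ∈ P := by
    have : v₀ = k₀ * (w * u) * k₀⁻¹ := by
      rw [hv0, hk1, ← hm]; group
    rw [this]
    exact hk₀P
  have hat : a * t * a⁻¹ = v₀ := by
    rw [ha, hv0, ← hgt]; group
  have haK : a⁻¹ * t * a ∈ K := by
    have e1 : a⁻¹ * t * a = (s * k⁻¹ * s)⁻¹ * t * (s * k⁻¹ * s) := by
      calc a⁻¹ * t * a = (s * k⁻¹ * s)⁻¹ * (k₁⁻¹ * (t * k₁)) * (s * k⁻¹ * s) := by rw [ha]; group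
        _ = (s * k⁻¹ * s)⁻¹ * (k₁⁻¹ * (k₁ * t)) * (s * k⁻¹ * s) := by rw [hk1t]
        _ = _ := by group
    rw [e1]; exact hgK
  -- `a⁻¹ z a ∈ K`
  have hsv0 : s * v₀ = v₀ * s := h.sY _ (h.PM hv0P)
  have haz : a⁻¹ * z * a ∈ K := by
    have e1 : (a⁻¹ * s * a) * t = t * (a⁻¹ * s * a) := by
      calc (a⁻¹ * s * a) * t = a⁻¹ * (s * (a * t * a⁻¹)) * a := by group
        _ = a⁻¹ * (v₀ * s) * a := by rw [hat, hsv0]
        _ = a⁻¹ * (a * t * a⁻¹ * s) * a := by rw [hat]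
        _ = t * (a⁻¹ * s * a) := by group
    have e2 := h.nK _ e1 _ haK
    have e3 : (a⁻¹ * t * a)⁻¹ * ((a⁻¹ * s * a) * (a⁻¹ * t * a) * (a⁻¹ * s * a)⁻¹) = a⁻¹ * z * a := by
      calc (a⁻¹ * t * a)⁻¹ * ((a⁻¹ * s * a) * (a⁻¹ * t * a) * (a⁻¹ * s * a)⁻¹)
          = a⁻¹ * (t⁻¹ * (s * t * s⁻¹)) * a := by group
        _ = a⁻¹ * z * a := by rw [h.st]; group
    rw [← e3]
    exact K.mul_mem (K.inv_mem haK) e2
  have haz2 : a⁻¹ * z * a * (a⁻¹ * z * a) = 1 := by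
    calc a⁻¹ * z * a * (a⁻¹ * z * a) = a⁻¹ * (z * z) * a := by group
      _ = 1 := by rw [h.zz]; group
  have haz1 : a⁻¹ * z * a ≠ 1 := by
    intro e
    apply h.z1
    calc z = a * (a⁻¹ * z * a) * a⁻¹ := by group
      _ = 1 := by rw [e]; group
  rcases h.inv _ haz haz2 haz1 with ⟨k₂, hk₂, e⟩ | ⟨k₂, hk₂, e⟩
  · -- `a' = a k₂ ∈ C(z)`
    set b : G := a * k₂ with hb
    have hk2t : k₂ * t = t * k₂ := h.Kt _ hk₂
    have hbz : b * z = z * b := by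
      have e1 : b * z * b⁻¹ = z := by
        calc b * z * b⁻¹ = a * (k₂ * z * k₂⁻¹) * a⁻¹ := by rw [hb]; group
          _ = z := by rw [← e]; group
      rw [mul_inv_eq_iff_eq_mul] at e1
      exact e1
    have hbt : b * t * b⁻¹ = v₀ := by
      calc b * t * b⁻¹ = a * (k₂ * t) * k₂⁻¹ * a⁻¹ := by rw [hb]; group
        _ = a * (t * k₂) * k₂⁻¹ * a⁻¹ := by rw [hk2t]
        _ = a * t * a⁻¹ := by group
        _ = v₀ := hat
    -- `b s b⁻¹` commutes with `M`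
    have hbs : (b * s * b⁻¹) * v₀ = v₀ * (b * s * b⁻¹) := by
      have hbz' : b⁻¹ * z = z * b⁻¹ := (Commute.inv_left (show Commute b z from hbz)).eq
      have e1 : b⁻¹ * v₀ * b ∈ M := by
        have := h.nM b⁻¹ hbz' v₀ (h.PM hv0P)
        rwa [inv_inv] at this
      have e2 := h.sY _ e1
      calc (b * s * b⁻¹) * v₀ = b * (s * (b⁻¹ * v₀ * b)) * b⁻¹ := by group
        _ = b * (b⁻¹ * v₀ * b * s) * b⁻¹ := by rw [e2]
        _ = v₀ * (b * s * b⁻¹) := by group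
    have hst : s * t * s⁻¹ = t := by
      have e1 : (b * s * b⁻¹) * v₀ * (b * s * b⁻¹)⁻¹ = v₀ := by rw [hbs]; group
      rw [← hbt] at e1
      calc s * t * s⁻¹ = b⁻¹ * ((b * s * b⁻¹) * (b * t * b⁻¹) * (b * s * b⁻¹)⁻¹) * b := by group
        _ = b⁻¹ * (b * t * b⁻¹) * b := by rw [e1]
        _ = t := by group
    rw [h.st] at hst
    exact h.z1 (mul_eq_left.1 hst)
  · -- `z ~ w u ~ t`
    -- `a⁻¹ z a = k₂ (w u) k₂⁻¹ = k₂ m (w v⁻¹) m⁻¹ k₂⁻¹ = (k₂ m g) t (k₂ m g)⁻¹`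
    apply h.ne (a * (k₂ * m * (s * k⁻¹ * s)))
    calc a * (k₂ * m * (s * k⁻¹ * s)) * t * (a * (k₂ * m * (s * k⁻¹ * s)))⁻¹
        = a * (k₂ * (m * ((s * k⁻¹ * s) * t * (s * k⁻¹ * s)⁻¹) * m⁻¹) * k₂⁻¹) * a⁻¹ := by group
      _ = a * (k₂ * (w * u) * k₂⁻¹) * a⁻¹ := by rw [hgt, hm]
      _ = a * (a⁻¹ * z * a) * a⁻¹ := by rw [e]
      _ = z := by group

/-- **the contradiction** -/
theorem false (h : Hyp t z u s k K M P) : False := by
  set w : G := k⁻¹ * z * k with hw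
  have hwK : w ∈ K := K.mul_mem (K.mul_mem (K.inv_mem h.kK) h.zK) h.kK
  have hwt : w * t = t * w := h.Kt w hwK
  have hwz : w * z = z * w := h.wz
  have hwz' : w⁻¹ * z = z * w⁻¹ := (Commute.inv_left (show Commute w z from hwz)).eq
  -- `s⁻¹ w s w⁻¹ ∈ Y ∩ C(t)`
  set y : G := s⁻¹ * (w * s * w⁻¹) with hy
  have hyM : ∀ m ∈ M, y * m = m * y := by
    intro m hm
    have h1 : w⁻¹ * m * w ∈ M := by
      have := h.nM w⁻¹ hwz' m hm
      rwa [inv_inv] at this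
    have h2 : (w * s * w⁻¹) * m = m * (w * s * w⁻¹) := by
      calc (w * s * w⁻¹) * m = w * (s * (w⁻¹ * m * w)) * w⁻¹ := by group
        _ = w * (w⁻¹ * m * w * s) * w⁻¹ := by rw [h.sY _ h1]
        _ = m * (w * s * w⁻¹) := by group
    have c1 : Commute (w * s * w⁻¹) m := h2
    have c2 : Commute s m := h.sY m hm
    exact (c2.inv_left.mul_left c1).eq
  have hst' : s⁻¹ * (t * z) * s = t := by
    rw [← h.st]; group
  have hyt : y * t = t * y := by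
    have h1 : (w * s * w⁻¹) * t * (w * s * w⁻¹)⁻¹ = t * z := by
      have e1 : w⁻¹ * t * w = t := by
        rw [mul_assoc, ← hwt]; group
      have e2 : w * (t * z) * w⁻¹ = t * z := by
        have c1 : Commute w t := hwt
        have c2 : Commute w z := hwz
        rw [(c1.mul_right c2).eq]; group
      calc (w * s * w⁻¹) * t * (w * s * w⁻¹)⁻¹ = w * (s * (w⁻¹ * t * w) * s⁻¹) * w⁻¹ := by group
        _ = t * z := by rw [e1, h.st, e2]
    have h2 : y * t * y⁻¹ = t := by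
      calc y * t * y⁻¹ = s⁻¹ * ((w * s * w⁻¹) * t * (w * s * w⁻¹)⁻¹) * s := by rw [hy]; group
        _ = t := by rw [h1, hst']
    rw [mul_inv_eq_iff_eq_mul] at h2
    exact h2
  have hsy : w * s * w⁻¹ = s * y := by rw [hy]; group
  -- `s⁻¹ w s = y w`
  have hsws : s⁻¹ * w * s = y * w := by
    calc s⁻¹ * w * s = s⁻¹ * (w * s * w⁻¹) * w := by group
      _ = s⁻¹ * (s * y) * w := by rw [hsy]
      _ = y * w := by group
  have hs1 := h.sinv
  rcases h.Yt y hyM hyt with e | e | e | e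
  · -- `y = 1`
    refine h.even ⟨1, P.one_mem, ?_⟩
    rw [e, one_mul] at hsws
    rw [← hw]
    rw [hs1] at hsws ⊢
    rw [hsws]; group
  · -- `y = z`
    obtain ⟨n, hnP, hn⟩ := h.n
    refine h.even ⟨n, hnP, ?_⟩
    rw [hn, ← hw]
    rw [e] at hsws
    rw [hs1] at hsws ⊢
    rw [hsws, hwz]
  · -- `y = c`
    refine h.odd (v := u) (Or.inl rfl) ?_
    rw [← hw, hsws, e]
    have hwu : w * u = u⁻¹ * w := by
      have := h.wu
      rw [← hw, mul_inv_eq_iff_eq_mul] at this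
      exact this
    calc u⁻¹ * t * w = t * (u⁻¹ * w) := by
          rw [(Commute.inv_left (show Commute u t from h.ut)).eq]; group
      _ = t * w * u := by rw [← hwu]; group
  · -- `y = c⁻¹`
    refine h.odd (v := u⁻¹) (Or.inr rfl) ?_
    rw [← hw, hsws, e, h.cinv]
    have hwu : w * u⁻¹ = u * w := by
      have h1 := h.wu
      rw [← hw] at h1
      have h2 : w * u⁻¹ * w⁻¹ = u := by
        calc w * u⁻¹ * w⁻¹ = (w * u * w⁻¹)⁻¹ := by group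
          _ = u := by rw [h1, inv_inv]
      rw [mul_inv_eq_iff_eq_mul] at h2
      exact h2
    calc u * t * w = t * (u * w) := by rw [h.ut]; group
      _ = t * w * u⁻¹ := by rw [← hwu]; group

end Hyp

end Cfsg.Agent.OddHalf.D8.HS.DEight
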