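import Cfsg.Agent.OddHalf.D8.TypeE
import Cfsg.Agent.LargeExtra.Base
import Cfsg.Agent.Transfer.PGroupNormal
import Cfsg.Prelude.Def_ClassificationK

/-!
# ODD half, D8, `K = HS`, case `E(C_G(z)) = 1`: the abstract part (helper970)

`H = C_G(z)`, `F` a normal 2-subgroup of `H` with `C_H(F) ≤ F`, `t ∈ H` an involution, `N` a group of elements of
`H` mapping `t` to `t` or `t z`, `u² = z`. `Hyp`: every abelian `N`-invariant subgroup of `C_F(t)` is contained in
`⟨u⟩`. `Goal`: `H` has a homomorphism to `{±1}` with value `-1` at `t`.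

* `Hyp.cyclic`: if not `Goal`, every abelian subgroup of `F` normal in `H` is cyclic.
* `symplectic`: with `F = F*(H)`: `Goal`, or `F*(H)` is of symplectic type (Prelude).
* `Hyp.swap_false`: if `F` is extraspecial and `g ∈ H` maps `t` to `t x`, `x ∈ C(t)`, where `[C_F(t), x]` contains a
  four-group modulo `⟨z⟩` of involutions, contradiction. Proof: `[V, t]` (`V = F/⟨z⟩`) is perpendicular to `C_F(t)`;
  an element of `[V, t]` covered by `C_F(t)` is in the centre of `C_F(t)`, so in `{0, ū}`; of two elements of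
  `[V, t]` not covered by `C_F(t)` the sum is covered. `[V, t x]` is conjugate to `[V, t]`.
* `concl`: `Goal`, or `F*(H)` is of symplectic type and not extraspecial.
-/

set_option autoImplicit false
set_option linter.style.haveILetI false

namespace Cfsg.Agent.OddHalf.D8.HS.Loc

open Subgroup
open Cfsg.Agent.Co2Type.Quad

variable {G : Type*} [Group G]

/-- the hypotheses; see the header -/
structure Hyp (t z u : G) (N F : Subgroup G) : Prop extends Lam.Base t z F where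
  hN : ∀ n ∈ N, n * z = z * n ∧ (n * t * n⁻¹ = t ∨ n * t * n⁻¹ = t * z)
  uu : u * u = z
  /-- abelian subgroups of `C_F(t)` normalised by `N` are contained in `⟨u⟩` -/
  ab : ∀ B : Subgroup G, B ≤ F → (∀ b ∈ B, b * t = t * b) → (∀ a ∈ B, ∀ b ∈ B, a * b = b * a) →
    (∀ n ∈ N, ∀ b ∈ B, n * b * n⁻¹ ∈ B) → ∀ b ∈ B, b = 1 ∨ b = z ∨ b = u ∨ b = u * z

/-- the element `x` and `r, s ∈ C_F(t)` such that `[r, x]`, `[s, x]` generate a four-group of involutions modulo
`⟨z⟩` -/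
structure Sing (x r s z : G) : Prop where
  c2 : (x * r * x⁻¹ * r⁻¹) * (x * r * x⁻¹ * r⁻¹) = 1
  d2 : (x * s * x⁻¹ * s⁻¹) * (x * s * x⁻¹ * s⁻¹) = 1
  cd2 : (x * r * x⁻¹ * r⁻¹) * (x * s * x⁻¹ * s⁻¹) * ((x * r * x⁻¹ * r⁻¹) * (x * s * x⁻¹ * s⁻¹)) = 1
  c1 : x * r * x⁻¹ * r⁻¹ ≠ 1
  cz : x * r * x⁻¹ * r⁻¹ ≠ z
  d1 : x * s * x⁻¹ * s⁻¹ ≠ 1
  dz : x * s * x⁻¹ * s⁻¹ ≠ z
  cd1 : (x * r * x⁻¹ * r⁻¹) * (x * s * x⁻¹ * s⁻¹) ≠ 1
  cdz : (x * r * x⁻¹ * r⁻¹) * (x * s * x⁻¹ * s⁻¹) ≠ z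

namespace Hyp

variable {t z u : G} {N F : Subgroup G}

/-- `N` normalises `C_F(t)` -/
theorem fix_conj (h : Hyp t z u N F) {n b : G} (hn : n ∈ N) (hb : b ∈ F) (hbt : b * t = t * b) :
    n * b * n⁻¹ * t = t * (n * b * n⁻¹) := by
  obtain ⟨hnz, hnt⟩ := h.hN n hn
  have hc : Commute b t := hbt
  have hcz : Commute (n * b * n⁻¹) z := h.le _ (h.nor n hnz b hb)
  have h1 : n * b * n⁻¹ * (n * t * n⁻¹) = n * t * n⁻¹ * (n * b * n⁻¹) := by
    calc n * b * n⁻¹ * (n * t * n⁻¹) = n * (b * t) * n⁻¹ := by group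
      _ = n * (t * b) * n⁻¹ := by rw [hc.eq]
      _ = n * t * n⁻¹ * (n * b * n⁻¹) := by group
  rcases hnt with h2 | h2
  · rw [h2] at h1; exact h1
  · rw [h2] at h1
    have h3 : Commute (n * b * n⁻¹) (t * z) := h1
    have h4 : Commute (n * b * n⁻¹) (t * z * z) := h3.mul_right hcz
    have h5 : t * z * z = t := by rw [mul_assoc, h.zz, mul_one]
    rw [h5] at h4
    exact h4

/-- the `t`-fixed elements of an abelian normal subgroup -/
theorem fixed (h : Hyp t z u N F) {W : Subgroup G} (hW : W ≤ F) (hab : ∀ a ∈ W, ∀ b ∈ W, a * b = b * a)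
    (hn : ∀ g, g * z = z * g → ∀ w ∈ W, g * w * g⁻¹ ∈ W) {w : G} (hw : w ∈ W) (hwt : w * t = t * w) :
    w = 1 ∨ w = z ∨ w = u ∨ w = u * z := by
  refine h.ab (W ⊓ centralizer ({t} : Set G)) (fun x hx => hW hx.1)
    (fun b hb => mem_centralizer_singleton_iff.1 hb.2) (fun a ha b hb => hab a ha.1 b hb.1) ?_ w
    ⟨hw, mem_centralizer_singleton_iff.2 hwt⟩
  rintro n hnN b ⟨hb1, hb2⟩
  exact ⟨hn n (h.hN n hnN).1 b hb1, mem_centralizer_singleton_iff.2
    (h.fix_conj hnN (hW hb1) (mem_centralizer_singleton_iff.1 hb2))⟩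

theorem uz (h : Hyp t z u N F) : u * z = z * u := by
  rw [← h.uu]; group

/-- the elements of `⟨u⟩` of square one -/
theorem of_sq (h : Hyp t z u N F) {w : G} (hw : w = 1 ∨ w = z ∨ w = u ∨ w = u * z) (hww : w * w = 1) :
    w = 1 ∨ w = z := by
  rcases hw with h1 | h1 | h1 | h1
  · exact Or.inl h1
  · exact Or.inr h1
  · exfalso
    rw [h1, h.uu] at hww
    exact h.z1 hww
  · exfalso
    apply h.z1
    calc z = z * (z * z) := by rw [h.zz, mul_one]
      _ = (u * u) * (z * z) := by rw [h.uu]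
      _ = u * (u * z) * z := by group
      _ = u * (z * u) * z := by rw [h.uz]
      _ = w * w := by rw [h1]; group
      _ = 1 := hww

/-- involutions of an abelian normal subgroup -/
theorem elem2 (h : Hyp t z u N F) (hg : ¬ h.Goal) {W : Subgroup G} (hW : W ≤ F)
    (hab : ∀ a ∈ W, ∀ b ∈ W, a * b = b * a)
    (hn : ∀ g, g * z = z * g → ∀ w ∈ W, g * w * g⁻¹ ∈ W) {a : G} (ha : a ∈ W) (haa : a * a = 1) :
    a = 1 ∨ a = z := by
  set W1 : Subgroup G :=
    { carrier := {x | x ∈ W ∧ x * x = 1}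
      one_mem' := ⟨W.one_mem, one_mul 1⟩
      mul_mem' := by
        rintro x y ⟨hx, hx2⟩ ⟨hy, hy2⟩
        refine ⟨W.mul_mem hx hy, ?_⟩
        calc x * y * (x * y) = x * (y * x) * y := by group
          _ = x * x * (y * y) := by rw [hab y hy x hx]; group
          _ = 1 := by rw [hx2, hy2, one_mul]
      inv_mem' := by
        rintro x ⟨hx, hx2⟩
        refine ⟨W.inv_mem hx, ?_⟩
        rw [← mul_inv_rev, hx2, inv_one] } with hW1
  have h1 : ∀ x, x ∈ W1 ↔ x ∈ W ∧ x * x = 1 := fun x => Iff.rfl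
  refine ((h.elem (W := W1) (fun x hx => hW ((h1 x).1 hx).1)
    (fun x hx y hy => hab x ((h1 x).1 hx).1 y ((h1 y).1 hy).1) (fun x hx => ((h1 x).1 hx).2) ?_
    (fun w hw hwt => h.of_sq (h.fixed hW hab hn ((h1 w).1 hw).1 hwt) ((h1 w).1 hw).2)
    ((h1 a).2 ⟨ha, haa⟩)).resolve_right hg)
  intro g hgz x hx
  rw [h1] at hx ⊢
  refine ⟨hn g hgz x hx.1, ?_⟩
  calc g * x * g⁻¹ * (g * x * g⁻¹) = g * (x * x) * g⁻¹ := by group
    _ = 1 := by rw [hx.2]; group

/-- abelian normal subgroups are cyclic -/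
theorem cyclic [Finite G] (h : Hyp t z u N F) (hg : ¬ h.Goal) {W : Subgroup G} (hW : W ≤ F)
    (hab : ∀ a ∈ W, ∀ b ∈ W, a * b = b * a)
    (hn : ∀ g, g * z = z * g → ∀ w ∈ W, g * w * g⁻¹ ∈ W) : IsCyclic W := by
  classical
  letI : CommGroup W := { (inferInstance : Group W) with mul_comm := fun a b => Subtype.ext (hab a a.2 b b.2) }
  haveI : Fact (Nat.Prime 2) := ⟨Nat.prime_two⟩
  refine Cfsg.Agent.Transfer.PGroupNormal.isCyclic_of_card_ker_pow_le (p := 2) (h.pF.to_le hW) ?_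
  have hk : ∀ x : (powMonoidHom 2 : W →* W).ker, ((x : W) : G) = 1 ∨ ((x : W) : G) = z := by
    intro x
    have h1 : ((x : W)) ^ 2 = 1 := x.2
    refine h.elem2 hg hW hab hn (x : W).2 ?_
    rw [pow_two] at h1
    exact congrArg Subtype.val h1
  let f : (powMonoidHom 2 : W →* W).ker → Bool := fun x => decide (((x : W) : G) = 1)
  have hf : Function.Injective f := by
    intro x y hxy
    have h1 : (((x : W) : G) = 1) ↔ (((y : W) : G) = 1) := by
      have := hxy
      simpa [f] using this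
    apply Subtype.ext
    apply Subtype.ext
    rcases hk x with h2 | h2
    · rw [h2, h1.1 h2]
    · rcases hk y with h3 | h3
      · rw [h3, h1.2 h3]
      · rw [h2, h3]
  have h4 := Nat.card_le_card_of_injective f hf
  rwa [Nat.card_eq_fintype_card (α := Bool), Fintype.card_bool] at h4

/-- **If `F` is extraspecial, the swap is impossible.** -/
theorem swap_false [Finite G] (h : Hyp t z u N F) (L : Large F z) {g x r s : G} (hg : g * z = z * g)
    (hgt : g * t * g⁻¹ = t * x) (hxt : x * t = t * x) (hxz : x * z = z * x) (hr : r ∈ F) (hs : s ∈ F)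
    (hrt : r * t = t * r) (hst : s * t = t * s) (S : Sing x r s z) : False := by
  set τ : centralizer ({z} : Set G) := ⟨t, mem_centralizer_singleton_iff.2 h.comm⟩ with hτ
  set ξ : centralizer ({z} : Set G) := ⟨x, mem_centralizer_singleton_iff.2 hxz⟩ with hξ
  set γ : centralizer ({z} : Set G) := ⟨g, mem_centralizer_singleton_iff.2 hg⟩ with hγ
  have hff : ∀ v, L.act τ (L.act τ v) = v := by
    intro v
    have h1 : L.act (τ * τ) v = v := by
      have : τ * τ = 1 := Subtype.ext h.tt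
      rw [this, map_one]; rfl
    rw [map_mul] at h1
    exact h1
  -- fixed elements
  have hfix : ∀ y : F, (y : G) * t = t * y → L.act τ (L.pr y) = L.pr y := by
    intro y hy
    rw [L.act_pr, L.pr_eq_pr, L.conjQ_coe]
    left
    show t * y * t⁻¹ = y
    rw [← hy]; group
  have hcases : ∀ y : F, L.act τ (L.pr y) = L.pr y → (y : G) * t = t * y ∨ t * (y : G) = y * z * t := by
    intro y hy
    rw [L.act_pr, L.pr_eq_pr, L.conjQ_coe] at hy
    rcases hy with h1 | h1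
    · left
      have h1' : t * (y : G) * t⁻¹ = y := h1
      rw [mul_inv_eq_iff_eq_mul] at h1'
      exact h1'.symm
    · right
      have h1' : t * (y : G) * t⁻¹ = y * z := h1
      rw [mul_inv_eq_iff_eq_mul] at h1'
      exact h1'
  have hDfix : ∀ v, L.act τ (L.act τ v + v) = L.act τ v + v := by
    intro v; rw [map_add, hff, add_comm]
  have hDperp : ∀ v, ∀ y : F, (y : G) * t = t * y → L.b (L.act τ v + v) (L.pr y) = 0 := by
    intro v y hy
    rw [map_add, LinearMap.add_apply]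
    have h1 := L.b_act τ v (L.pr y)
    rw [hfix y hy] at h1
    rw [h1]
    have : ∀ a : ZMod 2, a + a = 0 := by decide
    exact this _
  -- the centre of `C_F(t)`
  set X : Subgroup G := F ⊓ centralizer ({t} : Set G) with hX
  have hmX : ∀ c, c ∈ X ↔ c ∈ F ∧ c * t = t * c := fun c => by
    rw [hX, mem_inf, mem_centralizer_singleton_iff]
  have hcenX : ∀ y ∈ F, y * t = t * y → (∀ w ∈ F, w * t = t * w → y * w = w * y) →
      y = 1 ∨ y = z ∨ y = u ∨ y = u * z := by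
    intro y hy hyt hyc
    refine h.ab (X ⊓ centralizer (X : Set G)) (fun y hy => ((hmX y).1 hy.1).1)
      (fun b hb => ((hmX b).1 hb.1).2) ?_ ?_ y ?_
    · intro a ha b hb
      exact mem_centralizer_iff.1 hb.2 a ha.1
    · intro n hn b hb
      have key : ∀ m ∈ N, ∀ c ∈ X, m * c * m⁻¹ ∈ X := by
        intro m hm c hc
        obtain ⟨hc1, hc2⟩ := (hmX c).1 hc
        exact (hmX _).2 ⟨h.nor m (h.hN m hm).1 c hc1, h.fix_conj hm hc1 hc2⟩
      refine ⟨key n hn b hb.1, mem_centralizer_iff.2 ?_⟩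
      intro c hc
      have h3 := key n⁻¹ (N.inv_mem hn) c hc
      rw [inv_inv] at h3
      have h4 := mem_centralizer_iff.1 hb.2 _ h3
      calc c * (n * b * n⁻¹) = n * ((n⁻¹ * c * n) * b) * n⁻¹ := by group
        _ = n * (b * (n⁻¹ * c * n)) * n⁻¹ := by rw [h4]
        _ = n * b * n⁻¹ * c := by group
    · refine ⟨(hmX y).2 ⟨hy, hyt⟩, mem_centralizer_iff.2 fun w hw => ?_⟩
      obtain ⟨hw1, hw2⟩ := (hmX w).1 hw
      exact (hyc w hw1 hw2).symm
  -- an element of `C_F(t)` covering an element of `[V, t]`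
  have hcov : ∀ y : F, (y : G) * t = t * y → (∃ v, L.pr y = L.act τ v + v) →
      (y : G) = 1 ∨ (y : G) = z ∨ (y : G) = u ∨ (y : G) = u * z := by
    rintro y hy ⟨v, hv⟩
    refine hcenX y y.2 hy fun w hw hwt => ?_
    refine (L.b_pr y ⟨w, hw⟩).1 ?_
    rw [hv]
    exact hDperp v ⟨w, hw⟩ hwt
  -- nonzero singular elements of `[V, t]` are not covered
  have hcov2 : ∀ y : F, (∃ v, L.pr y = L.act τ v + v) → L.q (L.pr y) = 0 → L.pr y ≠ 0 →
      t * (y : G) = y * z * t := by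
    rintro y ⟨v, hv⟩ hq h0
    have h1 : L.act τ (L.pr y) = L.pr y := by rw [hv]; exact hDfix v
    rcases hcases y h1 with h2 | h2
    · exfalso
      apply h0
      rw [L.pr_eq_zero]
      exact h.of_sq (hcov y h2 ⟨v, hv⟩) (L.q_eq_zero.1 hq)
    · exact h2
  have hsum : ∀ v w, L.q (L.act τ v + v) = 0 → L.act τ v + v ≠ 0 → L.q (L.act τ w + w) = 0 →
      L.act τ w + w ≠ 0 → L.q (L.act τ v + v + (L.act τ w + w)) = 0 →
      L.act τ v + v + (L.act τ w + w) ≠ 0 → False := by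
    intro v w hv1 hv2 hw1 hw2 hs1 hs2
    obtain ⟨a, ha⟩ := L.pr_surjective (L.act τ v + v)
    obtain ⟨c, hc⟩ := L.pr_surjective (L.act τ w + w)
    have h1 := hcov2 a ⟨v, ha⟩ (by rw [ha]; exact hv1) (by rw [ha]; exact hv2)
    have h2 := hcov2 c ⟨w, hc⟩ (by rw [hc]; exact hw1) (by rw [hc]; exact hw2)
    have hpr : L.pr (a * c) = L.act τ (v + w) + (v + w) := by
      rw [L.pr_mul, ha, hc, map_add]
      abel
    have hpr2 : L.pr (a * c) = L.act τ v + v + (L.act τ w + w) := by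
      rw [L.pr_mul, ha, hc]
    have h3 := hcov2 (a * c) ⟨v + w, hpr⟩ (by rw [hpr2]; exact hs1) (by rw [hpr2]; exact hs2)
    have hcz : (c : G) * z = z * c := L.comm_z c c.2
    have h4 : t * ((a : G) * c) = a * c * t := by
      calc t * ((a : G) * c) = t * a * c := by group
        _ = a * z * (t * c) := by rw [h1]; group
        _ = a * (z * c) * z * t := by rw [h2]; group
        _ = a * c * (z * z) * t := by rw [← hcz]; group
        _ = a * c * t := by rw [L.z_sq]; group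
    have h5 : t * ((a : G) * c) = a * c * z * t := h3
    rw [h4] at h5
    have h6 : (a : G) * c * 1 = a * c * z := by
      rw [mul_one]
      exact mul_right_cancel h5
    exact L.z_ne (mul_left_cancel h6).symm
  -- the action of `t x`
  have hginv : ∀ v, L.act γ⁻¹ (L.act γ v) = v := by
    intro v
    have h1 : L.act (γ⁻¹ * γ) v = v := by
      rw [inv_mul_cancel, map_one]; rfl
    rw [map_mul] at h1
    exact h1
  have hgt' : γ⁻¹ * (τ * ξ) = τ * γ⁻¹ := by
    apply Subtype.ext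
    show g⁻¹ * (t * x) = t * g⁻¹
    rw [← hgt]; group
  have htrans : ∀ v, L.act τ (L.act γ⁻¹ v) + L.act γ⁻¹ v = L.act γ⁻¹ (L.act (τ * ξ) v + v) := by
    intro v
    rw [map_add]
    congr 1
    have h1 : L.act (γ⁻¹ * (τ * ξ)) v = L.act (τ * γ⁻¹) v := by rw [hgt']
    rw [L.act.map_mul γ⁻¹ (τ * ξ), L.act.map_mul τ γ⁻¹] at h1
    exact h1.symm
  have hc : ∀ r : F, (r : G) * t = t * r → ∃ c : F, (c : G) = x * r * x⁻¹ * (r : G)⁻¹ ∧
      L.act (τ * ξ) (L.pr r) + L.pr r = L.pr c := by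
    intro r hrt
    have hm : x * r * x⁻¹ ∈ F := h.nor x hxz r r.2
    refine ⟨⟨x * r * x⁻¹, hm⟩ * r⁻¹, rfl, ?_⟩
    rw [L.pr_mul, L.pr_inv, L.neg_eq]
    congr 1
    rw [L.act_pr, L.pr_eq_pr, L.conjQ_coe]
    left
    show t * x * r * (t * x)⁻¹ = x * r * x⁻¹
    have c1 : Commute (r : G) t := hrt
    have c2 : Commute x t := hxt
    have c3 : Commute (x * r * x⁻¹) t := (c2.mul_left c1).mul_left c2.inv_left
    calc t * x * r * (t * x)⁻¹ = t * (x * r * x⁻¹) * t⁻¹ := by group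
      _ = x * r * x⁻¹ * t * t⁻¹ := by rw [c3.eq]
      _ = x * r * x⁻¹ := by group
  obtain ⟨c, hc1, hc2⟩ := hc ⟨r, hr⟩ hrt
  obtain ⟨d, hd1, hd2⟩ := hc ⟨s, hs⟩ hst
  have hc1' : (c : G) = x * r * x⁻¹ * r⁻¹ := hc1
  have hd1' : (d : G) = x * s * x⁻¹ * s⁻¹ := hd1
  have hcd : ((c * d : F) : G) = x * r * x⁻¹ * r⁻¹ * (x * s * x⁻¹ * s⁻¹) := by
    rw [Subgroup.coe_mul, hc1', hd1']
  have ec := htrans (L.pr ⟨r, hr⟩)
  rw [hc2] at ec
  have ed := htrans (L.pr ⟨s, hs⟩)
  rw [hd2] at ed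
  have hne : ∀ v, v ≠ 0 → L.act γ⁻¹ v ≠ 0 := by
    intro v hv h1
    apply hv
    exact (LinearEquiv.map_eq_zero_iff (L.act γ⁻¹)).1 h1
  have h0 : ∀ e : F, (e : G) ≠ 1 → (e : G) ≠ z → L.pr e ≠ 0 := by
    intro e h1 h2 h3
    rcases L.pr_eq_zero.1 h3 with h4 | h4
    · exact h1 h4
    · exact h2 h4
  refine hsum (L.act γ⁻¹ (L.pr ⟨r, hr⟩)) (L.act γ⁻¹ (L.pr ⟨s, hs⟩)) ?_ ?_ ?_ ?_ ?_ ?_
  · rw [ec, L.q_act, L.q_eq_zero, hc1']; exact S.c2
  · rw [ec]
    exact hne _ (h0 c (by rw [hc1']; exact S.c1) (by rw [hc1']; exact S.cz))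
  · rw [ed, L.q_act, L.q_eq_zero, hd1']; exact S.d2
  · rw [ed]
    exact hne _ (h0 d (by rw [hd1']; exact S.d1) (by rw [hd1']; exact S.dz))
  · rw [ec, ed, ← map_add, L.q_act, ← L.pr_mul, L.q_eq_zero, hcd]; exact S.cd2
  · rw [ec, ed, ← map_add, ← L.pr_mul]
    exact hne _ (h0 (c * d) (by rw [hcd]; exact S.cd1) (by rw [hcd]; exact S.cdz))

end Hyp

/-- `F*(C_G(z))` as a subgroup of `G` -/
abbrev FS (z : G) : Subgroup G :=
  (Cfsg.generalizedFittingSubgroup ↥(centralizer ({z} : Set G))).map (centralizer ({z} : Set G)).subtype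

/-- **`Goal` or symplectic type** -/
theorem symplectic [Finite G] {t z u : G} {N : Subgroup G} (h : Hyp t z u N (FS z)) (hg : ¬ h.Goal) :
    Cfsg.IsOfSymplecticType ↥(Cfsg.generalizedFittingSubgroup ↥(centralizer ({z} : Set G))) := by
  have hn := Cfsg.Agent.S1755.gfs_normal ↥(centralizer ({z} : Set G))
  revert h hg hn
  unfold FS
  generalize Cfsg.generalizedFittingSubgroup ↥(centralizer ({z} : Set G)) = Q
  intro h hg hn
  have e := Q.equivMapOfInjective _ (centralizer ({z} : Set G)).subtype_injective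
  refine ⟨h.pF.of_equiv e.symm, ?_⟩
  intro A hA hab
  have hA2 : (A.map Q.subtype).Normal := ConjAct.normal_of_characteristic_of_normal
  have h1 := h.cyclic hg (W := (A.map Q.subtype).map (centralizer ({z} : Set G)).subtype) ?_ ?_ ?_
  · have e1 := A.equivMapOfInjective _ Q.subtype_injective
    have e2 := (A.map Q.subtype).equivMapOfInjective _ (centralizer ({z} : Set G)).subtype_injective
    exact isCyclic_of_surjective _ (e1.trans e2).symm.surjective
  · apply map_mono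
    rintro _ ⟨y, -, rfl⟩
    exact y.2
  · rintro _ ⟨_, ⟨a, ha, rfl⟩, rfl⟩ _ ⟨_, ⟨b, hb, rfl⟩, rfl⟩
    have h2 : (⟨a, ha⟩ : A) * ⟨b, hb⟩ = ⟨b, hb⟩ * ⟨a, ha⟩ := hab.is_comm.comm _ _
    have h3 := congrArg (fun y : A => (((y : Q) : centralizer ({z} : Set G)) : G)) h2
    exact h3
  · rintro g hgz _ ⟨y, hy, rfl⟩
    exact ⟨⟨g, mem_centralizer_singleton_iff.2 hgz⟩ * y * ⟨g, mem_centralizer_singleton_iff.2 hgz⟩⁻¹,
      hA2.conj_mem y hy _, rfl⟩

/-- **The conclusion**: `Goal`, or `F*(C_G(z))` is of symplectic type and not extraspecial. -/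
theorem concl [Finite G] {t z u : G} {N : Subgroup G} (h : Hyp t z u N (FS z)) {g x r s : G}
    (hg : g * z = z * g) (hgt : g * t * g⁻¹ = t * x) (hxt : x * t = t * x) (hxz : x * z = z * x)
    (hr : r ∈ FS z) (hs : s ∈ FS z) (hrt : r * t = t * r) (hst : s * t = t * s) (S : Sing x r s z) :
    (∃ lam : centralizer ({z} : Set G) →* ℤˣ, lam ⟨t, mem_centralizer_singleton_iff.2 h.comm⟩ = -1) ∨
    (Cfsg.IsOfSymplecticType ↥(Cfsg.generalizedFittingSubgroup ↥(centralizer ({z} : Set G))) ∧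
      ¬ Cfsg.IsExtraspecial 2 ↥(Cfsg.generalizedFittingSubgroup ↥(centralizer ({z} : Set G)))) := by
  by_cases hG : h.Goal
  · exact Or.inl hG
  · refine Or.inr ⟨symplectic h hG, fun hE => ?_⟩
    have hz : orderOf z = 2 := orderOf_eq_prime (by rw [pow_two]; exact h.zz) h.z1
    exact h.swap_false (Cfsg.Agent.LargeExtra.Base.large_of_genFitting z hz hE) hg hgt hxt hxz hr hs hrt hst S

end Cfsg.Agent.OddHalf.D8.HS.Loc
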