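import Cfsg.Agent.OddHalf.D8.MainE
import Cfsg.Agent.OddHalf.D8.TypeHS
import Cfsg.Agent.OddHalf.D8.HS.SheetHS
import Cfsg.Agent.OddHalf.D8.HS.Loc

/-!
# ODD half, D8, `K = HS`: from the sheet to the group (helper702)

`Out K t q z P` (front end), `SheetHS z u k P R`, no component of `C_G(z)` ⟹ `F*(C_G(z))` is of symplectic type and
not extraspecial (`concl`).

`exists_y`: the `y`-trick for `HS`; `w = k⁻¹ z k ∈ C_K(z) - P`; `v = x w x⁻¹` is inner on `K` and not of class 2B
(`TypeHS.FS.false_of_L`), not `t` times an element of class 2A, so `v` is `C_K(z)`-conjugate to `w`.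
-/

set_option autoImplicit false

namespace Cfsg.Agent.OddHalf.D8.HS.Glue

open Subgroup Cfsg Cfsg.Agent.OddHalf.Front.FE Cfsg.Agent.OddHalf.D8.Sheet Cfsg.Agent.OddHalf.D8.GlueE
  Cfsg.Agent.OddHalf.D8.Front Cfsg.Agent.OddHalf.D8.HS.SheetHS

universe u

variable {G : Type u} [Group G] {K : Subgroup G} {t q : G} {z v k : K} {P R : Subgroup K}

/-- the automorphism of `K` induced by an element of `C_G(t)` -/
noncomputable def al (h : Emb K t q z P) {g : G} (hg : g * t = t * g) : MulAut K :=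
  K.normalizerMonoidHom ⟨g, h.nor hg⟩

theorem al_apply (h : Emb K t q z P) {g : G} (hg : g * t = t * g) (x : K) :
    ((al h hg x : K) : G) = g * x * g⁻¹ := nmh_apply _ _

/-- inner automorphisms come from `Q K` -/
theorem exists_inner (h : Emb K t q z P) (Q2 : ∀ y ∈ zpowers q, y = 1 ∨ y = t) {g : G}
    (hg : g * t = t * g) {c : K} (hc : al h hg = MulAut.conj c) : g = c ∨ g = c * t := by
  have h1 : (c : G)⁻¹ * g ∈ zpowers q := by
    apply h.st.cK
    · have h4 := h.st.Kt (c : G)⁻¹ (K.inv_mem c.2)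
      calc (c : G)⁻¹ * g * t = (c : G)⁻¹ * (g * t) := by group
        _ = ((c : G)⁻¹ * t) * g := by rw [hg]; group
        _ = t * ((c : G)⁻¹ * g) := by rw [h4]; group
    · exact exists_of_conj (h.nor hg) hc
  rcases Q2 _ h1 with e | e
  · left
    exact (inv_mul_eq_one.1 e).symm
  · right
    rw [← e]; group

/-- the elements of `⟨u⟩` -/
theorem u_ne_inv (sh : SheetHS z v k P R) : v ≠ v⁻¹ := by
  intro h
  apply sh.z1
  rw [← sh.uu]
  nth_rewrite 2 [h]
  exact mul_inv_cancel v

theorem zP (sh : SheetHS z v k P R) : z ∈ P := sh.basic.zP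

/-- an element mapping `t` to `t z` and `z` to `z` normalises `R` -/
theorem conj_R (h : Emb K t q z P) (sh : SheetHS z v k P R) {x : G} (hxt : x * t * x⁻¹ = t * z)
    (hxz : x * z * x⁻¹ = z) {r : G} (hr : r ∈ R.map K.subtype) : x⁻¹ * r * x ∈ R.map K.subtype := by
  have fwd : ∀ y, y ∈ P.map K.subtype ↔ x * y * x⁻¹ ∈ P.map K.subtype := fun y => h.conj_P_swap hxt hxz
  have bwd : ∀ y ∈ P.map K.subtype, x⁻¹ * y * x ∈ P.map K.subtype := by
    intro y hy
    rw [fwd]
    have : x * (x⁻¹ * y * x) * x⁻¹ = y := by group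
    rwa [this]
  set B : Subgroup K := ((R.map K.subtype).map (MulAut.conj x⁻¹).toMonoidHom).subgroupOf K with hB
  have hmB : ∀ y : K, y ∈ B ↔ ∃ r ∈ R, x⁻¹ * (r : G) * x = y := by
    intro y
    rw [hB, mem_subgroupOf]
    constructor
    · rintro ⟨_, ⟨r, hr, rfl⟩, h1⟩
      refine ⟨r, hr, ?_⟩
      have h2 : x⁻¹ * (r : G) * x⁻¹⁻¹ = y := h1
      rwa [inv_inv] at h2
    · rintro ⟨r, hr, h1⟩
      refine ⟨r, ⟨r, hr, rfl⟩, ?_⟩
      show x⁻¹ * (r : G) * x⁻¹⁻¹ = y
      rw [inv_inv]; exact h1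
  have hBP : B ≤ P := by
    intro y hy
    obtain ⟨r, hr, h1⟩ := (hmB y).1 hy
    have h2 := bwd r ⟨r, sh.RP hr, rfl⟩
    rw [h1] at h2
    obtain ⟨_, h3⟩ := Emb.mem_map.1 h2
    exact h3
  have hR2 : IsPGroup 2 R := IsPGroup.of_card (n := 6) (by rw [sh.cardR]; norm_num)
  have h1 : B ≤ R := by
    apply sh.core
    · intro y hy
      exact mem_centralizer_singleton_iff.2 (sh.basic.cen y (hBP hy))
    · have h2 : IsPGroup 2 ((R.map K.subtype).map (MulAut.conj x⁻¹).toMonoidHom) := (hR2.map _).map _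
      exact h2.comap_of_injective K.subtype K.subtype_injective
    · intro y hy b hb
      obtain ⟨r, hr, h3⟩ := (hmB b).1 hb
      have h4 := (fwd y).1 ⟨y, hy, rfl⟩
      obtain ⟨h5, h6⟩ := Emb.mem_map.1 h4
      rw [hmB]
      refine ⟨⟨x * y * x⁻¹, h5⟩ * r * ⟨x * y * x⁻¹, h5⟩⁻¹, sh.Rn _ h6 r hr, ?_⟩
      show x⁻¹ * ((x * (y : G) * x⁻¹) * (r : G) * (x * (y : G) * x⁻¹)⁻¹) * x = (y : G) * (b : G) * (y : G)⁻¹
      rw [← h3]; group
  obtain ⟨r, hr, rfl⟩ := hr
  have h2 := bwd r ⟨r, sh.RP hr, rfl⟩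
  obtain ⟨h3, h4⟩ := Emb.mem_map.1 h2
  exact Emb.mem_map.2 ⟨h3, h1 ((hmB _).2 ⟨r, hr, rfl⟩)⟩

/-- an element mapping `t` to `t z` and `z` to `z` normalises `⟨u⟩` -/
theorem conj_u (h : Emb K t q z P) (sh : SheetHS z v k P R) {x : G} (hxt : x * t * x⁻¹ = t * z)
    (hxz : x * z * x⁻¹ = z) : x * v * x⁻¹ = v ∨ x * v * x⁻¹ = (v : G)⁻¹ := by
  have fwd : ∀ y, y ∈ P.map K.subtype ↔ x * y * x⁻¹ ∈ P.map K.subtype := fun y => h.conj_P_swap hxt hxz
  have hvP : (v : G) ∈ P.map K.subtype := ⟨v, sh.RP sh.uR, rfl⟩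
  obtain ⟨h1, h2⟩ := Emb.mem_map.1 ((fwd _).1 hvP)
  have h3 := sh.cR ⟨x * v * x⁻¹, h1⟩ h2 (by
    intro r hr
    apply Subtype.ext
    show x * (v : G) * x⁻¹ * r = r * (x * (v : G) * x⁻¹)
    obtain ⟨h4, h5⟩ := Emb.mem_map.1 (conj_R h sh hxt hxz (r := (r : G)) ⟨r, hr, rfl⟩)
    have h6 : x⁻¹ * (r : G) * x * v = v * (x⁻¹ * r * x) :=
      congrArg Subtype.val ((sh.memP ⟨x⁻¹ * r * x, h4⟩).1 (sh.RP h5))
    calc x * (v : G) * x⁻¹ * r = x * (v * (x⁻¹ * r * x)) * x⁻¹ := by group
      _ = x * (x⁻¹ * r * x * v) * x⁻¹ := by rw [h6]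
      _ = r * (x * (v : G) * x⁻¹) := by group)
  have hsq : x * (v : G) * x⁻¹ * (x * (v : G) * x⁻¹) = z := by
    have h7 : (v : G) * v = z := congrArg Subtype.val sh.uu
    calc x * (v : G) * x⁻¹ * (x * (v : G) * x⁻¹) = x * (v * v) * x⁻¹ := by group
      _ = z := by rw [h7, hxz]
  have hzz : (z : G) * z = 1 := h.zz
  rcases h3 with e | e | e | e
  · exfalso
    have e' : x * (v : G) * x⁻¹ = 1 := congrArg Subtype.val e
    rw [e', one_mul] at hsq
    exact h.z1 hsq.symm
  · exfalso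
    have e' : x * (v : G) * x⁻¹ = z := congrArg Subtype.val e
    rw [e', hzz] at hsq
    exact h.z1 hsq.symm
  · exact Or.inl (congrArg Subtype.val e)
  · exact Or.inr (congrArg Subtype.val e)

/-- **the `y`-trick for `HS`** -/
theorem exists_y [Finite G] (o : Out K t q z P) (sh : SheetHS z v k P R) {F : Subgroup G}
    (hF : TypeHS.FS (z : G) F) (hFz : ∀ x ∈ F, x * (z : G) = z * x) :
    ∃ y : G, y * z = z * y ∧ y * t * y⁻¹ = t * (k * z * k⁻¹) := by
  have h := o.emb
  obtain ⟨x, -, hxt, hxz⟩ := o.swap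
  have hkt : (k : G) * t = t * k := h.st.Kt k k.2
  -- `w` and `v`
  set w : K := k⁻¹ * z * k with hw
  have hwG : (w : G) = (k : G)⁻¹ * z * k := rfl
  have hww : (w : G) * w = 1 := by
    rw [hwG]
    calc (k : G)⁻¹ * z * k * ((k : G)⁻¹ * z * k) = (k : G)⁻¹ * (z * z) * k := by group
      _ = 1 := by rw [h.zz]; group
  have hwt : (w : G) * t = t * w := h.st.Kt w w.2
  have hwz : (w : G) * z = z * w := congrArg Subtype.val sh.kz
  have hxt' : x⁻¹ * t * x = t * z := by
    have hxz' : x⁻¹ * z * x = z := by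
      calc x⁻¹ * z * x = x⁻¹ * (x * z * x⁻¹) * x := by rw [hxz]
        _ = z := by group
    calc x⁻¹ * t * x = x⁻¹ * (t * z * z) * x := by rw [mul_assoc t, h.zz, mul_one]
      _ = x⁻¹ * (x * t * x⁻¹ * z) * x := by rw [hxt]
      _ = t * (x⁻¹ * z * x) := by group
      _ = t * z := by rw [hxz']
  have hxz' : x⁻¹ * z * x = z := by
    calc x⁻¹ * z * x = x⁻¹ * (x * z * x⁻¹) * x := by rw [hxz]
      _ = z := by group
  set g : G := x * w * x⁻¹ with hg
  have hgg : g * g = 1 := by
    rw [hg]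
    calc x * w * x⁻¹ * (x * w * x⁻¹) = x * ((w : G) * w) * x⁻¹ := by group
      _ = 1 := by rw [hww]; group
  have hgz : g * z = z * g := by
    calc g * z = x * (w * (x⁻¹ * z * x)) * x⁻¹ := by rw [hg]; group
      _ = x * (z * w) * x⁻¹ := by rw [hxz', hwz]
      _ = (x * z * x⁻¹) * (x * w * x⁻¹) := by group
      _ = z * g := by rw [hxz]
  have hgt : g * t = t * g := by
    have hwtz : (w : G) * (t * z) = t * z * w := by
      rw [← mul_assoc, hwt, mul_assoc, hwz, mul_assoc]
    calc g * t = x * (w * (x⁻¹ * t * x)) * x⁻¹ := by rw [hg]; group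
      _ = x * (t * z * w) * x⁻¹ := by rw [hxt', hwtz]
      _ = (x * t * x⁻¹) * (x * z * x⁻¹) * (x * w * x⁻¹) := by group
      _ = t * z * z * g := by rw [hxz, hxt]
      _ = t * g := by rw [mul_assoc t, h.zz, mul_one]
  -- `g` inverts `u`
  have hwu : (w : G) * v * (w : G)⁻¹ = (v : G)⁻¹ := by
    rcases sh.inv w (Subtype.ext hwz) with e | e
    · exfalso
      apply sh.kP
      rw [sh.memP]
      have e2 : w * v * w⁻¹ = v := e
      rw [mul_inv_eq_iff_eq_mul] at e2
      exact e2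
    · exact congrArg Subtype.val e
  have hwu' : (w : G) * (v : G)⁻¹ * (w : G)⁻¹ = v := by
    calc (w : G) * (v : G)⁻¹ * (w : G)⁻¹ = ((w : G) * v * (w : G)⁻¹)⁻¹ := by group
      _ = v := by rw [hwu, inv_inv]
  have hgu : g * v * g⁻¹ = (v : G)⁻¹ := by
    have e0 : g * v * g⁻¹ = x * (w * (x⁻¹ * v * x) * (w : G)⁻¹) * x⁻¹ := by rw [hg]; group
    rcases conj_u h sh hxt hxz with e | e
    · have e1 : x⁻¹ * (v : G) * x = v := by
        calc x⁻¹ * (v : G) * x = x⁻¹ * (x * v * x⁻¹) * x := by rw [e]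
          _ = v := by group
      rw [e0, e1, hwu]
      have e2 := congrArg (fun y => y⁻¹) e
      simp only [mul_inv_rev, inv_inv] at e2
      calc x * (v : G)⁻¹ * x⁻¹ = x * ((v : G)⁻¹ * x⁻¹) := by group
        _ = (v : G)⁻¹ := e2
    · have e1 : x⁻¹ * (v : G) * x = (v : G)⁻¹ := by
        calc x⁻¹ * (v : G) * x = x⁻¹ * ((v : G)⁻¹)⁻¹ * x := by rw [inv_inv]
          _ = x⁻¹ * (x * v * x⁻¹)⁻¹ * x := by rw [e]
          _ = (v : G)⁻¹ := by group
      rw [e0, e1, hwu']
      exact e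
  have hαz : al h hgt z = z := by
    apply Subtype.ext
    rw [al_apply, hgz]; group
  have hαu : al h hgt v = v⁻¹ := by
    apply Subtype.ext
    rw [al_apply, hgu]; rfl
  -- `g` is inner on `K`
  obtain ⟨c, hc⟩ : ∃ c : K, al h hgt = MulAut.conj c := by
    by_contra hcon
    push Not at hcon
    obtain ⟨p, hp, hpy⟩ := sh.y3 (al h hgt) hcon hαz hαu
    apply sh.kP
    have fwd : ∀ y, y ∈ P.map K.subtype ↔ x * y * x⁻¹ ∈ P.map K.subtype := fun y => h.conj_P_swap hxt hxz
    -- `p' = x⁻¹ p x`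
    have hp' : x⁻¹ * (p : G) * x ∈ P.map K.subtype := by
      rw [fwd]
      have : x * (x⁻¹ * (p : G) * x) * x⁻¹ = p := by group
      rw [this]
      exact ⟨p, hp, rfl⟩
    obtain ⟨hp1, hp2⟩ := Emb.mem_map.1 hp'
    set p' : K := ⟨x⁻¹ * (p : G) * x, hp1⟩ with hp'def
    have hn : p'⁻¹ * w ∈ R := by
      apply sh.y4
      · have c1 : Commute p' z := sh.basic.cen p' hp2
        have c2 : Commute w z := Subtype.ext hwz
        exact (c1.inv_left.mul_left c2).eq
      · intro y hy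
        obtain ⟨h5, h6⟩ := Emb.mem_map.1 ((fwd y).1 ⟨y, hy, rfl⟩)
        have h7 := hpy ⟨x * y * x⁻¹, h5⟩ h6
        have h8 := conj_R h sh hxt hxz (r := _) ⟨_, h7, rfl⟩
        obtain ⟨h9, h10⟩ := Emb.mem_map.1 h8
        -- `x⁻¹ ((p y' p⁻¹)⁻¹ g y' g⁻¹) x = (p' y p'⁻¹)⁻¹ w y w⁻¹`
        have e1 : (⟨_, h9⟩ : K) = (p' * y * p'⁻¹)⁻¹ * (w * y * w⁻¹) := by
          apply Subtype.ext
          show x⁻¹ * (((p : G) * (x * y * x⁻¹) * (p : G)⁻¹)⁻¹ *
            ((al h hgt ⟨x * y * x⁻¹, h5⟩ : K) : G)) * x =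
            ((x⁻¹ * (p : G) * x) * y * (x⁻¹ * (p : G) * x)⁻¹)⁻¹ * ((w : G) * y * (w : G)⁻¹)
          rw [al_apply, hg]
          group
        rw [e1] at h10
        have h11 := sh.Rn p'⁻¹ (P.inv_mem hp2) _ h10
        have e2 : p'⁻¹ * ((p' * y * p'⁻¹)⁻¹ * (w * y * w⁻¹)) * p'⁻¹⁻¹ = y⁻¹ * (p'⁻¹ * w * y * (p'⁻¹ * w)⁻¹) := by
          group
        rwa [e2] at h11
    have e3 : w = p' * (p'⁻¹ * w) := by group
    show w ∈ P
    rw [e3]
    exact P.mul_mem hp2 (sh.RP hn)
  -- `c` is an involution of `C_K(z) - P`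
  have hcz : c * z = z * c := by
    have e : MulAut.conj c z = z := by rw [← hc]; exact hαz
    rw [MulAut.conj_apply, mul_inv_eq_iff_eq_mul] at e
    exact e
  have hcu : c * v * c⁻¹ = v⁻¹ := by
    have e : MulAut.conj c v = v⁻¹ := by rw [← hc]; exact hαu
    rwa [MulAut.conj_apply] at e
  have hcP : c ∉ P := by
    intro hcP
    apply u_ne_inv sh
    rw [← hcu, (sh.memP c).1 hcP]; group
  have hct : (c : G) * t = t * c := h.st.Kt c c.2
  have hcases := exists_inner h o.Q2 hgt hc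
  have hcc : c * c = 1 := by
    apply Subtype.ext
    show (c : G) * c = 1
    rcases hcases with e | e
    · rw [← e]; exact hgg
    · have e1 : (c : G) = g * t := by rw [e, mul_assoc, h.st.tt, mul_one]
      rw [e1]
      calc g * t * (g * t) = g * (t * g) * t := by group
        _ = g * g * (t * t) := by rw [← hgt]; group
        _ = 1 := by rw [hgg, h.st.tt, one_mul]
  -- `g` is conjugate to `z`
  have hgconj : g = (x * (k : G)⁻¹) * z * (x * (k : G)⁻¹)⁻¹ := by
    rw [hg, hwG]; group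
  rcases sh.y1 c hcz hcP hcc with ⟨d, hdz, hd⟩ | ⟨L, hLs, hLperf, hL1, ⟨m, hm⟩, hLcore⟩
  · -- class 2A
    rcases hcases with e | e
    · -- `g = c`
      have hdt : (d : G) * t = t * d := h.st.Kt d d.2
      have hdz' : (d : G) * z = z * d := congrArg Subtype.val hdz
      exact TypeE.y_trick (t := t) (z := (z : G)) (x := x) (k := (k : G)) (n := (d : G)) hxt hkt hdt hdz' (by
        have e1 : (c : G) = d * ((k : G)⁻¹ * z * k) * (d : G)⁻¹ := congrArg Subtype.val hd
        have e2 : x * ((k : G)⁻¹ * z * k) * x⁻¹ = g := rfl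
        rw [e2, e, e1])
    · -- `g = t c`: `t` would be conjugate to `z`
      exfalso
      have e1 : (c : G) = d * ((k : G)⁻¹ * z * k) * (d : G)⁻¹ := congrArg Subtype.val hd
      have hdt : (d : G) * t = t * d := h.st.Kt d d.2
      -- `g = c t = (d k⁻¹) (z t) (d k⁻¹)⁻¹ = (d k⁻¹ x) t (d k⁻¹ x)⁻¹`
      have hb : ((d : G) * (k : G)⁻¹) * t = t * ((d : G) * (k : G)⁻¹) := by
        have c1 : Commute (d : G) t := hdt
        have c2 : Commute (k : G) t := hkt
        exact (c1.mul_left c2.inv_left).eq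
      have e2 : g = ((d : G) * (k : G)⁻¹ * x) * t * ((d : G) * (k : G)⁻¹ * x)⁻¹ := by
        calc g = c * t := e
          _ = ((d : G) * (k : G)⁻¹) * z * ((d : G) * (k : G)⁻¹)⁻¹ * t := by rw [e1]; group
          _ = ((d : G) * (k : G)⁻¹) * z * (((d : G) * (k : G)⁻¹)⁻¹ * t) := by group
          _ = ((d : G) * (k : G)⁻¹) * z * (t * ((d : G) * (k : G)⁻¹)⁻¹) := by
              rw [(Commute.inv_left (show Commute ((d : G) * (k : G)⁻¹) t from hb)).eq]
          _ = ((d : G) * (k : G)⁻¹) * (z * t) * ((d : G) * (k : G)⁻¹)⁻¹ := by group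
          _ = ((d : G) * (k : G)⁻¹) * (x * t * x⁻¹) * ((d : G) * (k : G)⁻¹)⁻¹ := by rw [hxt, h.comm]
          _ = _ := by group
      apply o.ne ((x * (k : G)⁻¹)⁻¹ * ((d : G) * (k : G)⁻¹ * x))
      calc (x * (k : G)⁻¹)⁻¹ * ((d : G) * (k : G)⁻¹ * x) * t * ((x * (k : G)⁻¹)⁻¹ * ((d : G) * (k : G)⁻¹ * x))⁻¹
          = (x * (k : G)⁻¹)⁻¹ * (((d : G) * (k : G)⁻¹ * x) * t * ((d : G) * (k : G)⁻¹ * x)⁻¹) *
            (x * (k : G)⁻¹) := by group
        _ = (x * (k : G)⁻¹)⁻¹ * g * (x * (k : G)⁻¹) := by rw [← e2]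
        _ = z := by rw [hgconj]; group
  · -- class 2B
    exfalso
    have hF' := hF.conj (x * (k : G)⁻¹)
    rw [← hgconj] at hF'
    have hFs' : ∀ y ∈ F.map (MulAut.conj (x * (k : G)⁻¹)).toMonoidHom, y * g = g * y := by
      rintro _ ⟨y, hy, rfl⟩
      show (x * (k : G)⁻¹) * y * (x * (k : G)⁻¹)⁻¹ * g = g * ((x * (k : G)⁻¹) * y * (x * (k : G)⁻¹)⁻¹)
      rw [hgconj]
      calc (x * (k : G)⁻¹) * y * (x * (k : G)⁻¹)⁻¹ * ((x * (k : G)⁻¹) * z * (x * (k : G)⁻¹)⁻¹)
          = (x * (k : G)⁻¹) * (y * z) * (x * (k : G)⁻¹)⁻¹ := by group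
        _ = (x * (k : G)⁻¹) * (z * y) * (x * (k : G)⁻¹)⁻¹ := by rw [hFz y hy]
        _ = _ := by group
    -- `c ∈ {g, g t}`
    have hcg : ∀ n : G, n * t = t * n → n * g = g * n → n * c = c * n := by
      intro n hnt hng
      rcases hcases with e | e
      · rw [← e]; exact hng
      · have e1 : (c : G) = g * t := by rw [e, mul_assoc, h.st.tt, mul_one]
        rw [e1]
        exact ((show Commute n g from hng).mul_right (show Commute n t from hnt)).eq
    have hgc : ∀ n : G, n * t = t * n → n * c = c * n → n * g = g * n := by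
      intro n hnt hnc
      rcases hcases with e | e
      · rw [e]; exact hnc
      · rw [e]
        exact ((show Commute n c from hnc).mul_right (show Commute n t from hnt)).eq
    have hLt : ∀ l ∈ L.map K.subtype, l * t = t * l := by
      rintro _ ⟨l, -, rfl⟩
      exact h.st.Kt l l.2
    have hLc : ∀ l ∈ L.map K.subtype, l * (c : G) = c * l := by
      rintro _ ⟨l, hl, rfl⟩
      exact congrArg Subtype.val (hLs l hl)
    refine hF'.false_of_L h.st.tt (by exact hgt.symm) (L := L.map K.subtype) hLt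
      (fun l hl => hgc l (hLt l hl) (hLc l hl)) ?_ ?_ hFs' ?_ ?_
    · rw [← map_commutator, hLperf]
    · intro e
      apply hL1
      rw [Subgroup.map_eq_bot_iff_of_injective _ K.subtype_injective] at e
      exact e
    · intro n hnt hng l hl
      have hnc := hcg n hnt hng
      have hnc' : al h hnt c = c := by
        apply Subtype.ext
        rw [al_apply, hnc]; group
      obtain ⟨l', hl', rfl⟩ := hl
      have h12 := map_P (z := c) hLperf hLs ⟨m, hm⟩ (al h hnt) hnc' hl'
      refine ⟨al h hnt l', h12, ?_⟩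
      exact al_apply h hnt l'
    · intro Y hY hY2 hYn
      have h13 : Y.subgroupOf K = ⊥ := by
        apply hLcore
        · intro y hy
          obtain ⟨_, h14⟩ := Emb.mem_map.1 (hY (mem_subgroupOf.1 hy))
          exact h14
        · exact hY2.comap_of_injective K.subtype K.subtype_injective
        · intro l hl b hb
          rw [mem_subgroupOf] at hb ⊢
          exact hYn l ⟨l, hl, rfl⟩ b hb
      rw [eq_bot_iff]
      intro y hy
      have hyK : y ∈ K := map_subtype_le L (hY hy)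
      have h14 : (⟨y, hyK⟩ : K) ∈ Y.subgroupOf K := mem_subgroupOf.2 hy
      rw [h13, mem_bot] at h14
      exact mem_bot.2 (congrArg Subtype.val h14)

/-- `F*(C_G(z))` is a 2-group if `C_G(z)` has no component -/
theorem gfs_eq (C : Iface.Ctx G) {z : G} (hz : orderOf z = 2)
    (hM : ∀ M : Subgroup ↥(centralizer ({z} : Set G)), ¬ IsComponent M) :
    generalizedFittingSubgroup ↥(centralizer ({z} : Set G)) = pCore 2 ↥(centralizer ({z} : Set G)) := by
  have hfin := C.fin
  have hbot := MainE.core_eq_bot C hz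
  have hlay : layer ↥(centralizer ({z} : Set G)) = ⊥ := by
    unfold layer
    rw [sSup_eq_bot]
    intro M hMc
    exact absurd hMc (hM M)
  unfold generalizedFittingSubgroup
  rw [hlay, bot_sup_eq]
  exact Cfsg.Agent.SignalizersComponents.PConstrained.fittingSubgroup_eq_pCore_of_pPrimeCore_eq_bot 2 hbot

/-- the data in `G` -/
theorem data (C : Iface.Ctx G) (o : Out K t q z P) (sh : SheetHS z v k P R)
    (hM : ∀ M : Subgroup ↥(centralizer ({(z : G)} : Set G)), ¬ IsComponent M) :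
    TypeHS.Data t (z : G) (v : G) (P.map K.subtype) (R.map K.subtype) (Loc.FS (z : G)) := by
  have hfin := C.fin
  have h := o.emb
  have hbot := MainE.core_eq_bot C (MainE.orderOf_z h)
  have hlay : layer ↥(centralizer ({(z : G)} : Set G)) = ⊥ := by
    unfold layer
    rw [sSup_eq_bot]
    intro M hMc
    exact absurd hMc (hM M)
  have hself := (Cfsg.Agent.SignalizersComponents.PConstrained.centralizer_pCore_le_iff_layer_eq_bot 2
    hbot).2 hlay
  have hFS : Loc.FS (z : G) = (pCore 2 ↥(centralizer ({(z : G)} : Set G))).map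
      (centralizer ({(z : G)} : Set G)).subtype := by
    unfold Loc.FS
    rw [gfs_eq C (MainE.orderOf_z h) hM]
  have hPz : ∀ p ∈ P.map K.subtype, p * (z : G) = z * p := by
    rintro _ ⟨p, hp, rfl⟩
    exact congrArg Subtype.val (sh.basic.cen p hp)
  have hPt : ∀ p ∈ P.map K.subtype, p * t = t * p := by
    rintro _ ⟨p, -, rfl⟩
    exact h.st.Kt p p.2
  have hvz : (v : G) * z = z * v := hPz v ⟨v, sh.RP sh.uR, rfl⟩
  have huu : (v : G) * v = z := congrArg Subtype.val sh.uu
  have hvinv : (v : G)⁻¹ = v * z := by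
    rw [inv_eq_iff_mul_eq_one, ← mul_assoc, huu, h.zz]
  -- subgroups of `C_K(z)`
  have hsub : ∀ Y : Subgroup G, Y ≤ K →
      (∀ n, n * t = t * n → n * z = z * n → ∀ y ∈ Y, n * y * n⁻¹ ∈ Y) →
      (∀ x ∈ P, ∀ b ∈ Y.subgroupOf K, x * b * x⁻¹ ∈ Y.subgroupOf K) ∧
      (Y.subgroupOf K).map K.subtype = Y := by
    intro Y hY hn
    refine ⟨?_, ?_⟩
    · intro x hx b hb
      rw [mem_subgroupOf] at hb ⊢
      exact hn x (h.st.Kt x x.2) (congrArg Subtype.val (sh.basic.cen x hx)) b hb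
    · rw [subgroupOf_map_subtype, inf_eq_left]
      exact hY
  rw [hFS]
  exact
    { tt := h.st.tt
      zz := h.zz
      z1 := h.z1
      comm := h.comm
      pF := (Cfsg.Agent.Lib.Cores.pCore_isPGroup 2).map _
      leF := by
        rintro _ ⟨x, -, rfl⟩
        exact mem_centralizer_singleton_iff.1 x.2
      norF := by
        rintro g hg _ ⟨x, hx, rfl⟩
        exact ⟨⟨g, mem_centralizer_singleton_iff.2 hg⟩ * x * ⟨g, mem_centralizer_singleton_iff.2 hg⟩⁻¹,
          (Cfsg.Agent.Lib.Cores.pCore_normal 2).conj_mem x hx _, rfl⟩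
      selfF := by
        intro g hg hc
        refine ⟨⟨g, mem_centralizer_singleton_iff.2 hg⟩, hself ?_, rfl⟩
        rw [mem_centralizer_iff]
        intro x hx
        exact Subtype.ext (hc x ⟨x, hx, rfl⟩).symm
      Pt := hPt
      Pz := hPz
      norP := fun n hnt hnz p hp => h.conj_P hnt hnz hp
      perf := by rw [← map_commutator, sh.perf]
      RP := map_mono sh.RP
      uR := ⟨v, sh.uR, rfl⟩
      uu := huu
      uP := by
        rintro _ ⟨p, hp, rfl⟩
        exact congrArg Subtype.val ((sh.memP p).1 hp)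
      core := by
        intro Y hY hY2 hn
        obtain ⟨h2, h3⟩ := hsub Y (hY.trans (map_subtype_le _)) hn
        rw [← h3]
        refine map_mono (sh.core _ ?_ ?_ h2)
        · intro y hy
          obtain ⟨_, h5⟩ := Emb.mem_map.1 (hY (mem_subgroupOf.1 hy))
          exact mem_centralizer_singleton_iff.2 (sh.basic.cen y h5)
        · exact hY2.comap_of_injective K.subtype K.subtype_injective
      irr := by
        intro Y hY hn
        obtain ⟨h2, h3⟩ := hsub Y (hY.trans (map_subtype_le _)) hn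
        have h4 : Y.subgroupOf K ≤ R := by
          intro y hy
          obtain ⟨_, h5⟩ := Emb.mem_map.1 (hY (mem_subgroupOf.1 hy))
          exact h5
        rcases sh.subs _ h4 h2 with h5 | h5
        · left
          intro y hy
          rw [← h3] at hy
          obtain ⟨b, hb, rfl⟩ := hy
          rcases h5 b hb with e | e | e | e
          · exact Or.inl (congrArg Subtype.val e)
          · exact Or.inr (Or.inr (Or.inl (congrArg Subtype.val e)))
          · exact Or.inr (Or.inl (congrArg Subtype.val e))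
          · refine Or.inr (Or.inr (Or.inr ?_))
            rw [← hvinv]
            exact congrArg Subtype.val e
        · right
          rw [← h3, h5]
      cR := by
        rintro _ ⟨x, hx, rfl⟩ hc
        rcases sh.cR x (sh.RP hx) (fun r hr => Subtype.ext (hc r ⟨r, hr, rfl⟩)) with e | e | e | e
        · exact Or.inl (congrArg Subtype.val e)
        · exact Or.inr (Or.inr (Or.inl (congrArg Subtype.val e)))
        · exact Or.inr (Or.inl (congrArg Subtype.val e))
        · refine Or.inr (Or.inr (Or.inr ?_))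
          rw [← hvinv]
          exact congrArg Subtype.val e
      cardR := by
        rw [← sh.cardR]
        exact Nat.card_congr (R.equivMapOfInjective _ K.subtype_injective).symm.toEquiv
      out := by
        intro n hn2 hnt hnz hc
        have hα2 : IsPGroup 2 (zpowers (al h hnt)) := isPGroup_nmh (h.nor hnt) hn2
        have hαz : al h hnt z = z := by
          apply Subtype.ext
          rw [al_apply, hnz]; group
        rcases sh.aut (al h hnt) hα2 hαz (by
          intro x hx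
          obtain ⟨r, hr, e⟩ := hc x ⟨x, hx, rfl⟩
          have e1 : x⁻¹ * al h hnt x = x⁻¹ * r * x⁻¹⁻¹ := by
            apply Subtype.ext
            show (x : G)⁻¹ * ((al h hnt x : K) : G) = (x : G)⁻¹ * (r : G) * (x : G)⁻¹⁻¹
            have e' : (r : G) = n * (x : G) * n⁻¹ * (x : G)⁻¹ := e
            rw [al_apply, e']; group
          rw [e1]
          exact sh.Rn _ (P.inv_mem hx) r hr) with ⟨r, hr, e⟩ | e
        · rcases exists_inner h o.Q2 hnt e with e1 | e1
          · left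
            rw [e1]; exact ⟨r, hr, rfl⟩
          · right; left
            have h2 : (r : G) * t = t * r := h.st.Kt r r.2
            have h3 : t * n = r := by rw [e1, h2, ← mul_assoc, h.st.tt, one_mul]
            rw [h3]; exact ⟨r, hr, rfl⟩
        · right; right
          have e1 := congrArg Subtype.val e
          rw [al_apply] at e1
          exact e1 }

/-- **The conclusion**: `F*(C_G(z))` is of symplectic type and not extraspecial. -/
theorem concl (C : Iface.Ctx G) (o : Out K t q z P) (sh : SheetHS z v k P R)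
    (hM : ∀ M : Subgroup ↥(centralizer ({(z : G)} : Set G)), ¬ IsComponent M) :
    IsOfSymplecticType ↥(generalizedFittingSubgroup ↥(centralizer ({(z : G)} : Set G))) ∧
      ¬ IsExtraspecial 2 ↥(generalizedFittingSubgroup ↥(centralizer ({(z : G)} : Set G))) := by
  have hfin := C.fin
  have h := o.emb
  have D := data C o sh hM
  obtain ⟨y, hyz, hyt⟩ := exists_y o sh D.fs D.leF
  have hxz : (k : G) * z * (k : G)⁻¹ * z = z * ((k : G) * z * (k : G)⁻¹) := congrArg Subtype.val sh.kz'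
  -- `t ∉ F`
  have htF : t ∉ Loc.FS (z : G) := by
    refine D.t_notMem (M := (centralizer ({z} : Set K)).map K.subtype) ?_ ?_ hyz hyt
      ⟨k * z * k⁻¹, mem_centralizer_singleton_iff.2 sh.kz', rfl⟩ ?_
    · rintro n hnt hnz _ ⟨x, hx, rfl⟩
      refine ⟨al h hnt x, ?_, al_apply h hnt x⟩
      have hnz' : al h hnt z = z := by
        apply Subtype.ext
        rw [al_apply, hnz]; group
      refine mem_centralizer_singleton_iff.2 ?_
      have h1 : al h hnt (x * z) = al h hnt (z * x) := by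
        rw [mem_centralizer_singleton_iff.1 hx]
      rwa [map_mul, map_mul, hnz'] at h1
    · intro Y hY hY2 hn
      have hYK : Y ≤ K := hY.trans (map_subtype_le _)
      have h3 : (Y.subgroupOf K).map K.subtype = Y := by
        rw [subgroupOf_map_subtype, inf_eq_left]
        exact hYK
      rw [← h3]
      refine map_mono (sh.core _ ?_ ?_ ?_)
      · intro y hy
        obtain ⟨_, h5⟩ := Emb.mem_map.1 (hY (mem_subgroupOf.1 hy))
        exact h5
      · exact hY2.comap_of_injective K.subtype K.subtype_injective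
      · intro x hx b hb
        rw [mem_subgroupOf] at hb ⊢
        exact hn x (h.st.Kt x x.2) (congrArg Subtype.val (sh.basic.cen x hx)) b hb
    · intro hR
      obtain ⟨_, h5⟩ := Emb.mem_map.1 (map_mono sh.RP hR)
      exact sh.kP' h5
  obtain ⟨r₁, hr₁, r₂, hr₂, s₁, s₂, hs₁, hs₂, h₁, h₂, h₁₂, n₁, n₂, n₁₂⟩ := sh.y5
  have hab : Loc.Hyp t (z : G) (v : G) (centralizer ({t} : Set G) ⊓ centralizer ({(z : G)} : Set G))
      (Loc.FS (z : G)) :=
    { tt := D.tt
      zz := D.zz
      z1 := D.z1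
      comm := D.comm
      pF := D.pF
      le := D.leF
      nor := D.norF
      self := D.selfF
      hN := by
        intro n hn
        refine ⟨mem_centralizer_singleton_iff.1 hn.2, Or.inl ?_⟩
        rw [mem_centralizer_singleton_iff.1 hn.1]; group
      uu := D.uu
      ab := by
        intro B hB hBt hBab hBn b hb
        rcases D.ab htF B hB hBt hBab (fun n hnt hnz => hBn n ⟨mem_centralizer_singleton_iff.2 hnt,
          mem_centralizer_singleton_iff.2 hnz⟩) b hb with e | e | e | e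
        · exact Or.inl e
        · exact Or.inr (Or.inr (Or.inl e))
        · exact Or.inr (Or.inl e)
        · exact Or.inr (Or.inr (Or.inr e)) }
  have hRF : ∀ r ∈ R, (r : G) ∈ Loc.FS (z : G) := fun r hr => D.R_le_F ⟨r, hr, rfl⟩
  have hS : Loc.Sing ((k : G) * z * (k : G)⁻¹) (r₁ : G) (r₂ : G) (z : G) := by
    have e₁ : (k : G) * z * (k : G)⁻¹ * r₁ * ((k : G) * z * (k : G)⁻¹)⁻¹ * (r₁ : G)⁻¹ = s₁ :=
      congrArg Subtype.val hs₁
    have e₂ : (k : G) * z * (k : G)⁻¹ * r₂ * ((k : G) * z * (k : G)⁻¹)⁻¹ * (r₂ : G)⁻¹ = s₂ :=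
      congrArg Subtype.val hs₂
    have key : ∀ a b : K, a ≠ b → (a : G) ≠ b := fun a b hab e => hab (Subtype.ext e)
    exact
      { c2 := by rw [e₁]; exact congrArg Subtype.val h₁
        d2 := by rw [e₂]; exact congrArg Subtype.val h₂
        cd2 := by rw [e₁, e₂]; exact congrArg Subtype.val h₁₂
        c1 := by rw [e₁]; exact key _ _ n₁.1
        cz := by rw [e₁]; exact key _ _ n₁.2
        d1 := by rw [e₂]; exact key _ _ n₂.1
        dz := by rw [e₂]; exact key _ _ n₂.2
        cd1 := by rw [e₁, e₂]; exact key _ _ n₁₂.1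
        cdz := by rw [e₁, e₂]; exact key _ _ n₁₂.2 }
  rcases Loc.concl hab (x := (k : G) * z * (k : G)⁻¹) (r := (r₁ : G)) (s := (r₂ : G)) hyz hyt
    (h.st.Kt _ (k * z * k⁻¹).2) hxz (hRF r₁ hr₁) (hRF r₂ hr₂) (h.st.Kt r₁ r₁.2) (h.st.Kt r₂ r₂.2)
    hS with ⟨lam, hl⟩ | hc
  · exfalso
    have h1 : commutator (centralizer ({(z : G)} : Set G)) ≤ lam.ker :=
      Abelianization.commutator_subset_ker lam
    have h2 : lam ⟨t, mem_centralizer_singleton_iff.2 D.comm⟩ = 1 := h1 o.com
    rw [h2] at hl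
    exact (by decide : (1 : ℤˣ) ≠ -1) hl
  · exact hc

end Cfsg.Agent.OddHalf.D8.HS.Glue
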