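import Cfsg.Agent.OddHalf.D8.HS.CompM
import Cfsg.Agent.OddHalf.D8.HS.Glue
import Cfsg.Agent.OddHalf.CaseM.GlueM
import Cfsg.Agent.Schreier.ClassBase

/-!
# ODD half, D8, `K = HS`, case (M): from the sheet of `K` to `X = C_G(z)` (helper970)
-/

set_option autoImplicit false

namespace Cfsg.Agent.OddHalf.D8.HS.GlueM

open Subgroup Cfsg Cfsg.Agent.OddHalf.Front.FE Cfsg.Agent.OddHalf.D8.Sheet Cfsg.Agent.OddHalf.D8.GlueE
  Cfsg.Agent.OddHalf.D8.Front Cfsg.Agent.OddHalf.D8.HS.SheetHS
open Cfsg.Agent.OddHalf.CaseM (toX mem_toX map_le_cent map_toX)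

/-- the additional facts on `HS` for case (M) -/
structure SheetHSM {K : Type*} [Group K] (z u k : K) (P R : Subgroup K) : Prop where
  two : ∃ n : ℕ, (MulAut.conj : K →* MulAut K).range.index = 2 ^ n
  /-- `P/R` is simple -/
  max : ∀ N : Subgroup K, R ≤ N → N ≤ P → (∀ p ∈ P, ∀ n ∈ N, p * n * p⁻¹ ∈ N) → N = R ∨ N = P
  /-- `w u` is conjugate to an element of `P` -/
  k0 : ∃ c : K, c * (k⁻¹ * z * k * u) * c⁻¹ ∈ P
  /-- two classes of involutions -/
  inv2 : ∀ x : K, x * x = 1 → x ≠ 1 → (∃ c, x = c * z * c⁻¹) ∨ ∃ c, x = c * (k⁻¹ * z * k * u) * c⁻¹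
  /-- a conjugate of `u` which commutes with `u` and has another square (in `4³`) -/
  cj : ∃ j : K, j * u * j⁻¹ * u = u * (j * u * j⁻¹) ∧ j * z * j⁻¹ ≠ z

section KLevel

variable {K : Type*} [Group K] {z u k : K} {P R : Subgroup K}

theorem R2 (sh : SheetHS z u k P R) : IsPGroup 2 R := IsPGroup.of_card (n := 6) (by rw [sh.cardR]; norm_num)

theorem map_R (sh : SheetHS z u k P R) (α : MulAut K) (hα : α z = z) {r : K} (hr : r ∈ R) : α r ∈ R := by
  have hα' : α⁻¹ z = z := by
    have h1 : α⁻¹ (α z) = z := MulAut.inv_apply_self K α z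
    rwa [hα] at h1
  have h1 : R.map α.toMonoidHom ≤ R := by
    apply sh.core
    · rintro _ ⟨r, hr, rfl⟩
      rw [mem_centralizer_singleton_iff]
      have h2 : α (r * z) = α (z * r) := by rw [sh.basic.cen r (sh.RP hr)]
      rw [map_mul, map_mul, hα] at h2
      exact h2
    · exact (R2 sh).map _
    · rintro x hx _ ⟨r, hr, rfl⟩
      have hx' : α⁻¹ x ∈ P := map_P sh.perf sh.basic.cen sh.der α⁻¹ hα' hx
      refine ⟨α⁻¹ x * r * (α⁻¹ x)⁻¹, sh.Rn _ hx' r hr, ?_⟩
      show α (α⁻¹ x * r * (α⁻¹ x)⁻¹) = x * α r * x⁻¹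
      rw [map_mul, map_mul, map_inv, MulAut.apply_inv_self]
  exact h1 ⟨r, hr, rfl⟩

theorem pow_triv (sh : SheetHS z u k P R) (α : MulAut K) (hα : α z = z) (hP : ∀ x ∈ P, x⁻¹ * α x ∈ R) (n : ℕ) :
    (α ^ n) z = z ∧ ∀ x ∈ P, x⁻¹ * (α ^ n) x ∈ R := by
  induction n with
  | zero =>
    rw [pow_zero]
    refine ⟨rfl, fun x _ => ?_⟩
    rw [MulAut.one_apply, inv_mul_cancel]
    exact R.one_mem
  | succ n ih =>
    rw [pow_succ']
    refine ⟨by rw [MulAut.mul_apply, ih.1, hα], fun x hx => ?_⟩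
    have h1 := map_R sh α hα (ih.2 x hx)
    rw [map_mul, map_inv] at h1
    have e : x⁻¹ * (α * α ^ n) x = (x⁻¹ * α x) * ((α x)⁻¹ * α ((α ^ n) x)) := by
      rw [MulAut.mul_apply]; group
    rw [e]
    exact R.mul_mem (hP x hx) h1

/-- automorphisms of odd order trivial on `P/R` -/
theorem aut_odd [Finite K] (sh : SheetHS z u k P R) (m : SheetHSM z u k P R) (α : MulAut K)
    (ho : Odd (orderOf α)) (hα : α z = z) (hP : ∀ x ∈ P, x⁻¹ * α x ∈ R) : α = 1 := by
  obtain ⟨n, hn⟩ := m.two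
  have hnorm : ((MulAut.conj : K →* MulAut K).range).Normal := by
    constructor
    rintro _ ⟨k, rfl⟩ φ
    refine ⟨φ k, ?_⟩
    apply MulEquiv.ext
    intro x
    rw [MulAut.mul_apply, MulAut.mul_apply, MulAut.conj_apply, MulAut.conj_apply, map_mul, map_mul, map_inv,
      MulAut.apply_inv_self]
  have h1 : α ^ (2 ^ n) ∈ (MulAut.conj : K →* MulAut K).range := by
    rw [← hn]; exact pow_index_mem _ _
  have hcop : ∀ k : ℕ, (orderOf α).Coprime (2 ^ k) := fun k =>
    Nat.Coprime.pow_right k ((Nat.coprime_two_right).2 ho)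
  obtain ⟨j, hj⟩ := exists_pow_eq_self_of_coprime (hcop n).symm
  have h2 : α ∈ (MulAut.conj : K →* MulAut K).range := by
    rw [← hj]; exact pow_mem h1 j
  obtain ⟨c, rfl⟩ := h2
  have hcz : c * z = z * c := by
    rw [MulAut.conj_apply, mul_inv_eq_iff_eq_mul] at hα
    exact hα
  have hcR : c ∈ R := sh.y4 c hcz (fun y hy => hP y hy)
  obtain ⟨l, hl⟩ := R2 sh ⟨c, hcR⟩
  have h5 : c ^ (2 ^ l) = 1 := congrArg Subtype.val hl
  have h6 : (MulAut.conj c) ^ (2 ^ l) = 1 := by rw [← map_pow, h5, map_one]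
  have h7 := orderOf_dvd_of_pow_eq_one h6
  exact orderOf_eq_one_iff.1 (Nat.eq_one_of_dvd_coprimes (hcop l) dvd_rfl h7)

/-- automorphisms trivial on `P/R` -/
theorem aut' [Finite K] (sh : SheetHS z u k P R) (m : SheetHSM z u k P R) (α : MulAut K)
    (hα : α z = z) (hP : ∀ x ∈ P, x⁻¹ * α x ∈ R) : (∃ r ∈ R, α = MulAut.conj r) ∨ α u = u⁻¹ := by
  have : Finite (MulAut K) := Finite.of_injective (fun φ : MulAut K => (φ : K → K)) DFunLike.coe_injective
  obtain ⟨i, l, hl, hil⟩ := Nat.exists_eq_two_pow_mul_odd (orderOf_pos α).ne'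
  have h1 : α ^ (2 ^ i) = 1 := by
    obtain ⟨h2, h3⟩ := pow_triv sh α hα hP (2 ^ i)
    apply aut_odd sh m _ ?_ h2 h3
    rw [orderOf_pow, hil, Nat.gcd_mul_right_left, Nat.mul_div_cancel_left _ (pow_pos two_pos i)]
    exact hl
  apply sh.aut α ?_ hα hP
  have : Fact (Nat.Prime 2) := ⟨Nat.prime_two⟩
  obtain ⟨j, -, hj⟩ := (Nat.dvd_prime_pow Nat.prime_two).1 (orderOf_dvd_of_pow_eq_one h1)
  exact IsPGroup.of_card (by rw [Nat.card_zpowers, hj])

theorem Rna (sh : SheetHS z u k P R) : ∃ a ∈ R, ∃ b ∈ R, a * b ≠ b * a := by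
  by_contra hcon
  push Not at hcon
  have h1 : (R : Set K) ⊆ ({1, z, u, u⁻¹} : Set K) := by
    intro x hx
    have := sh.cR x (sh.RP hx) (fun r hr => hcon x hx r hr)
    simpa using this
  have h2 : Nat.card R ≤ ({1, z, u, u⁻¹} : Set K).ncard := by
    rw [show Nat.card R = (R : Set K).ncard from Nat.card_coe_set_eq _]
    exact Set.ncard_le_ncard h1 (Set.toFinite _)
  have h3 : ({1, z, u, u⁻¹} : Set K).ncard ≤ 4 := by
    classical
    have e : ({1, z, u, u⁻¹} : Set K) = ↑({1, z, u, u⁻¹} : Finset K) := by simp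
    rw [e, Set.ncard_coe_finset]
    exact Finset.card_le_four
  rw [sh.cardR] at h2
  omega

/-- a normal supplement of a 2-group in a perfect group -/
theorem le_of_sup [Finite K] {P B R : Subgroup K} (hp : ⁅P, P⁆ = P) (hB : B ≤ P) (hRP : R ≤ P)
    (hR2 : IsPGroup 2 R) (hBn : ∀ p ∈ P, ∀ b ∈ B, p * b * p⁻¹ ∈ B) (h1 : B ⊔ R = P) : P ≤ B := by
  have hnorm : (B.subgroupOf P).Normal := ⟨fun n hn g => hBn g g.2 n hn⟩
  have hsup : B.subgroupOf P ⊔ R.subgroupOf P = ⊤ := by
    apply map_injective P.subtype_injective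
    rw [Subgroup.map_sup, subgroupOf_map_subtype, subgroupOf_map_subtype, inf_of_le_left hB,
      inf_of_le_left hRP, h1, ← MonoidHom.range_eq_map, range_subtype]
  have hperf : commutator P = ⊤ := by
    rw [_root_.commutator_def]
    apply map_injective P.subtype_injective
    rw [map_commutator, ← MonoidHom.range_eq_map, range_subtype, hp]
  have : Fact (Nat.Prime 2) := ⟨Nat.prime_two⟩
  let π := QuotientGroup.mk' (B.subgroupOf P)
  have hsurj : (R.subgroupOf P).map π = ⊤ := by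
    have h3 := congrArg (Subgroup.map π) hsup
    rw [Subgroup.map_sup, (QuotientGroup.map_mk'_self (B.subgroupOf P)), bot_sup_eq,
      ← MonoidHom.range_eq_map, MonoidHom.range_eq_top.2 (QuotientGroup.mk'_surjective _)] at h3
    exact h3
  have hR2' : IsPGroup 2 (R.subgroupOf P) := hR2.comap_subtype
  have h2g : IsPGroup 2 ((R.subgroupOf P).map π) := hR2'.map π
  rw [hsurj] at h2g
  have hperf' : ⁅(⊤ : Subgroup (P ⧸ B.subgroupOf P)), (⊤ : Subgroup (P ⧸ B.subgroupOf P))⁆ =
      (⊤ : Subgroup (P ⧸ B.subgroupOf P)) := by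
    have h4 := congrArg (Subgroup.map π) hperf
    rw [_root_.commutator_def, map_commutator, ← MonoidHom.range_eq_map,
      MonoidHom.range_eq_top.2 (QuotientGroup.mk'_surjective _)] at h4
    exact h4
  have h5 := CaseM.eq_bot_of_perfect_two hperf' h2g
  intro x hx
  have h6 : π ⟨x, hx⟩ ∈ (⊤ : Subgroup (P ⧸ B.subgroupOf P)) := mem_top _
  rw [h5, mem_bot] at h6
  have h7 : (⟨x, hx⟩ : P) ∈ B.subgroupOf P := (QuotientGroup.eq_one_iff (N := B.subgroupOf P) _).1 h6
  exact mem_subgroupOf.1 h7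

/-- normal subgroups of `P` -/
theorem nrm [Finite K] (sh : SheetHS z u k P R) (m : SheetHSM z u k P R) {B : Subgroup K} (hB : B ≤ P)
    (hBn : ∀ p ∈ P, ∀ b ∈ B, p * b * p⁻¹ ∈ B) : B = P ∨ B ≤ R := by
  rcases m.max (B ⊔ R) le_sup_right (sup_le hB sh.RP) (by
    intro g hg n hn
    have h1 : (B ⊔ R).map (MulAut.conj g).toMonoidHom ≤ B ⊔ R := by
      rw [Subgroup.map_sup]
      apply sup_le_sup
      · rintro _ ⟨x, hx, rfl⟩
        exact hBn g hg x hx
      · rintro _ ⟨x, hx, rfl⟩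
        exact sh.Rn g hg x hx
    exact h1 ⟨n, hn, rfl⟩) with h1 | h1
  · right
    rw [← h1]
    exact le_sup_left
  · left
    exact le_antisymm hB (le_of_sup sh.perf hB sh.RP (R2 sh) hBn h1)

end KLevel

universe u

variable {G : Type u} [Group G] {K : Subgroup G} {t q : G} {z v k : K} {P R : Subgroup K}

/-- back from `X = C_G(z)` to `K` -/
def frX (z : K) (B : Subgroup ↥(centralizer ({(z : G)} : Set G))) : Subgroup K :=
  (B.map (centralizer ({(z : G)} : Set G)).subtype).subgroupOf K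

theorem mem_frX {B : Subgroup ↥(centralizer ({(z : G)} : Set G))} {x : K} :
    x ∈ frX z B ↔ ∃ y ∈ B, (y : G) = x := by
  unfold frX
  rw [mem_subgroupOf]
  exact Iff.rfl

theorem toX_frX {B : Subgroup ↥(centralizer ({(z : G)} : Set G))} {P : Subgroup K} (hB : B ≤ toX z P) :
    toX z (frX z B) = B := by
  ext x
  rw [mem_toX, Emb.mem_map]
  constructor
  · rintro ⟨h1, h2⟩
    obtain ⟨y, hy, hyx⟩ := mem_frX.1 h2
    have : y = x := Subtype.ext hyx
    rwa [← this]
  · intro hx
    obtain ⟨h1, -⟩ := Emb.mem_map.1 (mem_toX.1 (hB hx))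
    exact ⟨h1, mem_frX.2 ⟨x, hx, rfl⟩⟩

theorem frX_le {B : Subgroup ↥(centralizer ({(z : G)} : Set G))} {P : Subgroup K} (hB : B ≤ toX z P) :
    frX z B ≤ P := by
  intro x hx
  obtain ⟨y, hy, hyx⟩ := mem_frX.1 hx
  obtain ⟨h1, h2⟩ := Emb.mem_map.1 (mem_toX.1 (hB hy))
  have : x = ⟨y, h1⟩ := Subtype.ext hyx.symm
  rwa [this]

theorem res' [Finite G] (h : Emb K t q z P)
    {S : Subgroup ↥(centralizer ({(z : G)} : Set G))} (hSt : ∀ x ∈ S, (x : G) * t = t * x)
    (hp : ⁅S, S⁆ = S) : S ≤ toX z P := by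
  obtain ⟨n, hn⟩ := h.dser_eq
  have h1 : S.map (centralizer ({(z : G)} : Set G)).subtype ≤ centralizer ({t} : Set G) ⊓ centralizer ({(z : G)} : Set G) := by
    rintro _ ⟨x, hx, rfl⟩
    exact ⟨mem_centralizer_singleton_iff.2 (hSt x hx), x.2⟩
  have h2 := TR.dser_mono n h1
  have hp' : ⁅S.map (centralizer ({(z : G)} : Set G)).subtype, S.map (centralizer ({(z : G)} : Set G)).subtype⁆ =
      S.map (centralizer ({(z : G)} : Set G)).subtype := by rw [← map_commutator, hp]
  rw [TR.dser_of_perfect n hp', hn] at h2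
  intro x hx
  exact h2 ⟨x, hx, rfl⟩

/-- elements of `C(t) ∩ C(z)` trivial on `P/R` -/
theorem out_of [Finite G] (o : Out K t q z P) (sh : SheetHS z v k P R) (m : SheetHSM z v k P R) {n : G}
    (hnt : n * t = t * n) (hnz : n * z = z * n)
    (hc : ∀ p ∈ P.map K.subtype, n * p * n⁻¹ * p⁻¹ ∈ R.map K.subtype) :
    n ∈ R.map K.subtype ∨ t * n ∈ R.map K.subtype ∨ n * v * n⁻¹ = (v : G)⁻¹ := by
  have h := o.emb
  have hαz : Glue.al h hnt z = z := by
    apply Subtype.ext
    rw [Glue.al_apply, hnz]; group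
  rcases aut' sh m (Glue.al h hnt) hαz (by
    intro x hx
    obtain ⟨r, hr, e⟩ := hc x ⟨x, hx, rfl⟩
    have e1 : x⁻¹ * Glue.al h hnt x = x⁻¹ * r * x⁻¹⁻¹ := by
      apply Subtype.ext
      show (x : G)⁻¹ * ((Glue.al h hnt x : K) : G) = (x : G)⁻¹ * (r : G) * (x : G)⁻¹⁻¹
      have e' : (r : G) = n * (x : G) * n⁻¹ * (x : G)⁻¹ := e
      rw [Glue.al_apply, e']; group
    rw [e1]
    exact sh.Rn _ (P.inv_mem hx) r hr) with ⟨r, hr, e⟩ | e
  · rcases Glue.exists_inner h o.Q2 hnt e with e1 | e1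
    · left
      rw [e1]; exact ⟨r, hr, rfl⟩
    · right; left
      have h2 : (r : G) * t = t * r := h.st.Kt r r.2
      have h3 : t * n = r := by rw [e1, h2, ← mul_assoc, h.st.tt, one_mul]
      rw [h3]; exact ⟨r, hr, rfl⟩
  · right; right
    have e1 := congrArg Subtype.val e
    rw [Glue.al_apply] at e1
    exact e1

theorem mem_zpowers_of (sh : SheetHS z v k P R) {x : G}
    (hx : x = 1 ∨ x = z ∨ x = v ∨ x = (v : G)⁻¹) : x ∈ zpowers (v : G) := by
  have huu : (v : G) * v = z := congrArg Subtype.val sh.uu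
  rcases hx with e | e | e | e <;> rw [e]
  · exact one_mem _
  · rw [← huu]; exact mul_mem (mem_zpowers _) (mem_zpowers _)
  · exact mem_zpowers _
  · exact inv_mem (mem_zpowers _)

/-- elements of `C(t) ∩ C(z)` centralising `R` -/
theorem cR_of [Finite G] (o : Out K t q z P) (sh : SheetHS z v k P R) (m : SheetHSM z v k P R) {x : G}
    (hxt : x * t = t * x) (hxz : x * z = z * x) (hxR : ∀ r ∈ R.map K.subtype, x * r = r * x) :
    x ∈ zpowers (v : G) ∨ t * x ∈ zpowers (v : G) := by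
  have h := o.emb
  have huG : ∀ r ∈ R, (∀ s ∈ R, r * s = s * r) → (r : G) ∈ zpowers (v : G) := by
    intro r hr hrs
    apply mem_zpowers_of sh
    rcases sh.cR r (sh.RP hr) hrs with e | e | e | e
    · exact Or.inl (congrArg Subtype.val e)
    · exact Or.inr (Or.inl (congrArg Subtype.val e))
    · exact Or.inr (Or.inr (Or.inl (congrArg Subtype.val e)))
    · exact Or.inr (Or.inr (Or.inr (congrArg Subtype.val e)))
  rcases out_of o sh m hxt hxz (by
    rintro _ ⟨p, hp, rfl⟩
    obtain ⟨p', hp', hpp⟩ := h.conj_P hxt hxz (x := (p : G)) ⟨p, hp, rfl⟩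
    have hpp' : (p' : G) = x * p * x⁻¹ := hpp
    -- `p' p⁻¹` centralises `R`
    have h1 : ∀ s ∈ R, (p' * p⁻¹) * s = s * (p' * p⁻¹) := by
      intro s hs
      apply Subtype.ext
      change (p' : G) * (p : G)⁻¹ * s = s * ((p' : G) * (p : G)⁻¹)
      have h3 : x * ((p : G)⁻¹ * s * p) = ((p : G)⁻¹ * s * p) * x := by
        have h2 := hxR _ ⟨p⁻¹ * s * p⁻¹⁻¹, sh.Rn _ (P.inv_mem hp) s hs, rfl⟩
        rw [inv_inv] at h2
        exact h2
      have h4 : x * (s : G) = s * x := hxR _ ⟨s, hs, rfl⟩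
      have h5 : (x : G)⁻¹ * s * x = s := by
        rw [mul_assoc, ← h4]; group
      rw [hpp']
      calc x * p * x⁻¹ * (p : G)⁻¹ * s = x * p * x⁻¹ * ((p : G)⁻¹ * s * p) * (p : G)⁻¹ := by group
        _ = x * p * x⁻¹ * (x * ((p : G)⁻¹ * s * p) * x⁻¹) * (p : G)⁻¹ := by rw [h3]; group
        _ = x * s * p * x⁻¹ * (p : G)⁻¹ := by group
        _ = s * x * p * x⁻¹ * (p : G)⁻¹ := by rw [h4]
        _ = s * (x * p * x⁻¹ * (p : G)⁻¹) := by group
    have h2 : p' * p⁻¹ ∈ R := by
      rcases sh.cR _ (P.mul_mem hp' (P.inv_mem hp)) h1 with e | e | e | e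
      · rw [e]; exact R.one_mem
      · rw [e, ← sh.uu]; exact R.mul_mem sh.uR sh.uR
      · rw [e]; exact sh.uR
      · rw [e]; exact R.inv_mem sh.uR
    refine ⟨p' * p⁻¹, h2, ?_⟩
    change (p' : G) * (p : G)⁻¹ = x * (p : G) * x⁻¹ * (p : G)⁻¹
    rw [hpp']) with ⟨r, hr, e⟩ | ⟨r, hr, e⟩ | e
  · left
    have e' : (r : G) = x := e
    rw [← e']
    apply huG r hr
    intro s hs
    apply Subtype.ext
    change (r : G) * s = s * r
    rw [e']
    exact hxR _ ⟨s, hs, rfl⟩
  · right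
    have e' : (r : G) = t * x := e
    rw [← e']
    apply huG r hr
    intro s hs
    apply Subtype.ext
    change (r : G) * s = s * r
    rw [e']
    have c1 : Commute (s : G) t := h.st.Kt s s.2
    have c2 : Commute (s : G) x := (hxR _ ⟨s, hs, rfl⟩ : x * (s : G) = s * x).symm
    exact (c1.mul_right c2).symm.eq
  · exfalso
    have h1 : x * (v : G) = v * x := hxR _ ⟨v, sh.uR, rfl⟩
    rw [h1, mul_inv_cancel_right] at e
    exact Glue.u_ne_inv sh (Subtype.ext e)

/-- the hypotheses of `CompM.Hyp` -/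
theorem hyp [Finite G] (o : Out K t q z P) (sh : SheetHS z v k P R) (m : SheetHSM z v k P R)
    (hvz : (v : G) * z = z * v) :
    CompM.Hyp (X := ↥(centralizer ({(z : G)} : Set G)))
      ⟨z, mem_centralizer_singleton_iff.2 rfl⟩ ⟨t, mem_centralizer_singleton_iff.2 o.emb.comm⟩
      ⟨v, mem_centralizer_singleton_iff.2 hvz⟩ (toX z R) (toX z P) := by
  have h := o.emb
  have : Fact (Nat.Prime 2) := ⟨Nat.prime_two⟩
  set H : Subgroup G := centralizer ({(z : G)} : Set G) with hH
  have hmemH : ∀ x, x ∈ H ↔ x * z = z * x := fun x => mem_centralizer_singleton_iff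
  have hPz : ∀ x ∈ P, x * z = z * x := sh.basic.cen
  have hRz : ∀ x ∈ R, x * z = z * x := fun x hx => hPz x (sh.RP hx)
  have hPt : ∀ x ∈ P.map K.subtype, x * t = t * x := by
    rintro _ ⟨x, -, rfl⟩
    exact h.st.Kt x x.2
  have hinj : Function.Injective (Subgroup.map H.subtype) := map_injective H.subtype_injective
  have hmP : (toX z P).map H.subtype = P.map K.subtype := map_toX hPz
  have hmR : (toX z R).map H.subtype = R.map K.subtype := map_toX hRz
  set t' : H := ⟨t, mem_centralizer_singleton_iff.2 o.emb.comm⟩ with ht'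
  set z' : H := ⟨z, mem_centralizer_singleton_iff.2 rfl⟩ with hz'
  set u' : H := ⟨v, mem_centralizer_singleton_iff.2 hvz⟩ with hu'
  have hzc : ∀ x : H, x * z' = z' * x := fun x => Subtype.ext ((hmemH x).1 x.2)
  have hct : ∀ x : H, x * t' = t' * x ↔ (x : G) * t = t * x := fun x =>
    ⟨fun e => congrArg Subtype.val e, fun e => Subtype.ext e⟩
  have hzp : ∀ x : H, (x : G) ∈ zpowers (v : G) → x ∈ zpowers u' := by
    intro x hx
    obtain ⟨i, hi⟩ := mem_zpowers_iff.1 hx
    refine mem_zpowers_iff.2 ⟨i, Subtype.ext ?_⟩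
    rw [SubgroupClass.coe_zpow]
    exact hi
  have hzp' : ∀ x : H, x ∈ zpowers u' → (x : G) ∈ K := by
    intro x hx
    obtain ⟨i, hi⟩ := mem_zpowers_iff.1 hx
    rw [← hi, SubgroupClass.coe_zpow]
    exact K.zpow_mem v.2 i
  have hRP' : toX z R ≤ toX z P := fun x hx => (map_mono sh.RP) hx
  have hPperf : ⁅toX z P, toX z P⁆ = toX z P := by
    apply hinj
    rw [map_commutator, hmP, ← map_commutator, sh.perf]
  -- conjugation
  have hconj : ∀ B : Subgroup H, (∀ p ∈ toX z P, ∀ b ∈ B, p * b * p⁻¹ ∈ B) →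
      ∀ p ∈ P, ∀ b ∈ frX z B, p * b * p⁻¹ ∈ frX z B := by
    intro B hB p hp b hb
    obtain ⟨y, hy, hyb⟩ := mem_frX.1 hb
    have hpH : (p : G) ∈ H := map_le_cent hPz ⟨p, hp, rfl⟩
    refine mem_frX.2 ⟨⟨p, hpH⟩ * y * ⟨p, hpH⟩⁻¹, hB ⟨p, hpH⟩ ⟨p, hp, rfl⟩ y hy, ?_⟩
    change (p : G) * y * (p : G)⁻¹ = p * b * (p : G)⁻¹
    rw [hyb]
  exact
    { zc := hzc
      zz := Subtype.ext h.zz
      z1 := fun e => h.z1 (congrArg Subtype.val e)
      tt := Subtype.ext h.st.tt
      t1 := fun e => h.st.t1 (congrArg Subtype.val e)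
      tu := fun e => h.tK (hzp' t' e)
      uu := Subtype.ext (show (v : G) * v = z from congrArg Subtype.val sh.uu)
      uR := ⟨v, sh.uR, rfl⟩
      uP := by
        rintro x ⟨p, hp, hpx⟩
        apply Subtype.ext
        have h1 : (p : G) * v = v * p := congrArg Subtype.val ((sh.memP p).1 hp)
        have h2 : (p : G) = x := hpx
        change (x : G) * v = v * x
        rw [← h2]; exact h1
      RP := hRP'
      Pt := fun x hx => Subtype.ext (hPt x hx)
      Pperf := hPperf
      Pn := fun x hx p hp => h.conj_P ((hct x).1 hx) ((hmemH x).1 x.2) hp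
      Rn := by
        rintro x hx r ⟨r', hr', hr⟩
        have hxt := (hct x).1 hx
        refine ⟨Glue.al h hxt r', ?_, ?_⟩
        · apply map_R sh _ ?_ hr'
          apply Subtype.ext
          rw [Glue.al_apply, (hmemH x).1 x.2]; group
        · change ((Glue.al h hxt r' : K) : G) = x * r * (x : G)⁻¹
          have h2 : (r' : G) = r := hr
          rw [Glue.al_apply, h2]
      R2 := by
        have h1 : IsPGroup 2 (R.map K.subtype) := (R2 sh).map _
        exact h1.comap_of_injective H.subtype H.subtype_injective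
      Rna := by
        obtain ⟨a, ha, b, hb, hab⟩ := Rna sh
        have haH : (a : G) ∈ H := map_le_cent hRz ⟨a, ha, rfl⟩
        have hbH : (b : G) ∈ H := map_le_cent hRz ⟨b, hb, rfl⟩
        refine ⟨⟨a, haH⟩, ⟨a, ha, rfl⟩, ⟨b, hbH⟩, ⟨b, hb, rfl⟩, fun e => hab (Subtype.ext ?_)⟩
        have e' : (⟨(a : G), haH⟩ : H) * ⟨(b : G), hbH⟩ = ⟨(b : G), hbH⟩ * ⟨(a : G), haH⟩ := e
        exact (congrArg (fun y : H => (y : G)) e' : (a : G) * b = b * a)
      cR := by
        intro x hx hxR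
        rcases cR_of o sh m ((hct x).1 hx) ((hmemH x).1 x.2) (by
          intro r hr
          have hrH : r ∈ H := map_le_cent hRz hr
          exact congrArg Subtype.val (hxR ⟨r, hrH⟩ hr)) with e | e
        · exact Or.inl (hzp x e)
        · exact Or.inr (hzp (t' * x) e)
      res := by
        intro S hSt hp
        exact res' h (fun x hx => (hct x).1 (mem_centralizer_singleton_iff.1 (hSt hx))) hp
      nrm := by
        intro B hB hBn
        rcases nrm sh m (frX_le hB) (hconj B hBn) with e | e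
        · left
          rw [← toX_frX hB, e]
        · right
          rw [← toX_frX hB]
          exact fun x hx => (map_mono e) hx
      abR := by
        intro B hB hBn hab b hb
        rcases sh.subs _ (frX_le hB) (hconj B hBn) with e | e
        · apply hzp
          apply mem_zpowers_of sh
          obtain ⟨h1, h2⟩ := Emb.mem_map.1 (mem_toX.1 (hB hb))
          rcases e ⟨b, h1⟩ (mem_frX.2 ⟨b, hb, rfl⟩) with e | e | e | e
          · exact Or.inl (congrArg Subtype.val e)
          · exact Or.inr (Or.inl (congrArg Subtype.val e))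
          · exact Or.inr (Or.inr (Or.inl (congrArg Subtype.val e)))
          · exact Or.inr (Or.inr (Or.inr (congrArg Subtype.val e)))
        · exfalso
          obtain ⟨c, hc, d, hd, hcd⟩ := Rna sh
          rw [← e] at hc hd
          obtain ⟨c', hc', e1⟩ := mem_frX.1 hc
          obtain ⟨d', hd', e2⟩ := mem_frX.1 hd
          apply hcd
          apply Subtype.ext
          change (c : G) * d = d * c
          rw [← e1, ← e2]
          exact congrArg Subtype.val (hab c' hc' d' hd')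
      out := by
        intro x hx hxP
        rcases out_of o sh m ((hct x).1 hx) ((hmemH x).1 x.2) (by
          intro p hp
          have hpH : p ∈ H := map_le_cent hPz hp
          exact hxP ⟨p, hpH⟩ hp) with e | e | e
        · exact Or.inl e
        · exact Or.inr (Or.inl e)
        · exact Or.inr (Or.inr (Subtype.ext e))
      cardR := by
        have h1 : Nat.card (toX z R) = Nat.card R := by
          have h2 : Nat.card ((toX z R).map H.subtype) = Nat.card (toX z R) :=
            (Nat.card_congr ((toX z R).equivMapOfInjective _ H.subtype_injective).toEquiv).symm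
          rw [← h2, hmR]
          exact (Nat.card_congr (R.equivMapOfInjective _ K.subtype_injective).toEquiv).symm
        rw [h1, sh.cardR]
      idx := by
        intro B hB hBi
        apply le_antisymm hB
        have hperf' : ⁅(⊤ : Subgroup (toX z P)), (⊤ : Subgroup (toX z P))⁆ = (⊤ : Subgroup (toX z P)) := by
          apply map_injective (toX z P).subtype_injective
          rw [map_commutator, ← MonoidHom.range_eq_map, range_subtype, hPperf]
        have h1 := Cfsg.Agent.Schreier.ClassBase.le_of_index_le_four hperf' (B.subgroupOf (toX z P))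
          FiniteIndex.index_ne_zero (by
            have : B.relIndex (toX z P) = (B.subgroupOf (toX z P)).index := rfl
            omega)
        intro x hx
        exact mem_subgroupOf.1 (h1 (mem_top (⟨x, hx⟩ : toX z P))) }

end Cfsg.Agent.OddHalf.D8.HS.GlueM
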