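import Mathlib

/-!
# Normal 2-subgroups of `C(z)` containing `u⁻¹ t`

`z = u²`, `t` is an involution commuting with `u`, `V` is a 2-subgroup normalised by `C(z)` which centralises `P`, and
`c = u⁻¹ t ∈ V`, `C_V(t) ≤ ⟨c⟩`. If `j` commutes with `t`, and `u`, `u^j` commute and have different squares and
`u^j`, `u^(j⁻¹) ∈ P`, then `V` centralises `t`, so `V = ⟨c⟩`: `V`, `V^j` centralise `z^j`, `z`, so they normalise each
other; the intersection is trivial (`t` fixes no involution in it), so they commute; `V^j` centralises `c` and `u`,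
hence `t`.
-/

set_option autoImplicit false

namespace Cfsg.Agent.OddHalf.D8.HS.NoQuat

open Subgroup

variable {G : Type*} [Group G]

/-- an involution normalising a nontrivial 2-group centralises an element of it -/
theorem exists_fixed [Finite G] {t : G} (tt : t * t = 1) {D : Subgroup G} (D2 : IsPGroup 2 D) (hD : D ≠ ⊥)
    (nD : ∀ x ∈ D, t * x * t⁻¹ ∈ D) : ∃ d ∈ D, d ≠ 1 ∧ d * t = t * d := by
  classical
  have : Fact (Nat.Prime 2) := ⟨Nat.prime_two⟩
  have : Fintype D := Fintype.ofFinite D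
  have ti : t⁻¹ = t := inv_eq_of_mul_eq_one_left tt
  let f : D → D := fun x => ⟨t * x * t⁻¹, nD x x.2⟩
  have hf : Function.Involutive f := by
    intro x
    apply Subtype.ext
    show t * (t * x * t⁻¹) * t⁻¹ = x
    rw [ti]
    calc t * (t * (x : G) * t) * t = (t * t) * x * (t * t) := by group
      _ = x := by rw [tt, one_mul, mul_one]
  let g : Function.End D := f
  have hg : g ^ 2 ^ 1 = 1 := by
    funext x
    exact hf x
  have h1 : Fintype.card D ≡ Fintype.card (Function.fixedPoints g) [MOD 2] :=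
    Equiv.Perm.card_fixedPoints_modEq hg
  have h2 : 2 ∣ Fintype.card D := by
    obtain ⟨n, hn⟩ := IsPGroup.iff_card.1 D2
    rw [← Nat.card_eq_fintype_card, hn]
    rcases n with _ | n
    · exfalso
      apply hD
      rw [pow_zero] at hn
      exact (Subgroup.card_eq_one).1 hn
    · exact dvd_pow_self 2 (Nat.succ_ne_zero n)
  have h3 : 2 ∣ Fintype.card (Function.fixedPoints g) := (Nat.modEq_zero_iff_dvd.1
    (h1.symm.trans (Nat.modEq_zero_iff_dvd.2 h2)))
  have hone : (1 : D) ∈ Function.fixedPoints g := by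
    apply Subtype.ext
    show t * ((1 : D) : G) * t⁻¹ = ((1 : D) : G)
    rw [Subgroup.coe_one, mul_one, mul_inv_cancel]
  have h4 : 1 < Fintype.card (Function.fixedPoints g) := by
    have : 0 < Fintype.card (Function.fixedPoints g) := Fintype.card_pos_iff.2 ⟨⟨1, hone⟩⟩
    omega
  obtain ⟨d, hd⟩ := Fintype.exists_ne_of_one_lt_card h4 ⟨1, hone⟩
  refine ⟨d.1, d.1.2, ?_, ?_⟩
  · intro e
    exact hd (Subtype.ext (Subtype.ext e))
  · have h5 : t * (d.1 : G) * t⁻¹ = d.1 := congrArg Subtype.val d.2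
    rw [mul_inv_eq_iff_eq_mul] at h5
    exact h5.symm

/-- **`V` centralises `t`** -/
theorem comm_t [Finite G] {t z u j : G} {V P : Subgroup G} (tt : t * t = 1) (uu : u * u = z) (zz : z * z = 1)
    (z1 : z ≠ 1) (ut : u * t = t * u) (jt : j * t = t * j) (hz : j * z * j⁻¹ ≠ z)
    (uP : j * u * j⁻¹ ∈ P) (uP' : j⁻¹ * u * j ∈ P)
    (nV : ∀ g, g * z = z * g → ∀ x ∈ V, g * x * g⁻¹ ∈ V) (V2 : IsPGroup 2 V)
    (VP : ∀ p ∈ P, ∀ x ∈ V, x * p = p * x) (cV : u⁻¹ * t ∈ V)
    (hC : ∀ x ∈ V, x * t = t * x → x = 1 ∨ x = z ∨ x * x = z) : ∀ x ∈ V, x * t = t * x := by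
  have ti : t⁻¹ = t := inv_eq_of_mul_eq_one_left tt
  have zt : z * t = t * z := by
    rw [← uu]
    have : Commute u t := ut
    exact (this.mul_left this).eq
  -- `z^j`, `z^(j⁻¹)` are in `P`
  have e1 : j * z * j⁻¹ = (j * u * j⁻¹) * (j * u * j⁻¹) := by rw [← uu]; group
  have e2 : j⁻¹ * z * j = (j⁻¹ * u * j) * (j⁻¹ * u * j) := by rw [← uu]; group
  have zP : j * z * j⁻¹ ∈ P := by rw [e1]; exact P.mul_mem uP uP
  have zP' : j⁻¹ * z * j ∈ P := by rw [e2]; exact P.mul_mem uP' uP'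
  -- (A), (B)
  have hA : ∀ x ∈ V, (j⁻¹ * x * j) * z = z * (j⁻¹ * x * j) := by
    intro x hx
    have h1 := VP _ zP x hx
    calc j⁻¹ * x * j * z = j⁻¹ * (x * (j * z * j⁻¹)) * j := by group
      _ = j⁻¹ * (j * z * j⁻¹ * x) * j := by rw [h1]
      _ = z * (j⁻¹ * x * j) := by group
  have hB : ∀ x ∈ V, (j * x * j⁻¹) * z = z * (j * x * j⁻¹) := by
    intro x hx
    have h1 := VP _ zP' x hx
    calc j * x * j⁻¹ * z = j * (x * (j⁻¹ * z * j)) * j⁻¹ := by group
      _ = j * (j⁻¹ * z * j * x) * j⁻¹ := by rw [h1]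
      _ = z * (j * x * j⁻¹) := by group
  have hBu : ∀ x ∈ V, (j * x * j⁻¹) * u = u * (j * x * j⁻¹) := by
    intro x hx
    have h1 := VP _ uP' x hx
    calc j * x * j⁻¹ * u = j * (x * (j⁻¹ * u * j)) * j⁻¹ := by group
      _ = j * (j⁻¹ * u * j * x) * j⁻¹ := by rw [h1]
      _ = u * (j * x * j⁻¹) := by group
  set V' : Subgroup G := V.map (MulAut.conj j).toMonoidHom with hV'
  have mV' : ∀ y, y ∈ V' ↔ j⁻¹ * y * j ∈ V := by
    intro y
    constructor
    · rintro ⟨x, hx, rfl⟩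
      have : j⁻¹ * (j * x * j⁻¹) * j = x := by group
      change j⁻¹ * (j * x * j⁻¹) * j ∈ V
      rwa [this]
    · intro hy
      refine ⟨_, hy, ?_⟩
      change j * (j⁻¹ * y * j) * j⁻¹ = y
      group
  -- the intersection
  have hD : V ⊓ V' = ⊥ := by
    by_contra hne
    obtain ⟨d, ⟨hdV, hdV'⟩, hd1, hdt⟩ := exists_fixed (D := V ⊓ V') tt (V2.to_le inf_le_left) hne (by
      rintro x ⟨hx, hx'⟩
      refine ⟨nV t zt.symm x hx, (mV' _).2 ?_⟩
      have h1 := nV t zt.symm _ ((mV' _).1 hx')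
      have h2 : t * (j⁻¹ * x * j) * t⁻¹ = j⁻¹ * (t * x * t⁻¹) * j := by
        have c1 : Commute j t := jt
        have h3 : t * j⁻¹ = j⁻¹ * t := c1.inv_left.eq.symm
        have h4 : j * t⁻¹ = t⁻¹ * j := c1.inv_right.eq
        calc t * (j⁻¹ * x * j) * t⁻¹ = (t * j⁻¹) * x * (j * t⁻¹) := by group
          _ = (j⁻¹ * t) * x * (t⁻¹ * j) := by rw [h3, h4]
          _ = j⁻¹ * (t * x * t⁻¹) * j := by group
      rwa [h2] at h1)
    have h1 := hC d hdV hdt
    replace hdV' := (mV' _).1 hdV'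
    have hdt' : (j⁻¹ * d * j) * t = t * (j⁻¹ * d * j) := by
      have c1 : Commute j t := jt
      have c2 : Commute d t := hdt
      exact ((c1.inv_left.mul_left c2).mul_left c1).eq
    have h2 := hC _ hdV' hdt'
    -- `z' = z^j`
    have h3 : d = 1 ∨ d = j * z * j⁻¹ ∨ d * d = j * z * j⁻¹ := by
      rcases h2 with e | e | e
      · left
        calc d = j * (j⁻¹ * d * j) * j⁻¹ := by group
          _ = 1 := by rw [e]; group
      · right; left
        rw [← e]; group
      · right; right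
        rw [← e]; group
    have zz' : j * z * j⁻¹ * (j * z * j⁻¹) = 1 := by
      calc j * z * j⁻¹ * (j * z * j⁻¹) = j * (z * z) * j⁻¹ := by group
        _ = 1 := by rw [zz]; group
    have z1' : j * z * j⁻¹ ≠ 1 := by
      rw [Ne, conj_eq_one_iff]
      exact z1
    rcases h1 with e | e | e
    · exact hd1 e
    · rcases h3 with e' | e' | e'
      · exact hd1 e'
      · exact hz (e'.symm.trans e)
      · rw [e, zz] at e'; exact z1' e'.symm
    · rcases h3 with e' | e' | e'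
      · exact hd1 e'
      · rw [e', zz'] at e; exact z1 e.symm
      · exact hz (e'.symm.trans e)
  -- they commute
  have hcomm : ∀ x ∈ V, ∀ y ∈ V, x * (j * y * j⁻¹) = (j * y * j⁻¹) * x := by
    intro x hx y hy
    have h1 : x * (j * y * j⁻¹) * x⁻¹ * (j * y * j⁻¹)⁻¹ ∈ V ⊓ V' := by
      constructor
      · have h2 := nV _ (hB y hy) x⁻¹ (V.inv_mem hx)
        have h3 := V.mul_mem hx h2
        have h4 : x * (j * y * j⁻¹ * x⁻¹ * (j * y * j⁻¹)⁻¹) = x * (j * y * j⁻¹) * x⁻¹ * (j * y * j⁻¹)⁻¹ := by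
          group
        rwa [h4] at h3
      · refine (mV' _).2 ?_
        have h2 := nV _ (hA x hx) y hy
        have h3 := V.mul_mem h2 (V.inv_mem hy)
        have h4 : j⁻¹ * x * j * y * (j⁻¹ * x * j)⁻¹ * y⁻¹ =
            j⁻¹ * (x * (j * y * j⁻¹) * x⁻¹ * (j * y * j⁻¹)⁻¹) * j := by group
        rwa [h4] at h3
    rw [hD, mem_bot, mul_inv_eq_one, mul_inv_eq_iff_eq_mul] at h1
    exact h1
  intro x hx
  have c1 : Commute (j * x * j⁻¹) (u⁻¹ * t) := (hcomm _ cV x hx).symm
  have c2 : Commute (j * x * j⁻¹) u := hBu x hx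
  have c3 : Commute (j * x * j⁻¹) t := by
    have h1 := c2.mul_right c1
    rwa [mul_inv_cancel_left] at h1
  have c4 : Commute j t := jt
  have c5 : Commute (j⁻¹ * (j * x * j⁻¹) * j) t := (c4.inv_left.mul_left c3).mul_left c4
  have e : j⁻¹ * (j * x * j⁻¹) * j = x := by group
  rw [e] at c5
  exact c5.eq

end Cfsg.Agent.OddHalf.D8.HS.NoQuat
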