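import Cfsg.Agent.OddHalf.D8.HS.Glue

/-!
# ODD half, D8: the row `K = HS` (helper702)

`row_of`: the row from
* `hK`: every group `K` isomorphic to `HS` has the fact sheet `SheetHS` (helper473);
* `hM`: `C_G(z)` has no component (case (M); helper896, helper970);
* `hE`: no involution `z` of `G` with `F*(C_G(z))` of symplectic type and not extraspecial (S1758; helper970).
-/

set_option autoImplicit false

namespace Cfsg.Agent.OddHalf.D8.HS.Row

open Subgroup Cfsg Cfsg.Agent.OddHalf.Front.FE Cfsg.Agent.OddHalf.D8.Sheet Cfsg.Agent.OddHalf.D8.GlueE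
  Cfsg.Agent.OddHalf.D8.Front Cfsg.Agent.OddHalf.D8.HS.SheetHS

universe u

/-- Case (M): `C_G(z)` has no component. -/
def NoComp : Prop :=
  ∀ (G : Type u) [Group G], Iface.Ctx G → ∀ (K : Subgroup G) (t q : G) (z v k : K) (P R : Subgroup K),
    Out K t q z P → SheetHS z v k P R →
    ∀ M : Subgroup ↥(centralizer ({(z : G)} : Set G)), ¬ IsComponent M

/-- `F*(C_G(z))` is not of symplectic type, unless extraspecial. -/
def Elim : Prop :=
  ∀ (G : Type u) [Group G], Iface.Ctx G → ∀ z : G, orderOf z = 2 →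
    IsOfSymplecticType ↥(generalizedFittingSubgroup ↥(centralizer ({z} : Set G))) →
    ¬ IsExtraspecial 2 ↥(generalizedFittingSubgroup ↥(centralizer ({z} : Set G))) → False

/-- a group with a sheet has no central 2-elements -/
theorem center_eq_bot {K : Type*} [Group K] [Finite K] {z v k : K} {P R : Subgroup K}
    (sh : SheetHS z v k P R) (h2 : IsPGroup 2 ↥(center K)) : center K = ⊥ := by
  rw [eq_bot_iff]
  intro y hy
  rw [mem_bot]
  obtain ⟨S, -, -, hcS⟩ := sh.syl
  have h3 : (center K : Subgroup K) ≤ S := by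
    have h4 : IsPGroup 2 ((center K ⊔ S : Subgroup K)) := h2.to_sup_of_normal_left S.isPGroup'
    have h5 := S.is_maximal' h4 le_sup_right
    exact (le_sup_left : center K ≤ center K ⊔ S).trans h5.le
  rcases hcS y (h3 hy) (fun x _ => mem_center_iff.1 hy x) with e | e
  · exact e
  · exfalso
    apply sh.kP
    have h4 : k⁻¹ * z * k = z := by
      rw [← e, mul_assoc, ← mem_center_iff.1 hy k]; group
    rw [h4]
    exact sh.basic.zP

/-- **the row of `HS`** -/
theorem row_of (hM : NoComp.{u}) (hE : Elim.{u}) {X : (K : Type u) → [Group K] → Prop}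
    (hK : ∀ (K : Type u) [Group K], Finite K → X K →
      ∃ (z v k : K) (P R : Subgroup K), SheetHS z v k P R) : Rows.Row.{u} X := by
  intro G _ C K S hcyc hX
  have hfin := C.fin
  obtain ⟨z, v, k, P, R, sh⟩ := hK K inferInstance hX
  obtain ⟨t, q, st⟩ := exists_start C S hcyc (center_eq_bot sh S.z2)
  have o : Out K t q z P := MainE.out_of_emb C ⟨st, sh.basic⟩
  obtain ⟨h1, h2⟩ := Glue.concl C o sh (hM G C K t q z v k P R o sh)
  exact hE G C z (MainE.orderOf_z o.emb) h1 h2

end Cfsg.Agent.OddHalf.D8.HS.Row
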