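import Cfsg.Agent.OddHalf.D8.HS.CompV
import Cfsg.Agent.OddHalf.D8.HS.GlueM
import Cfsg.Agent.OddHalf.D8.HS.NoQuat
import Cfsg.Agent.OddHalf.D8.HS.Row
import Cfsg.Agent.OddHalf.D8.HS.Elim
import Cfsg.Agent.OddHalf.CaseM.End

/-!
# ODD half, D8, `K = HS`, case (M): the end, and the row (helper970)

`noComp`: `C_G(z)` has no component. `row`: the row `HS` of D8.
-/

set_option autoImplicit false

namespace Cfsg.Agent.OddHalf.D8.HS.EndM

open Subgroup Cfsg Cfsg.Agent.OddHalf.Front.FE Cfsg.Agent.OddHalf.D8.Sheet Cfsg.Agent.OddHalf.D8.GlueE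
  Cfsg.Agent.OddHalf.D8.Front Cfsg.Agent.OddHalf.D8.HS.SheetHS Cfsg.Agent.OddHalf.Iface
open Cfsg.Agent.OddHalf.CaseM (toX mem_toX map_le_cent map_toX compOf_map sch_of_comp even_card
  le_sup_centralizer rank_two)
open Cfsg.Agent.OddHalf.D8.HS.GlueM (SheetHSM)
open Cfsg.Agent.Schreier.Basic
open Cfsg.Agent.Cit (cj mem_cj conj_mem_cj conj_mem_cj_iff)

universe u

variable {G : Type u} [Group G]

/-! ### standard subgroups -/

theorem standard [Finite G] {z : G} (hz : orderOf z = 2) {M : Subgroup G} (hM : CompOf z M) (hzM : z ∈ M)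
    (hcyc : IsCyclic ↥(centralizer (M : Set G))) : IsStandardSubgroup M := by
  have hzc : z ∈ centralizer (M : Set G) := by
    rw [mem_centralizer_iff]
    intro x hx
    exact mem_centralizer_singleton_iff.1 (hM.1 hx)
  have hcomm : ∀ x ∈ centralizer (M : Set G), ∀ y ∈ centralizer (M : Set G), x * y = y * x := by
    intro x hx y hy
    have h1 : IsMulCommutative ↥(centralizer (M : Set G)) := IsCyclic.isMulCommutative
    exact congrArg Subtype.val (h1.is_comm.comm (⟨x, hx⟩ : centralizer (M : Set G)) ⟨y, hy⟩)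
  refine Cfsg.Agent.S1306.result z hz M hM.1 hM.2 ?_ ?_
  · intro y hy hyM
    -- `y = z`
    have h1 : y = z := by
      classical
      have : Fintype ↥(centralizer (M : Set G)) := Fintype.ofFinite _
      have h2 := IsCyclic.card_pow_eq_one_le (α := ↥(centralizer (M : Set G))) (n := 2) (by norm_num)
      by_contra hne
      have hy1 : y ≠ 1 := by
        rintro rfl
        rw [orderOf_one] at hy
        omega
      have hz1 : z ≠ 1 := by
        rintro rfl
        rw [orderOf_one] at hz
        omega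
      have hy2 : y ^ 2 = 1 := by rw [← hy]; exact pow_orderOf_eq_one y
      have hz2 : z ^ 2 = 1 := by rw [← hz]; exact pow_orderOf_eq_one z
      have h3 : ({1, ⟨y, hyM⟩, ⟨z, hzc⟩} : Finset ↥(centralizer (M : Set G))) ⊆
          Finset.univ.filter (fun a => a ^ 2 = 1) := by
        intro x hx
        rw [Finset.mem_filter]
        refine ⟨Finset.mem_univ x, ?_⟩
        rw [Finset.mem_insert, Finset.mem_insert, Finset.mem_singleton] at hx
        rcases hx with e | e | e <;> rw [e]
        · exact one_pow 2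
        · exact Subtype.ext hy2
        · exact Subtype.ext hz2
      have h4 := (Finset.card_le_card h3).trans h2
      rw [Finset.card_eq_three.2 ⟨1, ⟨y, hyM⟩, ⟨z, hzc⟩, fun e => hy1 (congrArg Subtype.val e).symm,
        fun e => hz1 (congrArg Subtype.val e).symm, fun e => hne (congrArg Subtype.val e), rfl⟩] at h4
      omega
    rw [h1]
    exact hM
  · intro g hg hcom
    have hq : IsQuasisimple ↥M := Soft.CompOf.quasisimple hM
    have h1 : M.map (MulAut.conj g).toMonoidHom ≤ centralizer (M : Set G) := by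
      rw [← commutator_eq_bot_iff_le_centralizer, commutator_comm]
      exact hcom
    -- `M` is abelian
    have h2 : ∀ x ∈ M, ∀ y ∈ M, x * y = y * x := by
      intro x hx y hy
      have h3 : g * x * g⁻¹ ∈ centralizer (M : Set G) := h1 ⟨x, hx, rfl⟩
      have h4 : g * y * g⁻¹ ∈ centralizer (M : Set G) := h1 ⟨y, hy, rfl⟩
      have h5 := hcomm _ h3 _ h4
      have h6 : g * (x * y) * g⁻¹ = g * (y * x) * g⁻¹ := by
        calc g * (x * y) * g⁻¹ = (g * x * g⁻¹) * (g * y * g⁻¹) := by group
          _ = (g * y * g⁻¹) * (g * x * g⁻¹) := h5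
          _ = g * (y * x) * g⁻¹ := by group
      exact mul_left_cancel (mul_right_cancel h6)
    apply Cfsg.Agent.SignalizersComponents.Components.quasisimple_not_isSolvable hq
    exact Group.isSolvable_of_comm fun x y => Subtype.ext (h2 x x.2 y y.2)

/-! ### the end -/

variable {K : Subgroup G} {t q : G} {z v k : K} {P R : Subgroup K}

theorem vz (sh : SheetHS z v k P R) : (v : G) * z = z * v :=
  congrArg Subtype.val (sh.basic.cen v (sh.RP sh.uR))

/-- `P ≤ M` for every component `M` of `C_G(z)` -/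
theorem main_comp (C : Ctx G) (hSch : Cfsg.Agent.Schreier.Cases.SchFor.{u} @IsKnownSimple')
    (hGW : SylowSp4.Hyps.GW.{u}) (o : Out K t q z P) (sh : SheetHS z v k P R) (m : SheetHSM z v k P R)
    {M : Subgroup ↥(centralizer ({(z : G)} : Set G))} (hM : IsComponent M) : toX z P ≤ M := by
  have hfin := C.fin
  have h := GlueM.hyp o sh m (vz sh)
  have hz := D8.MainE.orderOf_z o.emb
  have hcomp := compOf_map hM
  have hSchM : Sch (↥M ⧸ center ↥M) := by
    have e : ↥(M.map (centralizer ({(z : G)} : Set G)).subtype) ≃* ↥M :=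
      (M.equivMapOfInjective _ (centralizer ({(z : G)} : Set G)).subtype_injective).symm
    exact Cfsg.Agent.Schreier.Balance.sch_center_quotient e (sch_of_comp C hSch hz hcomp)
  have hev : 2 ∣ Nat.card M := by
    have h1 := even_card C hz hcomp
    rwa [Nat.card_congr (M.equivMapOfInjective _
      (centralizer ({(z : G)} : Set G)).subtype_injective).toEquiv.symm] at h1
  rcases h.main hM (fun hn => le_sup_centralizer hM.2.1 hSchM h.Pperf hn) hev with ⟨hzM, huniq⟩ | hP
  · exfalso
    refine rank_two C hGW hz hcomp ⟨_, hzM, rfl⟩ ?_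
    intro E _ hE
    have hEz : ∀ x ∈ E, x = 1 ∨ ((x : ↥(M.map (centralizer ({(z : G)} : Set G)).subtype)) : G) = z := by
      intro x hx
      obtain ⟨y, hy, hyx⟩ := x.2
      have h1 : ((x : ↥(M.map (centralizer ({(z : G)} : Set G)).subtype)) : G) *
          ((x : ↥(M.map (centralizer ({(z : G)} : Set G)).subtype)) : G) = 1 := by
        have := congrArg Subtype.val (hE x hx)
        rw [pow_two] at this
        exact this
      rcases huniq y hy (by
        apply Subtype.ext
        change (y : G) * y = 1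
        have hyx' : (y : G) = ((x : ↥(M.map (centralizer ({(z : G)} : Set G)).subtype)) : G) := hyx
        rw [hyx']; exact h1) with e | e
      · left
        apply Subtype.ext
        rw [← hyx, e]; rfl
      · right
        rw [← hyx, e]; rfl
    have hle : E ≤ zpowers (⟨z, ⟨_, hzM, rfl⟩⟩ : ↥(M.map (centralizer ({(z : G)} : Set G)).subtype)) := by
      intro x hx
      rcases hEz x hx with e | e
      · rw [e]; exact one_mem _
      · have : x = ⟨z, ⟨_, hzM, rfl⟩⟩ := Subtype.ext e
        rw [this]; exact mem_zpowers _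
    have hcard := Subgroup.card_le_of_le hle
    rw [Nat.card_zpowers] at hcard
    have ho : orderOf (⟨z, ⟨_, hzM, rfl⟩⟩ : ↥(M.map (centralizer ({(z : G)} : Set G)).subtype)) = 2 := by
      rw [← Subgroup.orderOf_coe]; exact hz
    rw [ho] at hcard
    exact hcard
  · exact hP

theorem sq_mul {X : Type*} [Group X] {c z : X} (h : c * z = z * c) (zz : z * z = 1) (cc : c * c = z) :
    c * z * (c * z) = z := by
  calc c * z * (c * z) = c * (z * c) * z := by group
    _ = c * (c * z) * z := by rw [h]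
    _ = (c * c) * (z * z) := by group
    _ = z := by rw [cc, zz, mul_one]

/-- a normal 2-subgroup of `C(M)` containing `v⁻¹ t` centralises `t` -/
theorem vt [Finite G] (o : Out K t q z P) (sh : SheetHS z v k P R) (m : SheetHSM z v k P R)
    {M : Subgroup ↥(centralizer ({(z : G)} : Set G))} (hP : toX z P ≤ M)
    {V : Subgroup ↥(centralizer ({(z : G)} : Set G))} (hVn : V.Normal)
    (hVM : V ≤ centralizer (M : Set ↥(centralizer ({(z : G)} : Set G)))) (hV2 : IsPGroup 2 V)
    (hcV : (⟨v, mem_centralizer_singleton_iff.2 (vz sh)⟩ : ↥(centralizer ({(z : G)} : Set G)))⁻¹ *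
      ⟨t, mem_centralizer_singleton_iff.2 o.emb.comm⟩ ∈ V)
    (hVt : ∀ y ∈ V, y * ⟨t, mem_centralizer_singleton_iff.2 o.emb.comm⟩ =
      ⟨t, mem_centralizer_singleton_iff.2 o.emb.comm⟩ * y → y ∈ zpowers
      ((⟨v, mem_centralizer_singleton_iff.2 (vz sh)⟩ : ↥(centralizer ({(z : G)} : Set G)))⁻¹ *
      ⟨t, mem_centralizer_singleton_iff.2 o.emb.comm⟩)) :
    ∀ y ∈ V, y * ⟨t, mem_centralizer_singleton_iff.2 o.emb.comm⟩ =
      ⟨t, mem_centralizer_singleton_iff.2 o.emb.comm⟩ * y := by
  have h := GlueM.hyp o sh m (vz sh)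
  have he := o.emb
  obtain ⟨j, hj, hjz⟩ := m.cj
  have hzpow := @CompM.Hyp.mem_four _ _ _ _ _ _ _ h _ h.c_sq
  have hj' : j⁻¹ * v * j * v = v * (j⁻¹ * v * j) := by
    calc j⁻¹ * v * j * v = j⁻¹ * (v * (j * v * j⁻¹)) * j := by group
      _ = j⁻¹ * (j * v * j⁻¹ * v) * j := by rw [hj]
      _ = v * (j⁻¹ * v * j) := by group
  have key := NoQuat.comm_t (t := t) (z := (z : G)) (u := (v : G)) (j := (j : G))
    (V := V.map (centralizer ({(z : G)} : Set G)).subtype) (P := P.map K.subtype) he.st.tt
    (congrArg Subtype.val sh.uu) he.zz he.z1 (he.st.Kt v v.2) (he.st.Kt j j.2)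
    (fun e => hjz (Subtype.ext e)) ⟨_, (sh.memP _).2 hj, rfl⟩ ⟨_, (sh.memP _).2 hj', rfl⟩ (by
      rintro g hg _ ⟨x, hx, rfl⟩
      exact ⟨⟨g, mem_centralizer_singleton_iff.2 hg⟩ * x * ⟨g, mem_centralizer_singleton_iff.2 hg⟩⁻¹,
        hVn.conj_mem x hx _, rfl⟩) (hV2.map _) (by
      rintro _ ⟨p, hp, rfl⟩ _ ⟨x, hx, rfl⟩
      have hpM : (⟨p, map_le_cent sh.basic.cen ⟨p, hp, rfl⟩⟩ : ↥(centralizer ({(z : G)} : Set G))) ∈ M :=
        hP ⟨p, hp, rfl⟩
      exact (congrArg Subtype.val (mem_centralizer_iff.1 (hVM hx) _ hpM)).symm) ⟨_, hcV, rfl⟩ (by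
      rintro _ ⟨x, hx, rfl⟩ hxt
      have h1 := hVt x hx (Subtype.ext hxt)
      rcases hzpow.1 h1 with e | e | e | e
      · left; rw [e]; rfl
      · right; left; rw [e]; rfl
      · right; right
        rw [e]
        exact congrArg Subtype.val h.c_sq
      · right; right
        have h2 := h.zc ((⟨v, mem_centralizer_singleton_iff.2 (vz sh)⟩ : ↥(centralizer ({(z : G)} : Set G)))⁻¹ *
          ⟨t, mem_centralizer_singleton_iff.2 o.emb.comm⟩)
        have h3 : x * x = ⟨z, mem_centralizer_singleton_iff.2 rfl⟩ := by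
          rw [e]
          exact sq_mul h2 h.zz h.c_sq
        exact congrArg Subtype.val h3)
  intro y hy
  exact Subtype.ext (key _ ⟨y, hy, rfl⟩)

/-- **case (M)** -/
theorem noComp (hSch : Cfsg.Agent.Schreier.Cases.SchFor.{u} @IsKnownSimple')
    (hGW : SylowSp4.Hyps.GW.{u}) (hI : Iface.Intr2.{u}) (hS : CaseM.IntrSign.{u}) (C : Ctx G)
    (o : Out K t q z P) (sh : SheetHS z v k P R) (m : SheetHSM z v k P R)
    (M : Subgroup ↥(centralizer ({(z : G)} : Set G))) : ¬ IsComponent M := by
  intro hM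
  have hfin := C.fin
  have hsimp := C.simple
  have h := GlueM.hyp o sh m (vz sh)
  have hz := D8.MainE.orderOf_z o.emb
  have hcomp := compOf_map hM
  have htH : t ∈ centralizer ({(z : G)} : Set G) := mem_centralizer_singleton_iff.2 o.emb.comm
  have hP := main_comp C hSch hGW o sh m hM
  have T : CompM.Hyp.Top ⟨z, mem_centralizer_singleton_iff.2 rfl⟩
      ⟨t, mem_centralizer_singleton_iff.2 o.emb.comm⟩
      ⟨v, mem_centralizer_singleton_iff.2 (vz sh)⟩ (toX z P) M :=
    { hM := hM
      PM := hP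
      uniq := by
        intro L hL
        by_contra hne
        have hPL := main_comp C hSch hGW o sh m hL
        obtain ⟨a, ha, b, hb, hab⟩ := h.Rna
        exact hab (Cfsg.Agent.Cit.Comp.comm_of_ne hL hM hne (hPL (h.RP ha)) (hP (h.RP hb)))
      core := MainE.core_eq_bot C hz
      TR := by
        intro lam
        have h1 : commutator (centralizer ({(z : G)} : Set G)) ≤ lam.ker := Abelianization.commutator_subset_ker lam
        exact h1 o.com
      vt := fun V hVn hVM hV2 hcV hVt => vt o sh m hP hVn hVM hV2 hcV hVt }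
  have hzM : (z : G) ∈ M.map (centralizer ({(z : G)} : Set G)).subtype :=
    ⟨⟨z, mem_centralizer_singleton_iff.2 rfl⟩, hP ⟨z, sh.basic.zP, rfl⟩, rfl⟩
  rcases h.main2 T with ⟨y, hy⟩ | htM
  · -- cyclic
    have hcent : centralizer ((M.map (centralizer ({(z : G)} : Set G)).subtype : Subgroup G) : Set G) =
        zpowers (y : G) := by
      apply le_antisymm
      · intro g hg
        have hgM : ∀ x ∈ M, (x : G) * g = g * x := fun x hx => mem_centralizer_iff.1 hg x ⟨x, hx, rfl⟩
        have hgz : g * z = z * g := (mem_centralizer_iff.1 hg z hzM).symm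
        have h1 : (⟨g, mem_centralizer_singleton_iff.2 hgz⟩ : ↥(centralizer ({(z : G)} : Set G))) ∈
            centralizer (M : Set ↥(centralizer ({(z : G)} : Set G))) := by
          rw [mem_centralizer_iff]
          intro x hx
          exact Subtype.ext (hgM x hx)
        rw [hy] at h1
        obtain ⟨i, hi⟩ := mem_zpowers_iff.1 h1
        refine mem_zpowers_iff.2 ⟨i, ?_⟩
        rw [← SubgroupClass.coe_zpow, hi]
      · rw [zpowers_le, mem_centralizer_iff]
        rintro _ ⟨x, hx, rfl⟩
        have h1 : y ∈ centralizer (M : Set ↥(centralizer ({(z : G)} : Set G))) := by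
          rw [hy]; exact mem_zpowers y
        exact congrArg Subtype.val (mem_centralizer_iff.1 h1 x hx)
    have hcyc : IsCyclic ↥(centralizer ((M.map (centralizer ({(z : G)} : Set G)).subtype : Subgroup G) : Set G)) := by
      rw [hcent]; infer_instance
    refine hI G C _ (standard hz hcomp hzM hcyc) (fun _ => inferInstance) ⟨z, hz, hzM, ?_⟩
    rw [mem_centralizer_iff]
    intro x hx
    exact mem_centralizer_singleton_iff.1 (hcomp.1 hx)
  · -- `t ∉ M C(M)`
    have hrk := rank_two C hGW hz hcomp hzM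
    have hq := Soft.CompOf.quasisimple hcomp
    have hnt := Soft.CompOf.ne_top C.na hz hcomp
    have hkn := Known.known_quotient C.kproper _ hnt _ hq.2 (Soft.quo_na hq)
    have hn : ∀ g ∈ centralizer ({(z : G)} : Set G), ∀ x ∈ M.map (centralizer ({(z : G)} : Set G)).subtype,
        g * x * g⁻¹ ∈ M.map (centralizer ({(z : G)} : Set G)).subtype := by
      rintro g hg _ ⟨x, hx, rfl⟩
      exact ⟨⟨g, hg⟩ * x * ⟨g, hg⟩⁻¹, T.normal.conj_mem x hx _, rfl⟩
    have hperf : ⁅M.map (centralizer ({(z : G)} : Set G)).subtype,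
        M.map (centralizer ({(z : G)} : Set G)).subtype⁆ = M.map (centralizer ({(z : G)} : Set G)).subtype := by
      rw [← map_commutator, isPerfect_iff.1 hM.2.1]
    obtain ⟨lam, hlam, -, -⟩ := Table.exists_lam_sub hcomp.1 hn hperf (MulEquiv.refl _)
      (hS G C _ z hz hcomp hzM hrk hq.2 (Soft.quo_na hq) hkn) htH (by
        intro x _
        rw [o.emb.st.tt, one_mul, mul_one]) (by
        rintro _ ⟨x, hx, rfl⟩ c hc hcx e
        apply htM
        have e1 : (⟨t, htH⟩ : ↥(centralizer ({(z : G)} : Set G))) = x * ⟨c, hc⟩ := Subtype.ext e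
        rw [e1]
        refine mul_mem (mem_sup_left hx) (mem_sup_right ?_)
        rw [mem_centralizer_iff]
        intro y hy
        exact Subtype.ext (hcx y ⟨y, hy, rfl⟩).symm)
    have h2 : lam ⟨t, htH⟩ = 1 := T.TR lam
    rw [h2] at hlam
    exact absurd hlam (by decide)

/-- **the row of `HS`** -/
theorem row (hSch : Cfsg.Agent.Schreier.Cases.SchFor.{u} @IsKnownSimple')
    (hGW : SylowSp4.Hyps.GW.{u}) (hI : Iface.Intr2.{u}) (hS : CaseM.IntrSign.{u})
    (hR : Small.Excl.Rows) (h58 : Elim.P1758.{u}) {X : (K : Type u) → [Group K] → Prop}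
    (hK : ∀ (K : Type u) [Group K], Finite K → X K →
      ∃ (z v k : K) (P R : Subgroup K), SheetHS z v k P R ∧ SheetHSM z v k P R) : Rows.Row.{u} X := by
  intro G _ C K S hcyc hX
  have hfin := C.fin
  obtain ⟨z, v, k, P, R, sh, m⟩ := hK K inferInstance hX
  obtain ⟨t, q, st⟩ := exists_start C S hcyc (Row.center_eq_bot sh S.z2)
  have o : Out K t q z P := MainE.out_of_emb C ⟨st, sh.basic⟩
  obtain ⟨h1, h2⟩ := Glue.concl C o sh (noComp hSch hGW hI hS C o sh m)
  exact Elim.false_of_symplectic hR h58 C (MainE.orderOf_z o.emb) h1 h2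

end Cfsg.Agent.OddHalf.D8.HS.EndM
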